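import Cfsg.Agent.H783.InvSL
import Cfsg.Agent.H868.KSL2
import Cfsg.Agent.H120.SLHom
import Cfsg.Agent.H343.WitTri
import Cfsg.Agent.ChevFast.E7
import Cfsg.Agent.ChevFast.E8
import Cfsg.Agent.Prune
set_option linter.all false
prune_inst 0x7f00000000000000000000000000000000000000000000000000000000000000000000000000000000000000000000000000000000000000000000000000000000000000000000000000000000000000003fffffffffffffffffffffffffffbeffbdffffffff
open scoped Cfsg.Agent.FastGrp

/-!
# S5268, exceptional groups in cross characteristic, II (helper783)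

`(h : Pearly p n G)`, `(p : K) ≠ 0` : `G` is not isomorphic to `F₄(q)`, `E₆(q)`, `²E₆(q)`, `E₇(q)`, `E₈(q)`.

* `false_f4`, `false_e6`, `false_e7`, `false_e8`, `false_2e6`;
* `dinv_two` : two orthogonal roots, `p = 3`; `dinv_four` : two orthogonal subsystems of type `A₃`, `p = 5`;
  `dinv_2e6`.
-/

set_option autoImplicit false
set_option linter.unusedSectionVars false
set_option linter.unusedVariables false

namespace Cfsg.Agent.H783.ExoX2

open Matrix Cfsg Cfsg.Lie Cfsg.Lie.ChevalleyDatum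
open Cfsg.Agent.ChevalleyStructure Cfsg.Agent.ChevalleyStructure.Elts Cfsg.Agent.ChevalleyStructure.CoxeterGeom
  Cfsg.Agent.ChevalleyStructure.SL2Rep Cfsg.Agent.ChevalleyStructure.SL2Hom
  Cfsg.Agent.ChevalleyStructure.CoxeterGeomTypes
open Cfsg.Agent.Nodes.RGDChev
open Cfsg.Agent.TitsThree.KExcBase Cfsg.Agent.TitsThree.KExcRT Cfsg.Agent.AGraded
open Cfsg.Agent.H92.ExcSL2 (SL2 ph ph_eq_one ph_commute coe_ph phi_up phi_lo OrthB Orth4 commute_of_up_lo xG_commute)
open Cfsg.Agent.H789.Exo Cfsg.Agent.H783.InvSL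
open Cfsg.Agent.ETable.Exc Cfsg.Agent.H343

universe u v

/-! ### `p = 3` -/

/-- an element of 3-power order with square 1 -/
theorem eq_one_of_odd {G : Type u} [Group G] {p : ℕ} (hp : Odd p) {x : G} (h2 : x ^ 4 = 1) (hx : ∃ k : ℕ, x ^ p ^ k = 1) :
    x = 1 := by
  obtain ⟨k, hk⟩ := hx
  have h3 : Nat.Coprime (p ^ k) 4 := by
    have h4 : (4 : ℕ) = 2 ^ 2 := by norm_num
    rw [h4]
    exact Nat.Coprime.pow _ _ (Nat.coprime_two_right.2 hp)
  have h4 := orderOf_dvd_of_pow_eq_one hk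
  have h5 := orderOf_dvd_of_pow_eq_one h2
  exact orderOf_eq_one_iff.1 (Nat.eq_one_of_dvd_coprimes h3 h4 h5)

theorem ker_pm {K : Type u} [Field K] {G : Type v} [Group G] {p : ℕ} (hp : Odd p) (g : SL2 K →* G)
    (hg : ∀ x, g x = 1 → x = 1 ∨ x = -1) (x : SL2 K) (hx : ∃ k : ℕ, x ^ p ^ k = 1) (h : g x = 1) : x = 1 := by
  refine eq_one_of_odd hp ?_ hx
  rcases hg x h with rfl | rfl
  · exact one_pow 4
  · rw [show (4 : ℕ) = 2 * 2 by norm_num, pow_mul, neg_one_sq, one_pow]

section Chev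

variable {D : ChevalleyDatum} {F : Type u} [Field F] [Finite F]

/-- two orthogonal roots -/
theorem dinv_two (hD : InList D) (h3 : (3 : F) ≠ 0) {a b : ℕ} (ha : a < D.nroots) (hb : b < D.nroots)
    (h : Orth4 D a b = true) : DoubleInv 3 ↥(D.group F) :=
  DoubleInv.of_commute (hasInv_three F h3) (hasInv_three F h3) (ph hD ha) (ph hD hb)
    (fun x y => (ph_commute hD ha hb h x y).eq)
    (fun x => ker_pm (by decide) _ (fun _ => ph_eq_one hD ha) x)
    (fun x => ker_pm (by decide) _ (fun _ => ph_eq_one hD hb) x)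

/-- the homomorphism of an `A₃` subsystem -/
theorem exists_sl4 (hD : InList D) {r : Fin 4 → Fin 4 → ℕ} {s : Fin 4 → Fin 4 → ℤ} (ha : RTa D r) (hb : RTb D r s)
    (hc : RTc D r) (hd : RTd s) : ∃ π : SpecialLinearGroup (Fin 4) F →* ↥(D.group F),
    (∀ i j (hij : i ≠ j) a, ((π (SpecialLinearGroup.transvection hij a) : ↥(D.group F)) : GL D.Idx F) =
      xG hD (r i j) ((s i j : F) * a)) ∧
    π.ker ≤ Subgroup.center (SpecialLinearGroup (Fin 4) F) := by
  classical
  have hS := stein (F := F) hD ha hb hc hd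
  obtain ⟨π, hπ, _, hker⟩ := Cfsg.Agent.H120.SLHom.exists_hom (m := 3) (by norm_num) hS
  have hmem : ∀ g, π g ∈ D.group F := by
    intro g
    refine Cfsg.Agent.LieClassical.SLGen.transvection_induction (fun g => π g ∈ D.group F) ?_ ?_ g
    · intro i j hij c
      rw [hπ i j hij]
      exact xG_mem_group hD _ _
    · intro A B hA hB
      rw [map_mul]
      exact mul_mem hA hB
  refine ⟨π.codRestrict (D.group F) hmem, fun i j hij a => ?_, ?_⟩
  · exact hπ i j hij a
  · intro g hg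
    have h01 : (0 : Fin 4) ≠ 1 := by decide
    refine hker ⟨0, 1, h01, ((s 0 1 : ℤ) : F), ?_⟩ ?_
    · intro h
      have h1 := (xG_eq_one_iff hD (ha 0 1 h01) _).1 h
      rw [← Int.cast_mul, hd, Int.cast_one] at h1
      exact one_ne_zero h1
    · exact congrArg Subtype.val hg

omit [Finite F] in
theorem center_pow_four {x : SpecialLinearGroup (Fin 4) F} (hx : x ∈ Subgroup.center (SpecialLinearGroup (Fin 4) F)) :
    x ^ 4 = 1 := by
  obtain ⟨c, hc, hc'⟩ := Matrix.SpecialLinearGroup.mem_center_iff.1 hx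
  rw [Fintype.card_fin] at hc
  have h1 : ((x ^ 4 : SpecialLinearGroup (Fin 4) F) : Matrix (Fin 4) (Fin 4) F) = 1 := by
    rw [Matrix.SpecialLinearGroup.coe_pow, ← hc', ← map_pow, hc, map_one]
  exact Subtype.ext h1

/-- two orthogonal `A₃` subsystems -/
theorem dinv_four (hD : InList D) {r r' : Fin 4 → Fin 4 → ℕ} {s s' : Fin 4 → Fin 4 → ℤ} (ha : RTa D r)
    (hb : RTb D r s) (hc : RTc D r) (hd : RTd s) (ha' : RTa D r') (hb' : RTb D r' s') (hc' : RTc D r') (hd' : RTd s')
    (h : ∀ i j, i ≠ j → ∀ k l, k ≠ l → OrthB D (r i j) (r' k l) = true) : DoubleInv 5 ↥(D.group F) := by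
  obtain ⟨π, hπ, hker⟩ := exists_sl4 (F := F) hD ha hb hc hd
  obtain ⟨π', hπ', hker'⟩ := exists_sl4 (F := F) hD ha' hb' hc' hd'
  refine DoubleInv.of_commute (hasInv_five F) (hasInv_five F) π π' (fun x y => ?_)
    (fun x hx h1 => eq_one_of_odd (by decide) (center_pow_four (hker (MonoidHom.mem_ker.2 h1))) hx)
    (fun x hx h1 => eq_one_of_odd (by decide) (center_pow_four (hker' (MonoidHom.mem_ker.2 h1))) hx)
  apply Subtype.ext
  show (π x : GL D.Idx F) * (π' y : GL D.Idx F) = (π' y : GL D.Idx F) * (π x : GL D.Idx F)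
  refine Cfsg.Agent.LieClassical.SLGen.transvection_induction
    (fun x => (π x : GL D.Idx F) * (π' y : GL D.Idx F) = (π' y : GL D.Idx F) * (π x : GL D.Idx F)) ?_ ?_ x
  · intro i j hij c
    rw [hπ i j hij]
    refine Cfsg.Agent.LieClassical.SLGen.transvection_induction
      (fun y => xG hD (r i j) ((s i j : F) * c) * (π' y : GL D.Idx F) =
        (π' y : GL D.Idx F) * xG hD (r i j) ((s i j : F) * c)) ?_ ?_ y
    · intro k l hkl d
      rw [hπ' k l hkl]
      exact xG_commute hD (ha i j hij) (ha' k l hkl) (h i j hij k l hkl) _ _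
    · intro A B hA hB
      rw [map_mul, Subgroup.coe_mul, ← mul_assoc, hA, mul_assoc, hB, ← mul_assoc]
  · intro A B hA hB
    rw [map_mul, Subgroup.coe_mul, mul_assoc, hB, ← mul_assoc, hA, mul_assoc]

end Chev

/-! ### the tables -/

/-- `A₃` in `E₇`: `-θ, p₁, p₃` -/
def r7 : Fin 4 → Fin 4 → ℕ := ![![0, 0, 1, 2], ![125, 0, 93, 94], ![124, 32, 0, 73], ![123, 31, 52, 0]]
/-- signs -/
def s7 : Fin 4 → Fin 4 → ℤ := ![![1, 1, 1, 1], ![1, 1, 1, -1], ![1, 1, 1, 1], ![1, -1, 1, 1]]
/-- `A₃` in `E₇`: `p₅, p₆, p₇` -/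
def t7 : Fin 4 → Fin 4 → ℕ := ![![0, 66, 67, 68], ![59, 0, 64, 65], ![58, 61, 0, 63], ![57, 60, 62, 0]]
/-- signs -/
def u7 : Fin 4 → Fin 4 → ℤ := ![![1, 1, -1, 1], ![1, 1, 1, -1], ![-1, 1, 1, 1], ![1, -1, 1, 1]]
/-- `A₃` in `E₈`: `p₁, p₃, p₄` -/
def r8 : Fin 4 → Fin 4 → ℕ := ![![0, 162, 163, 164], ![77, 0, 135, 136], ![76, 104, 0, 130], ![75, 103, 109, 0]]
/-- `A₃` in `E₈`: `p₆, p₇, p₈` -/
def t8 : Fin 4 → Fin 4 → ℕ := ![![0, 123, 124, 125], ![116, 0, 121, 122], ![115, 118, 0, 120], ![114, 117, 119, 0]]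

theorem dinv_e7 {F : Type u} [Field F] [Finite F] : DoubleInv 5 ↥(chevE7.group F) :=
  dinv_four (D := chevE7) (by simp) (r := r7) (s := s7) (r' := t7) (s' := u7) (by decide +kernel) (by (refine of_decide_eq_true ?_; delta Cfsg.Agent.TitsThree.KExcRT.RTb Cfsg.Agent.TitsThree.KExcRT.instDecidableRTb; rewrite [Cfsg.Agent.ChevFast.E7.commTerms, Cfsg.Agent.ChevFast.E7.neg]; decide +kernel))
    (by (refine of_decide_eq_true ?_; delta Cfsg.Agent.TitsThree.KExcRT.RTc Cfsg.Agent.TitsThree.KExcRT.instDecidableRTc; rewrite [Cfsg.Agent.ChevFast.E7.commTerms, Cfsg.Agent.ChevFast.E7.neg]; decide +kernel)) (by decide +kernel) (by decide +kernel) (by (refine of_decide_eq_true ?_; delta Cfsg.Agent.TitsThree.KExcRT.RTb Cfsg.Agent.TitsThree.KExcRT.instDecidableRTb; rewrite [Cfsg.Agent.ChevFast.E7.commTerms, Cfsg.Agent.ChevFast.E7.neg]; decide +kernel)) (by (refine of_decide_eq_true ?_; delta Cfsg.Agent.TitsThree.KExcRT.RTc Cfsg.Agent.TitsThree.KExcRT.instDecidableRTc; rewrite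 [Cfsg.Agent.ChevFast.E7.commTerms, Cfsg.Agent.ChevFast.E7.neg]; decide +kernel))
    (by decide +kernel) (by (delta Cfsg.Agent.H92.ExcSL2.OrthB; rewrite [Cfsg.Agent.ChevFast.E7.commTerms, Cfsg.Agent.ChevFast.E7.neg]; decide +kernel))

theorem dinv_e8 {F : Type u} [Field F] [Finite F] : DoubleInv 5 ↥(chevE8.group F) :=
  dinv_four (D := chevE8) (by simp) (r := r8) (s := u7) (r' := t8) (s' := u7) (by decide +kernel) (by (refine of_decide_eq_true ?_; delta Cfsg.Agent.TitsThree.KExcRT.RTb Cfsg.Agent.TitsThree.KExcRT.instDecidableRTb; rewrite [Cfsg.Agent.ChevFast.E8.commTerms, Cfsg.Agent.ChevFast.E8.neg]; decide +kernel))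
    (by (refine of_decide_eq_true ?_; delta Cfsg.Agent.TitsThree.KExcRT.RTc Cfsg.Agent.TitsThree.KExcRT.instDecidableRTc; rewrite [Cfsg.Agent.ChevFast.E8.commTerms, Cfsg.Agent.ChevFast.E8.neg]; decide +kernel)) (by decide +kernel) (by decide +kernel) (by (refine of_decide_eq_true ?_; delta Cfsg.Agent.TitsThree.KExcRT.RTb Cfsg.Agent.TitsThree.KExcRT.instDecidableRTb; rewrite [Cfsg.Agent.ChevFast.E8.commTerms, Cfsg.Agent.ChevFast.E8.neg]; decide +kernel)) (by (refine of_decide_eq_true ?_; delta Cfsg.Agent.TitsThree.KExcRT.RTc Cfsg.Agent.TitsThree.KExcRT.instDecidableRTc; rewrite [Cfsg.Agent.ChevFast.E8.commTerms, Cfsg.Agent.ChevFast.E8.neg]; decide +kernel))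
    (by decide +kernel) (by (delta Cfsg.Agent.H92.ExcSL2.OrthB; rewrite [Cfsg.Agent.ChevFast.E8.commTerms, Cfsg.Agent.ChevFast.E8.neg]; decide +kernel))

/-! ### `²E₆(q)` -/

section Prod

variable {K : Type u} [Field K] {G : Type v} [Group G]

/-- the product of commuting homomorphisms -/
def prodHom {A : Type*} [Group A] (f g : A →* G) (h : ∀ a b, f a * g b = g b * f a) : A →* G :=
  MonoidHom.mk' (fun a => f a * g a) (by
    intro a b
    rw [map_mul, map_mul, mul_assoc, ← mul_assoc (f b), h b a, mul_assoc, mul_assoc])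

theorem prodHom_apply {A : Type*} [Group A] (f g : A →* G) (h : ∀ a b, f a * g b = g b * f a) (a : A) :
    prodHom f g h a = f a * g a := rfl

theorem prodHom_ker (f g : Matrix.SpecialLinearGroup (Fin 2) K →* G) (h : ∀ a b, f a * g b = g b * f a)
    (hf : ∀ x, f x = 1 → x = 1 ∨ x = -1) (x : Matrix.SpecialLinearGroup (Fin 2) K) (hx : prodHom f g h x = 1) :
    x = 1 ∨ x = -1 := by
  rw [prodHom_apply, mul_eq_one_iff_eq_inv] at hx
  apply Tri.eq_one_or_of_comm
  intro y
  apply hf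
  have c1 : Commute (f y) (g x) := h y x
  have c2 : Commute (f y) (f x) := by
    rw [hx]
    exact c1.inv_right
  rw [map_mul, map_mul, map_mul, map_inv, map_inv, mul_inv_eq_one, mul_inv_eq_iff_eq_mul, c2.eq]

end Prod

section Root

variable {D : ChevalleyDatum} {F : Type u} [Field F] (hD : InList D)

theorem rootHom_comm {P P' : Type*} [Field P] [Field P'] (c : P →+* F) (c' : P' →+* F) {r s : ℕ}
    (hr : r < D.nroots) (hs : s < D.nroots) (hrs : SO D r s)
    (a : Matrix.SpecialLinearGroup (Fin 2) P) (b : Matrix.SpecialLinearGroup (Fin 2) P') :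
    rootHom₀ hD c hr a * rootHom₀ hD c' hs b = rootHom₀ hD c' hs b * rootHom₀ hD c hr a := by
  refine closure_comm _ _ (closure_gens P) (closure_gens P') ?_ a b
  intro a ha b hb
  obtain ⟨h1, h2, h3, h4⟩ := hrs
  rcases ha with ⟨t, rfl⟩ | ⟨t, rfl⟩ <;> rcases hb with ⟨u, rfl⟩ | ⟨u, rfl⟩
  · rw [rootHom₀_up, rootHom₀_up]; exact comm_of_so hD h1 _ _
  · rw [rootHom₀_up, rootHom₀_lo]; exact comm_of_so hD h2 _ _
  · rw [rootHom₀_lo, rootHom₀_up]; exact comm_of_so hD h3 _ _
  · rw [rootHom₀_lo, rootHom₀_lo]; exact comm_of_so hD h4 _ _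

theorem rootHom_ker {P : Type*} [Field P] (c : P →+* F) {r : ℕ} (hr : r < D.nroots)
    (x : Matrix.SpecialLinearGroup (Fin 2) P) (hx : rootHom₀ hD c hr x = 1) : x = 1 ∨ x = -1 := by
  have hR : RootIn hD c (⊤ : Subgroup (GL D.Idx F)) r := ⟨hr, fun _ => trivial, fun _ => trivial⟩
  exact hR.ker (Subtype.ext hx)

end Root

section E6

variable {K : Type u} [Field K] {q : ℕ}

theorem single_mem {t : K} (ht : t ^ q = t) {a : ℕ} (ha : a ∈ [46, 25, 39, 32]) :
    xG inList_E6 a t ∈ twistedE6 K q := by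
  refine Subgroup.subset_closure ⟨[(a, t)], Or.inl ⟨t, ht, a, ha, rfl⟩, ?_⟩
  rw [coe_xG]
  simp [ChevalleyDatum.wordMat]

theorem pair_mem (t : K) {a b : ℕ} (h : (a, b) ∈ [(56, 36), (15, 35), (42, 37), (29, 34)]) :
    xG inList_E6 a t * xG inList_E6 b (t ^ q) ∈ twistedE6 K q := by
  refine Subgroup.subset_closure ⟨[(a, t), (b, t ^ q)], Or.inr ⟨t, (a, b), h, rfl⟩, ?_⟩
  rw [Units.val_mul, coe_xG, coe_xG]
  simp [ChevalleyDatum.wordMat]

theorem l56 : 56 < chevE6.nroots := by decide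
theorem l36 : 36 < chevE6.nroots := by decide
theorem l46 : 46 < chevE6.nroots := by decide
theorem so_56_36 : SO chevE6 56 36 := by decide +kernel
theorem so_56_46 : SO chevE6 56 46 := by decide +kernel
theorem so_36_46 : SO chevE6 36 46 := by decide +kernel

/-- `SL₂(q²)` in `²E₆(q)` -/
noncomputable def psi (φ : K →+* K) : Matrix.SpecialLinearGroup (Fin 2) K →* GL chevE6.Idx K :=
  prodHom (rootHom₀ inList_E6 (RingHom.id K) l56) (rootHom₀ inList_E6 φ l36)
    (rootHom_comm inList_E6 (RingHom.id K) φ l56 l36 so_56_36)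

theorem psi_mem {φ : K →+* K} (hφ : ∀ x, φ x = x ^ q) (g : Matrix.SpecialLinearGroup (Fin 2) K) :
    psi φ g ∈ twistedE6 K q := by
  have hg : g ∈ Subgroup.closure (gens K) := by rw [closure_gens]; trivial
  induction hg using Subgroup.closure_induction with
  | mem x hx =>
    rcases hx with ⟨t, rfl⟩ | ⟨t, rfl⟩
    · have h := pair_mem (K := K) (q := q) t (a := 56) (b := 36) (by simp)
      have e : psi φ (up t) = xG inList_E6 56 t * xG inList_E6 36 (t ^ q) := by
        rw [psi, prodHom_apply, rootHom₀_up, rootHom₀_up, hφ]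
        rfl
      rw [e]; exact h
    · have h := pair_mem (K := K) (q := q) t (a := 15) (b := 35) (by simp)
      have e : psi φ (lo t) = xG inList_E6 15 t * xG inList_E6 35 (t ^ q) := by
        rw [psi, prodHom_apply, rootHom₀_lo, rootHom₀_lo, hφ, show chevE6.neg 56 = 15 by decide,
          show chevE6.neg 36 = 35 by decide]
        rfl
      rw [e]; exact h
  | one => rw [map_one]; exact Subgroup.one_mem _
  | mul x y _ _ hx hy => rw [map_mul]; exact Subgroup.mul_mem _ hx hy
  | inv x _ hx => rw [map_inv]; exact Subgroup.inv_mem _ hx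

end E6

/-- `²E₆(q)` contains commuting `SL₂(q²)` and `SL₂(q)` -/
theorem dinv_2e6 {K : Type} [Field K] [Fintype K] (h3 : (3 : K) ≠ 0) {q : ℕ} (hq : IsPrimePow q)
    (hK : Fintype.card K = q ^ 2) : DoubleInv 3 ↥(twistedE6 K q) := by
  obtain ⟨φ, hφ⟩ := Cfsg.Agent.ChevalleyStructure.D4Fixed.exists_frob (K := K) hq hK
  obtain ⟨k, _, _, ι, hk, hι⟩ := exists_subfield K hq two_ne_zero hK
  have h3k : (3 : k) ≠ 0 := by
    intro h
    apply h3
    have h1 := congrArg ι h
    rw [map_zero] at h1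
    rw [← h1]
    exact (map_ofNat ι 3).symm
  have hR : RootIn inList_E6 ι (twistedE6 K q) 46 :=
    ⟨l46, fun t => single_mem (hι t) (by simp), fun t => by
      rw [show chevE6.neg 46 = 25 by decide]; exact single_mem (hι t) (by simp)⟩
  let g : Matrix.SpecialLinearGroup (Fin 2) K →* twistedE6 K q :=
    (psi φ).codRestrict (twistedE6 K q) (psi_mem hφ)
  have hg : ∀ x, g x = 1 → x = 1 ∨ x = -1 := fun x hx =>
    prodHom_ker _ _ _ (rootHom_ker inList_E6 (RingHom.id K) l56) x (congrArg Subtype.val hx)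
  have hc : ∀ b a, g b * hR.hom a = hR.hom a * g b := by
    intro b a
    symm
    apply Subtype.ext
    change rootHom₀ inList_E6 ι hR.lt a * (rootHom₀ inList_E6 (RingHom.id K) l56 b * rootHom₀ inList_E6 φ l36 b) =
      (rootHom₀ inList_E6 (RingHom.id K) l56 b * rootHom₀ inList_E6 φ l36 b) * rootHom₀ inList_E6 ι hR.lt a
    have c1 : Commute (rootHom₀ inList_E6 (RingHom.id K) l56 b) (rootHom₀ inList_E6 ι hR.lt a) :=
      rootHom_comm inList_E6 (RingHom.id K) ι _ _ so_56_46 b a
    have c2 : Commute (rootHom₀ inList_E6 φ l36 b) (rootHom₀ inList_E6 ι hR.lt a) :=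
      rootHom_comm inList_E6 φ ι _ _ so_36_46 b a
    exact (c1.mul_left c2).symm.eq
  exact DoubleInv.of_commute (hasInv_three K h3) (hasInv_three k h3k) g hR.hom hc
    (fun x => ker_pm (by decide) _ hg x) (fun x => ker_pm (by decide) _ (fun _ => hR.ker) x)

/-! ### the rows -/

section Rows

variable {p n : ℕ} {G : Type u} [Group G] (h : Pearly p n G)

include h

/-- the degree bound for a subgroup of `GL` -/
theorem bound {ι : Type*} [Fintype ι] [DecidableEq ι] {K : Type*} [Field K] (hk : (p : K) ≠ 0)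
    {X : Subgroup (GL ι K)} (e : G ≃* ↥X) : p ^ 2 * (p - 1) ≤ Fintype.card ι := by
  refine h.le_card hk ((Units.coeHom (Matrix ι ι K)).comp (X.subtype.comp e.toMonoidHom)) ?_
  intro x y hxy
  exact e.injective (Subtype.ext (Units.ext hxy))

theorem three_or_five (hb : p ^ 2 * (p - 1) ≤ 248) : p = 3 ∨ p = 5 := by
  have h3 := h.odd
  have hp := h.prime
  have h7 : p < 7 := by
    by_contra h7
    push Not at h7
    have h1 : 7 ^ 2 * (7 - 1) ≤ p ^ 2 * (p - 1) :=
      Nat.mul_le_mul (Nat.pow_le_pow_left h7 2) (by omega)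
    omega
  interval_cases p
  · exact Or.inl rfl
  · exact absurd hp (by norm_num)
  · exact Or.inr rfl
  · exact absurd hp (by norm_num)

theorem three (hb : p ^ 2 * (p - 1) ≤ 78) : p = 3 := by
  rcases three_or_five h (hb.trans (by norm_num)) with h1 | h1
  · exact h1
  · subst h1
    norm_num at hb

variable {K : Type} [Field K] [Fintype K] (hk : (p : K) ≠ 0)

include hk

/-- **Row `F₄(q)`** -/
theorem false_f4 (e : G ≃* ↥(chevF4.group K)) : False := by
  have hb := bound h hk e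
  have h3 := three h (hb.trans (by decide +kernel))
  subst h3
  exact (h.congr e).dinv (dinv_two (D := chevF4) (by simp) (by exact_mod_cast hk) (a := 47) (b := 33) (by decide)
    (by decide) (by decide +kernel))

/-- **Row `E₆(q)`** -/
theorem false_e6 (e : G ≃* ↥(chevE6.group K)) : False := by
  have hb := bound h hk e
  have h3 := three h (hb.trans (by decide +kernel))
  subst h3
  exact (h.congr e).dinv (dinv_two (D := chevE6) (by simp) (by exact_mod_cast hk) (a := 71) (b := 56) (by decide)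
    (by decide) (by decide +kernel))

/-- **Row `E₇(q)`** -/
theorem false_e7 (e : G ≃* ↥(chevE7.group K)) : False := by
  have hb := bound h hk e
  rcases three_or_five h (hb.trans (by decide +kernel)) with h3 | h5
  · subst h3
    exact (h.congr e).dinv (dinv_two (D := chevE7) (by simp) (by exact_mod_cast hk) (a := 93) (b := 78) (by decide)
      (by decide) (by decide +kernel))
  · subst h5
    exact (h.congr e).dinv dinv_e7

/-- **Row `E₈(q)`** -/
theorem false_e8 (e : G ≃* ↥(chevE8.group K)) : False := by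
  have hb := bound h hk e
  rcases three_or_five h (hb.trans (by decide +kernel)) with h3 | h5
  · subst h3
    exact (h.congr e).dinv (dinv_two (D := chevE8) (by simp) (by exact_mod_cast hk) (a := 162) (b := 141) (by decide)
      (by decide) (by decide +kernel))
  · subst h5
    exact (h.congr e).dinv dinv_e8

/-- **Row `²E₆(q)`** -/
theorem false_2e6 {q : ℕ} (hq : IsPrimePow q) (hK : Fintype.card K = q ^ 2) (e : G ≃* ↥(twistedE6 K q)) : False := by
  have hb := bound h hk e
  have h3 := three h (hb.trans (by decide +kernel))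
  subst h3
  exact (h.congr e).dinv (dinv_2e6 (by exact_mod_cast hk) hq hK)

end Rows

end Cfsg.Agent.H783.ExoX2

private theorem dce_d94d2dc29eaf : _root_.True := by
  try have : _root_.True := by simp only [_root_.Cfsg.Agent.H783.ExoX2.psi.eq_1]
  exact _root_.True.intro
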