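import Mathlib
import Cfsg.Agent.UGT.U2.FOne.NatJ_m3
import Cfsg.Agent.Cit.CloGlue_m3
import Cfsg.Agent.Nodes.MuSq
import Cfsg.Agent.KFacts.RgdSL
import Cfsg.Agent.UGT.I34.OnCode_m3
import Cfsg.Agent.Nodes.ShortSum
import Cfsg.Agent.Nodes.KindBC
import Cfsg.Agent.Nodes.ClsWitt
import Cfsg.Agent.GH.Rank
import Cfsg.Prelude.Def_CaseTheorems
import Cfsg.Agent.H300.RankSp4
import Cfsg.Agent.LieRecognition.PSUThreeSylow
import Cfsg.Agent.GH.LowRankLie
import Cfsg.Agent.ClassicalGeometry.GUBasic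
import Cfsg.Agent.LieClassical.HermBasic
import Cfsg.Agent.H31.OddNFP
import Cfsg.Agent.FixBN.RankOneU3
import Cfsg.Agent.FixBN.WittNodeD_m3
import Cfsg.Agent.Nodes.Bruhat
import Cfsg.Agent.UGT.Blk.SysOf_m3
import Cfsg.Agent.FastGrp
import Cfsg.Agent.Prune
set_option linter.all false

section
prune_inst 0x7fbcfdfbadb92fffdfff7e7fffdfdffc39f99fffe6dff9437fe06bff0b9f030889c56b8d8de010fe1ef7621410b87853f97eceffe26bdc7ffffd5ff41ffbee0fb5e7b50851dc8cb40fbc0fff03f07f8a7f3fffffffffffffffffffffffffffbefffdffffffff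

-- part: H286/Obs
section
prune_inst 0x400200424090002000018000200003c4046000190006b8801d9400f460686776329422721fce01e10091aaa64283a0068131000d9421000000a000600411d04a180aa72c23300a10427000f80f807580c00000000000000000000000000041000200000000
set_option linter.all false
open scoped Cfsg.Agent.FastGrp

/-!
# The obstruction `Obs`

`Obs p x` (`x` an involutory automorphism of the finite group `K`): there are involutions `z`, `w`, `z` in the subgroup
generated by the `p`-elements of `C_K(x)`, `w` in the subgroup generated by the `p`-elements of `C_K(x) ∩ C(z)`. It is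
impossible when this subgroup has dihedral Sylow 2-subgroups (`p` odd).

* `obs_of_central`, `obs_W`, `obs_swap` : the three sources of `Obs`;
* `even_of_inv`, `even_of_swap` : elements of even order.
-/

set_option autoImplicit false
set_option linter.dupNamespace false

namespace Cfsg.Agent.H286.Obs

variable {K : Type*} [Group K]

/-- `p`-elements -/
def PE (p : ℕ) (g : K) : Prop := ∃ m : ℕ, g ^ p ^ m = 1

/-- the `p`-elements fixed by `x` -/
def FP (p : ℕ) (x : MulAut K) : Set K := {g | x g = g ∧ PE p g}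

/-- The obstruction. -/
def Obs (p : ℕ) (x : MulAut K) : Prop :=
  ∃ z w : K, z ∈ Subgroup.closure (FP p x) ∧ z * z = 1 ∧ z ≠ 1 ∧ w * w = 1 ∧ w ≠ 1 ∧
    w ∈ Subgroup.closure {g | g ∈ FP p x ∧ g * z = z * g}

theorem PE.of_commute {p : ℕ} {g k : K} (hg : PE p g) (hk : PE p k) (hc : Commute g k) : PE p (g * k) := by
  obtain ⟨m, hm⟩ := hg
  obtain ⟨l, hl⟩ := hk
  refine ⟨m + l, ?_⟩
  rw [hc.mul_pow]
  have h1 : g ^ p ^ (m + l) = 1 := by rw [pow_add, pow_mul, hm, one_pow]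
  have h2 : k ^ p ^ (m + l) = 1 := by rw [add_comm, pow_add, pow_mul, hl, one_pow]
  rw [h1, h2, one_mul]

theorem PE.map {p : ℕ} {L : Type*} [Group L] {g : K} (hg : PE p g) (f : K →* L) : PE p (f g) := by
  obtain ⟨m, hm⟩ := hg
  exact ⟨m, by rw [← map_pow, hm, map_one]⟩

theorem PE.inv {p : ℕ} {g : K} (hg : PE p g) : PE p g⁻¹ := by
  obtain ⟨m, hm⟩ := hg
  exact ⟨m, by rw [inv_pow, hm, inv_one]⟩

/-- a `p`-element which is an involution or trivial is trivial, `p` odd -/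
theorem PE.eq_one {p : ℕ} (hp : Odd p) {v : K} (hv : PE p v) (h2 : v * v = 1) : v = 1 := by
  obtain ⟨m, hm⟩ := hv
  have h3 : orderOf v ∣ p ^ m := orderOf_dvd_of_pow_eq_one hm
  have h4 : orderOf v ∣ 2 := orderOf_dvd_of_pow_eq_one (by rw [pow_two, h2])
  have h5 : Nat.Coprime 2 (p ^ m) := Nat.coprime_two_left.2 hp.pow
  exact orderOf_eq_one_iff.1 (Nat.eq_one_of_dvd_coprimes h5 h4 h3)

/-- an element of odd order is a power of its square -/
theorem exists_sq_pow {t : K} (ht : ¬ Even (orderOf t)) : ∃ k : ℕ, t = (t * t) ^ k := by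
  rw [Nat.not_even_iff_odd] at ht
  obtain ⟨k, hk⟩ := ht
  refine ⟨k + 1, ?_⟩
  rw [← pow_two, ← pow_mul, show 2 * (k + 1) = orderOf t + 1 by omega, pow_succ, pow_orderOf_eq_one, one_mul]

/-- an element inverting a nontrivial `p`-element has even order -/
theorem even_of_inv {p : ℕ} (hp : Odd p) {t v : K} (hv : PE p v) (hv1 : v ≠ 1) (h : t * v * t⁻¹ = v⁻¹) :
    Even (orderOf t) := by
  by_contra hcon
  obtain ⟨k, hk⟩ := exists_sq_pow hcon
  have h1 : t * v = v⁻¹ * t := by rw [← h]; group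
  have h0 : t * v⁻¹ = v * t := by
    have h3 : t * v⁻¹ * t⁻¹ = v := by
      calc t * v⁻¹ * t⁻¹ = (t * v * t⁻¹)⁻¹ := by group
        _ = v := by rw [h, inv_inv]
    calc t * v⁻¹ = t * v⁻¹ * t⁻¹ * t := by group
      _ = v * t := by rw [h3]
  have h2 : Commute (t * t) v := by
    change t * t * v = v * (t * t)
    rw [mul_assoc, h1, ← mul_assoc, h0]
    group
  have h3 : Commute t v := by
    rw [hk]
    exact h2.pow_left k
  have h4 : v = v⁻¹ := by rw [← h, h3.eq]; group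
  exact hv1 (hv.eq_one hp (by nth_rewrite 1 [h4]; group))

/-- an element interchanging two different sets of elements by conjugation has even order -/
theorem even_of_swap {A B : Subgroup K} (hne : A ≠ B) {m : K} (h1 : ∀ a ∈ A, m * a * m⁻¹ ∈ B)
    (h2 : ∀ b ∈ B, m * b * m⁻¹ ∈ A) [Finite A] [Finite B] : Even (orderOf m) := by
  by_contra hcon
  obtain ⟨k, hk⟩ := exists_sq_pow hcon
  have key : ∀ C D : Subgroup K, (∀ a ∈ C, m * a * m⁻¹ ∈ D) → (∀ b ∈ D, m * b * m⁻¹ ∈ C) →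
      ∀ a ∈ C, m * a * m⁻¹ ∈ C := by
    intro C D h1 h2 a ha
    have h3 : ∀ j : ℕ, (m * m) ^ j * a * ((m * m) ^ j)⁻¹ ∈ C := by
      intro j
      induction j with
      | zero => simpa using ha
      | succ j ih =>
        have h4 := h2 _ (h1 _ ih)
        have h5 : (m * m) ^ (j + 1) * a * ((m * m) ^ (j + 1))⁻¹ =
            m * (m * ((m * m) ^ j * a * ((m * m) ^ j)⁻¹) * m⁻¹) * m⁻¹ := by
          rw [pow_succ']
          generalize (m * m) ^ j = q
          group
        rw [h5]; exact h4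
    have h4 := h3 k
    rw [← hk] at h4
    exact h4
  apply hne
  have hB : ∀ b ∈ B, b ∈ A := by
    intro b hb
    have hi : Function.Bijective (fun c : B => (⟨m * c * m⁻¹, key B A h2 h1 c c.2⟩ : B)) := by
      rw [← Finite.injective_iff_bijective]
      intro c d h
      have := congrArg Subtype.val h
      exact Subtype.ext (by simpa using this)
    obtain ⟨c, hc⟩ := hi.2 ⟨b, hb⟩
    have e : m * c * m⁻¹ = b := congrArg Subtype.val hc
    rw [← e]
    exact h2 c c.2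
  have hA : ∀ a ∈ A, a ∈ B := by
    intro b hb
    have hi : Function.Bijective (fun c : A => (⟨m * c * m⁻¹, key A B h1 h2 c c.2⟩ : A)) := by
      rw [← Finite.injective_iff_bijective]
      intro c d h
      have := congrArg Subtype.val h
      exact Subtype.ext (by simpa using this)
    obtain ⟨c, hc⟩ := hi.2 ⟨b, hb⟩
    have e : m * c * m⁻¹ = b := congrArg Subtype.val hc
    rw [← e]
    exact h1 c c.2
  exact le_antisymm (fun a ha => hA a ha) (fun b hb => hB b hb)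

/-- the involution of a cyclic group of even order -/
theorem exists_inv [Finite K] {t : K} (ht : Even (orderOf t)) : ∃ k : ℕ, (t ^ k) * (t ^ k) = 1 ∧ t ^ k ≠ 1 := by
  obtain ⟨k, hk⟩ := ht
  have h0 : 0 < orderOf t := orderOf_pos t
  refine ⟨k, ?_, ?_⟩
  · rw [← pow_add, ← hk, pow_orderOf_eq_one]
  · intro h
    have := orderOf_dvd_of_pow_eq_one h
    have := Nat.le_of_dvd (by omega) this
    omega

variable {p : ℕ} {x : MulAut K}

/-- **First source**: fixed `p`-elements `S`, `t ∈ ⟨S⟩` of even order commuting with `S`. -/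
theorem obs_of_central [Finite K] {S : Set K} (hS : S ⊆ FP p x) {t : K} (ht : t ∈ Subgroup.closure S)
    (hc : ∀ s ∈ S, Commute s t) (he : Even (orderOf t)) : Obs p x := by
  obtain ⟨k, h1, h2⟩ := exists_inv he
  refine ⟨t ^ k, t ^ k, Subgroup.closure_mono hS (pow_mem ht k), h1, h2, h1, h2, ?_⟩
  have h3 : S ⊆ {g | g ∈ FP p x ∧ g * t ^ k = t ^ k * g} := fun s hs => ⟨hS hs, ((hc s hs).pow_right k).eq⟩
  exact Subgroup.closure_mono h3 (pow_mem ht k)

theorem commute_closure {S T : Set K} (hc : ∀ s ∈ S, ∀ t ∈ T, Commute s t) {a b : K} (ha : a ∈ Subgroup.closure S)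
    (hb : b ∈ Subgroup.closure T) : Commute a b := by
  have h1 : ∀ t ∈ T, Commute a t := by
    intro t ht
    induction ha using Subgroup.closure_induction with
    | mem s hs => exact hc s hs t ht
    | one => exact Commute.one_left t
    | mul u v _ _ hu hv => exact hu.mul_left hv
    | inv u _ hu => exact hu.inv_left
  induction hb using Subgroup.closure_induction with
  | mem s hs => exact h1 s hs
  | one => exact Commute.one_right a
  | mul u v _ _ hu hv => exact hu.mul_right hv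
  | inv u _ hu => exact hu.inv_right

/-- **Second source**: two commuting groups of even order generated by fixed `p`-elements. -/
theorem obs_W [Finite K] {S T : Set K} (hS : S ⊆ FP p x) (hT : T ⊆ FP p x) (hc : ∀ s ∈ S, ∀ t ∈ T, Commute s t)
    {a b : K} (ha : a ∈ Subgroup.closure S) (hb : b ∈ Subgroup.closure T) (hea : Even (orderOf a))
    (heb : Even (orderOf b)) : Obs p x := by
  obtain ⟨k, h1, h2⟩ := exists_inv hea
  obtain ⟨l, h3, h4⟩ := exists_inv heb
  refine ⟨a ^ k, b ^ l, Subgroup.closure_mono hS (pow_mem ha k), h1, h2, h3, h4, ?_⟩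
  have h5 : T ⊆ {g | g ∈ FP p x ∧ g * a ^ k = a ^ k * g} := fun s hs => ⟨hT hs,
    (commute_closure hc (pow_mem ha k) (Subgroup.subset_closure hs)).symm.eq⟩
  exact Subgroup.closure_mono h5 (pow_mem hb l)

/-- the diagonal elements -/
theorem mem_diag {S : Set K} (hc : ∀ s ∈ S, ∀ s' ∈ S, Commute s (x s')) {y : K} (hy : y ∈ Subgroup.closure S) :
    y * x y ∈ Subgroup.closure {g | ∃ s ∈ S, g = s * x s} := by
  have hc' : ∀ a ∈ Subgroup.closure S, ∀ b ∈ Subgroup.closure S, Commute a (x b) := by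
    intro a ha b hb
    refine commute_closure (S := S) (T := x '' S) ?_ ha ?_
    · rintro s hs _ ⟨s', hs', rfl⟩
      exact hc s hs s' hs'
    · have h1 : (Subgroup.closure S).map x.toMonoidHom = Subgroup.closure (x '' S) := by
        rw [MonoidHom.map_closure]; rfl
      rw [← h1]
      exact ⟨b, hb, rfl⟩
  induction hy using Subgroup.closure_induction with
  | mem s hs => exact Subgroup.subset_closure ⟨s, hs, rfl⟩
  | one => rw [map_one, mul_one]; exact one_mem _
  | mul u v hu hv ihu ihv =>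
    have h1 : u * v * x (u * v) = (u * x u) * (v * x v) := by
      have h2 := (hc' v hv u hu).eq
      rw [map_mul]
      calc u * v * (x u * x v) = u * (v * x u) * x v := by group
        _ = u * (x u * v) * x v := by rw [h2]
        _ = _ := by group
    rw [h1]
    exact mul_mem ihu ihv
  | inv u hu ihu =>
    have h1 : u⁻¹ * x u⁻¹ = (u * x u)⁻¹ := by
      rw [map_inv, (hc' u hu u hu).eq]; group
    rw [h1]
    exact inv_mem ihu

theorem diag_subset (hxx : ∀ g, x (x g) = g) {S : Set K} (hS : ∀ s ∈ S, PE p s)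
    (hc : ∀ s ∈ S, ∀ s' ∈ S, Commute s (x s')) : {g | ∃ s ∈ S, g = s * x s} ⊆ FP p x := by
  rintro _ ⟨s, hs, rfl⟩
  refine ⟨?_, (hS s hs).of_commute ((hS s hs).map x.toMonoidHom) (hc s hs s hs)⟩
  rw [map_mul, hxx]
  exact (hc s hs s hs).symm.eq

/-- **Third source**: `p`-elements `S` commuting with `x S`, `z ∈ ⟨S⟩` centralising `S`, `z * x z` of even order. -/
theorem obs_swap [Finite K] (hxx : ∀ g, x (x g) = g) {S : Set K} (hS : ∀ s ∈ S, PE p s)
    (hc : ∀ s ∈ S, ∀ s' ∈ S, Commute s (x s')) {z : K} (hz : z ∈ Subgroup.closure S) (hzc : ∀ s ∈ S, Commute s z)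
    (he : Even (orderOf (z * x z))) : Obs p x := by
  refine obs_of_central (diag_subset hxx hS hc) (mem_diag hc hz) ?_ he
  rintro _ ⟨s, hs, rfl⟩
  have h1 : Commute s (x z) := by
    have : x z ∈ Subgroup.closure (x '' S) := by
      have h1 : (Subgroup.closure S).map x.toMonoidHom = Subgroup.closure (x '' S) := by
        rw [MonoidHom.map_closure]; rfl
      rw [← h1]
      exact ⟨z, hz, rfl⟩
    refine commute_closure (S := S) (T := x '' S) ?_ (Subgroup.subset_closure hs) this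
    rintro s hs _ ⟨s', hs', rfl⟩
    exact hc s hs s' hs'
  have h2 : Commute (x s) z := by
    have h3 : Commute (x s) (x (x z)) := by
      have := h1.map x.toMonoidHom
      exact this
    rwa [hxx] at h3
  have h4 : Commute (x s) (x z) := (hzc s hs).map x.toMonoidHom
  exact ((hzc s hs).mul_right h1).mul_left (h2.mul_right h4)

/-- `Obs` is invariant under conjugation. -/
theorem Obs.conj {k : K} (h : Obs p x) : Obs p (MulAut.congr (MulAut.conj k) x) := by
  obtain ⟨z, w, hz, h1, h2, h3, h4, hw⟩ := h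
  have hact : ∀ g, (MulAut.congr (MulAut.conj k) x) (MulAut.conj k g) = MulAut.conj k (x g) := by
    intro g
    change (MulAut.conj k) (x ((MulAut.conj k).symm (MulAut.conj k g))) = MulAut.conj k (x g)
    rw [MulEquiv.symm_apply_apply]
  have hFP : ∀ g ∈ FP p x, MulAut.conj k g ∈ FP p (MulAut.congr (MulAut.conj k) x) := by
    rintro g ⟨hg, hgp⟩
    exact ⟨by rw [hact, hg], hgp.map (MulAut.conj k).toMonoidHom⟩
  have key : ∀ (S : Set K) (T : Set K) (y : K), (∀ g ∈ S, MulAut.conj k g ∈ T) → y ∈ Subgroup.closure S →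
      MulAut.conj k y ∈ Subgroup.closure T := by
    intro S T y hST hy
    have h5 : (Subgroup.closure S).map (MulAut.conj k).toMonoidHom ≤ Subgroup.closure T := by
      rw [MonoidHom.map_closure, Subgroup.closure_le]
      rintro _ ⟨g, hg, rfl⟩
      exact Subgroup.subset_closure (hST g hg)
    exact h5 ⟨y, hy, rfl⟩
  refine ⟨MulAut.conj k z, MulAut.conj k w, key _ _ _ hFP hz, by rw [← map_mul, h1, map_one], ?_,
    by rw [← map_mul, h3, map_one], ?_, key _ _ _ ?_ hw⟩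
  · intro h; exact h2 ((MulAut.conj k).injective (by rw [h, map_one]))
  · intro h; exact h4 ((MulAut.conj k).injective (by rw [h, map_one]))
  · rintro g ⟨hg, hgz⟩
    exact ⟨hFP g hg, by rw [← map_mul, hgz, map_mul]⟩

end Cfsg.Agent.H286.Obs
end

-- part: H286/TypeI
section
prune_inst 0x40020002409000200000000000000000000000002000000001940070202065262094220004c000c10080a8000200000200010009000200000000004000001002080a842023300a10426000f803003180c00000000000000000000000000041000000000000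
set_option linter.all false
open scoped Cfsg.Agent.FastGrp

-- part: UGT/U2/FOne/NoJ
section
/-!
# (f1): the lemma NoJ

`false_of_noJ` : in the normal form `NF`, there is no `j ∈ J` with a root `r` such that `(sr j, r)` is an `A₂`-pair and `x`
maps `X r` to `X (sr j + r)`: for `u ∈ X r`, `u ≠ 1`, the element `u * x u` is fixed by `x`, and the `p`-elements of its
centraliser in `RA (sr j)` form a conjugate of `X (sr j)`, against `ell`.
-/

set_option autoImplicit false
set_option linter.unusedSectionVars false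

namespace Cfsg.Agent.UGT.U2.FOne

open CoxeterSystem Cfsg.Agent.ChevalleyStructure.CoxeterGeom Cfsg.Agent.Tits.Roots Cfsg.Agent.Tits.Core
  Cfsg.Agent.Tits.Exchange Cfsg.Agent.Tits.RootComb Cfsg.Agent.Nodes.Comb Cfsg.Agent.Nodes.Reps
  Cfsg.Agent.Nodes.BNOf Cfsg.Agent.Nodes.RGDLib Cfsg.Agent.Nodes.StabComb Cfsg.Agent.Nodes.Coroot
  Cfsg.Agent.Nodes.OppDec Cfsg.Agent.Nodes.Bruhat Cfsg.Agent.KFacts.RgdSL
open scoped commutatorElement

variable {I W Y : Type*} [Fintype I] [DecidableEq I] [Group W] [Finite W] [Group Y] {M : CoxeterMatrix I}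
  {cs : CoxeterSystem M W} {A : I → I → ℤ} {h : IsCartan M A} {p : ℕ} {T : Subgroup Y} {n : I → Y}
  {X : (I → ℤ) → Subgroup Y}

namespace NoJ

/-- rotating an `A₂`-pair -/
theorem rot {a r : I → ℤ} (hA : A2 cs h a r) : A2 cs h (-a) (a + r) where
  rx := hA.rx.neg
  ry := hA.rxy
  cxy := by
    rw [cpr_neg_left _ hA.rxy]
    have h1 : cpr cs h a (a + r) = 1 := by
      have := Fintype.ofFinite W
      apply cpr_eq_of_form cs h hA.rxy
      have e1 := two_form_cpr cs h a hA.ry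
      have e2 := two_form_cpr cs h r hA.rx
      rw [hA.cxy] at e1
      rw [hA.cyx] at e2
      have e3 := form_comm cs h a r
      rw [form_add_right, form_add_left, form_add_right, form_add_right]
      linarith
    rw [h1]
  cyx := by
    rw [cpr_neg_right cs h _ hA.rx, cpr_add cs h _ _ hA.rx, cpr_self cs h hA.rx, hA.cyx]; norm_num
  b1 z hz := by rw [hA.b3 z hz]; abel
  b2 z hz := by
    rw [neg_neg] at hz
    exact hA.b6 z hz.symm
  b3 z hz := by
    have e : -a + (a + r) = r := by abel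
    rw [e, neg_neg] at hz
    exact hA.b1 z hz
  b4 z hz := by
    have e : -a + (a + r) = r := by abel
    rw [e] at hz
    have h1 : Btwn cs h (-r) (a + r) (-z) := by
      rw [← btwn_neg_iff, neg_neg, neg_neg]
      exact hz.symm
    have := hA.b4 _ h1
    rw [← this, neg_neg]
  b5 z hz := by
    have e : -a + (a + r) = r := by abel
    rw [e] at hz
    exact hA.b5 z hz.symm
  b6 z hz := by
    have e : -a + (a + r) = r := by abel
    rw [e] at hz
    exact hA.b2 z hz.symm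

variable (R : RGD cs h p T n X) {a r : I → ℤ} (hA : A2 cs h a r)

include R hA

end NoJ

variable {x d : MulAut Y} {φ : W ≃* W} {σ : I → I} {J : Set I} {g : Y}

end Cfsg.Agent.UGT.U2.FOne
end

-- part: H286/RootObs
section
/-!
# `Obs` from root groups

`(c, d)` an `A₂`-pair of roots of a root group datum, `x` an involutory automorphism.

* `sq_inv`, `sq_central` : the square of a `μ`-element of `X c` inverts `X d`, `X (c + d)` and centralises
  `⟨X c, X (-c)⟩`;
* `obs_fix` : a nontrivial fixed element of `X c` (`x` normalising `X c`, `X (-c)`);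
* `inv_of_not_obs` : otherwise `x` inverts `X c`;
* `obs_two_fix` : `x` normalises all root groups of the plane;
* `obs_swapA2` : `x` maps `X c` to a root group `X c'` orthogonal to `c`, `d`.
-/

set_option autoImplicit false
set_option linter.unusedSectionVars false

namespace Cfsg.Agent.H286.RootObs

open CoxeterSystem Cfsg.Agent.ChevalleyStructure.CoxeterGeom Cfsg.Agent.Tits.Roots Cfsg.Agent.Tits.Core
  Cfsg.Agent.Tits.RootComb Cfsg.Agent.Tits.Exchange Cfsg.Agent.Nodes.Comb Cfsg.Agent.Nodes.Reps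
  Cfsg.Agent.Nodes.BNOf Cfsg.Agent.Nodes.RGDLib Cfsg.Agent.Nodes.Bruhat Cfsg.Agent.Nodes.StabComb
  Cfsg.Agent.Nodes.OppDec Cfsg.Agent.Nodes.Coroot Cfsg.Agent.KFacts.RgdSL Cfsg.Agent.UGT.U2.FOne
  Cfsg.Agent.H286.Obs
open scoped commutatorElement

variable {I W K : Type*} [Fintype I] [DecidableEq I] [Group W] [Group K] {M : CoxeterMatrix I}
  {cs : CoxeterSystem M W} {A : I → I → ℤ} {h : IsCartan M A} {p : ℕ} {T : Subgroup K} {n : I → K}
  {X : (I → ℤ) → Subgroup K}

section Sq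

variable [Finite W] (R : RGD cs h p T n X) {c d : I → ℤ} (hA : A2 cs h c d)

include R hA

/-- `μ(u)² v μ(u)⁻² = v⁻¹`, `v ∈ X d` -/
theorem sq_inv {a u b m : K} (ha : a ∈ X (-c)) (hu : u ∈ X c) (hb : b ∈ X (-c)) {s : W}
    (hs : ∀ y, rep cs h s y = y - cpr cs h y c • c) (hm : Rp cs R.nsys s m) (he : m = a * u * b) {v : K}
    (hv : v ∈ X d) : m * m * v * (m * m)⁻¹ = v⁻¹ := by
  have hnx : -c ≠ d := fun h0 => hA.ne_neg (by rw [← h0, neg_neg])
  have hnx' : -c ≠ -d := fun h0 => hA.ne (neg_injective h0)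
  have hbv : b * v = v * b := comm_of_not_btwn R hA.rx.neg hA.ry hnx hnx' hA.b2 hb hv
  have hav : a * v = v * a := comm_of_not_btwn R hA.rx.neg hA.ry hnx hnx' hA.b2 ha hv
  have h1 : ⁅u, v⁆ = m * v * m⁻¹ := A2.comm_eq R hA hu hv ha hb hs hm he
  have hsc : rep cs h s (-c) = c := by
    rw [map_neg, hs, cpr_self cs h hA.rx]
    module
  have hw : ⁅u, v⁆ ∈ X (c + d) := A2.comm_mem R hA hu hv
  have hmb : m * b * m⁻¹ ∈ X (- -c) := by
    have := R.conj_mem hm hA.rx.neg hb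
    rw [hsc] at this
    rwa [neg_neg]
  have h2 : ⁅a, ⁅u, v⁆⁆ = m * ⁅u, v⁆ * m⁻¹ := by
    refine A2.comm_eq R (NoJ.rot hA) ha (a := m * b * m⁻¹) (b := u) hw hmb (by rwa [neg_neg]) (s := s) ?_ hm ?_
    · intro y
      rw [hs, cpr_neg_right cs h y hA.rx]
      module
    · rw [he]; group
  have hvw : ⁅u, v⁆ * v = v * ⁅u, v⁆ := A2.comm_right R hA hw hv
  have h3 : ⁅a, ⁅u, v⁆⁆ = v⁻¹ := by
    have e1 : m * v * m⁻¹ = ⁅a, ⁅u, v⁆⁆ * ⁅u, v⁆ * v := by
      calc m * v * m⁻¹ = a * u * (b * v) * b⁻¹ * u⁻¹ * a⁻¹ := by rw [he]; group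
        _ = a * (u * v * u⁻¹) * a⁻¹ := by rw [hbv]; group
        _ = a * (⁅u, v⁆ * v) * a⁻¹ := by rw [commutatorElement_def u v]; group
        _ = (a * ⁅u, v⁆ * a⁻¹) * (a * v * a⁻¹) := by group
        _ = ⁅a, ⁅u, v⁆⁆ * ⁅u, v⁆ * v := by
          rw [hav, commutatorElement_def a]; group
    rw [← h1] at e1
    have e2 : ⁅a, ⁅u, v⁆⁆ = ⁅u, v⁆ * (⁅u, v⁆ * v)⁻¹ := by
      rw [eq_mul_inv_iff_mul_eq, ← mul_assoc]
      exact e1.symm
    rw [e2, hvw]; group
  rw [h3, h1] at h2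
  calc m * m * v * (m * m)⁻¹ = m * (m * v * m⁻¹) * m⁻¹ := by group
    _ = v⁻¹ := h2.symm

omit R in
theorem refl_sum {s : W} (hs : ∀ y, rep cs h s y = y - cpr cs h y c • c) : rep cs h s d = c + d := by
  rw [hs, hA.cyx]; module

/-- the same for `X (c + d)` -/
theorem sq_inv' {a u b m : K} (ha : a ∈ X (-c)) (hu : u ∈ X c) (hb : b ∈ X (-c)) {s : W}
    (hs : ∀ y, rep cs h s y = y - cpr cs h y c • c) (hm : Rp cs R.nsys s m) (he : m = a * u * b) {v : K}
    (hv : v ∈ X (c + d)) : m * m * v * (m * m)⁻¹ = v⁻¹ := by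
  have h1 : m⁻¹ * v * m ∈ X d := by
    have h2 := R.conj_mem' hm hA.rxy hv
    have h3 : rep cs h s⁻¹ (c + d) = d := by
      rw [← refl_sum hA hs, rep_inv_apply]
    rwa [h3] at h2
  have h2 := sq_inv R hA ha hu hb hs hm he h1
  calc m * m * v * (m * m)⁻¹ = m * (m * m * (m⁻¹ * v * m) * (m * m)⁻¹) * m⁻¹ := by group
    _ = v⁻¹ := by rw [h2]; group

/-- `t` normalising `X c` and inverting `X d`, `X (c + d)` centralises `X c` -/
theorem cent_of_inv {t : K} (hc : ∀ e ∈ X c, t * e * t⁻¹ ∈ X c) (hd : ∀ v ∈ X d, t * v * t⁻¹ = v⁻¹)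
    (hcd : ∀ v ∈ X (c + d), t * v * t⁻¹ = v⁻¹) {e : K} (he : e ∈ X c) : t * e = e * t := by
  obtain ⟨v, hv, hv1⟩ : ∃ v ∈ X d, v ≠ 1 := by
    by_contra hcon
    push Not at hcon
    exact X_ne_bot R hA.ry ((Subgroup.eq_bot_iff_forall _).2 hcon)
  have hA' := hA.symm
  have he' := hc e he
  have hm1 : ⁅v, e⁆ ∈ X (c + d) := by rw [add_comm]; exact A2.comm_mem R hA' hv he
  have hm2 : ⁅v, t * e * t⁻¹⁆ ∈ X (c + d) := by rw [add_comm]; exact A2.comm_mem R hA' hv he'
  have h1 : ⁅v⁻¹, t * e * t⁻¹⁆ = ⁅v, e⁆⁻¹ := by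
    rw [← hcd _ hm1, ← hd v hv, commutatorElement_def, commutatorElement_def]; group
  have h2 : ⁅v⁻¹, t * e * t⁻¹⁆ = ⁅v, t * e * t⁻¹⁆⁻¹ := by
    have h3 : ⁅v, t * e * t⁻¹⁆ * v = v * ⁅v, t * e * t⁻¹⁆ := A2.comm_right R hA hm2 hv
    have h4 : ⁅v⁻¹, t * e * t⁻¹⁆ = v⁻¹ * ⁅v, t * e * t⁻¹⁆⁻¹ * v := by
      rw [commutatorElement_def, commutatorElement_def]; group
    rw [h4]
    have h5 : v⁻¹ * ⁅v, t * e * t⁻¹⁆⁻¹ = ⁅v, t * e * t⁻¹⁆⁻¹ * v⁻¹ := by
      rw [← mul_inv_rev, ← mul_inv_rev, h3]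
    rw [h5, inv_mul_cancel_right]
  rw [h2] at h1
  have h6 := A2.comm_inj R hA' hv hv1 he' he (inv_injective h1)
  calc t * e = t * e * t⁻¹ * t := by group
    _ = e * t := by rw [h6]

/-- `μ(u)²` centralises `X c` and `X (-c)` -/
theorem sq_central {a u b m : K} (ha : a ∈ X (-c)) (hu : u ∈ X c) (hb : b ∈ X (-c)) {s : W}
    (hs : ∀ y, rep cs h s y = y - cpr cs h y c • c) (hm : Rp cs R.nsys s m) (he : m = a * u * b) {e : K}
    (hec : e ∈ X c ∨ e ∈ X (-c)) : Commute e (m * m) := by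
  have hss : ∀ y, rep cs h s (rep cs h s y) = y := by
    intro y
    rw [hs (rep cs h s y), hs y, sub_eq_add_neg y, ← neg_smul, cpr_add cs h _ _ hA.rx, cpr_smul cs h _ _ hA.rx,
      cpr_self cs h hA.rx]
    module
  have hnorm : ∀ y, IsRoot cs h y → ∀ e ∈ X y, m * m * e * (m * m)⁻¹ ∈ X y := by
    intro y hy e he
    have h1 := R.conj_mem hm (hy.act s) (R.conj_mem hm hy he)
    rw [hss] at h1
    have h2 : m * m * e * (m * m)⁻¹ = m * (m * e * m⁻¹) * m⁻¹ := by group
    rw [h2]; exact h1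
  rcases hec with hec | hec
  · exact (cent_of_inv R hA (fun e he => hnorm c hA.rx e he) (fun v hv => sq_inv R hA ha hu hb hs hm he hv)
      (fun v hv => sq_inv' R hA ha hu hb hs hm he hv) hec).symm
  · have hA' := NoJ.rot hA
    refine (cent_of_inv R hA' (fun e he => hnorm (-c) hA.rx.neg e he) (fun v hv => sq_inv' R hA ha hu hb hs hm he hv)
      (fun v hv => ?_) hec).symm
    rw [show -c + (c + d) = d by abel] at hv
    exact sq_inv R hA ha hu hb hs hm he hv

end Sq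

section Fix

variable [Finite W] (R : RGD cs h p T n X)

include R

/-- an element of `X (-c)` normalising `X c` is trivial -/
theorem eq_one_of_norm {c : I → ℤ} (hc : IsRoot cs h c) {e : K} (he : e ∈ X (-c)) (hn : cj e (X c) = X c) : e = 1 := by
  by_contra h1
  obtain ⟨s, hs, a, ha, b, hb, m, hm, hmm⟩ := exists_mu R hc.neg he h1
  rw [neg_neg] at ha hb
  have hA : cj m (X c) = X c := by
    rw [hmm, cj_mul, cj_mul, cj_eq_of_mem hb, hn, cj_eq_of_mem ha]
  have hB : cj m (X c) = X (-c) := by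
    rw [R.conj_rp hm hc, hs, cpr_neg_right cs h c hc, cpr_self cs h hc]
    congr 1
    module
  have hne : c ≠ -c := by
    intro h0
    apply hc.ne_zero
    funext k
    have := congrFun h0 k
    simp only [Pi.neg_apply] at this
    simp only [Pi.zero_apply]
    omega
  have h2 := X_inf_X R hc hc.neg hne
  rw [← hB, hA, inf_idem] at h2
  exact X_ne_bot R hc h2

/-- the `μ`-element of a fixed element is fixed -/
theorem fix_mu {x : MulAut K} {c : I → ℤ} (hc : IsRoot cs h c) (hx : (X c).map x.toMonoidHom = X c)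
    (hx' : (X (-c)).map x.toMonoidHom = X (-c)) {a u b m : K} (ha : a ∈ X (-c)) (hb : b ∈ X (-c)) {s : W}
    (hs : ∀ y, rep cs h s y = y - cpr cs h y c • c) (hm : Rp cs R.nsys s m) (he : m = a * u * b) (hxu : x u = u) :
    x a = a ∧ x b = b := by
  have hxa : x a ∈ X (-c) := by rw [← hx']; exact Subgroup.mem_map_of_mem x.toMonoidHom ha
  have hxb : x b ∈ X (-c) := by rw [← hx']; exact Subgroup.mem_map_of_mem x.toMonoidHom hb
  have hsc : rep cs h s c = -c := by
    rw [hs, cpr_self cs h hc]; module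
  have h1 : cj m (X c) = X (-c) := by rw [R.conj_rp hm hc, hsc]
  have h2 : cj m (X (-c)) = X c := by rw [R.conj_rp hm hc.neg, map_neg, hsc, neg_neg]
  have hcx : ∀ B C : Subgroup K, B.map x.toMonoidHom = B → C.map x.toMonoidHom = C → cj m B = C → cj (x m) B = C := by
    intro B C hB hC hBC
    have h3 := cj_map x.toMonoidHom m B
    rw [hB, hBC, hC] at h3
    exact h3
  have h3 := hcx _ _ hx hx' h1
  have h4 := hcx _ _ hx' hx h2
  have e1 : x m = (x a * a⁻¹) * m * (b⁻¹ * x b) := by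
    rw [he, map_mul, map_mul, hxu]; group
  have he1 : x a * a⁻¹ ∈ X (-c) := mul_mem hxa (inv_mem ha)
  have hf1 : b⁻¹ * x b ∈ X (-c) := mul_mem (inv_mem hb) hxb
  have k1 : x a * a⁻¹ = 1 := by
    refine eq_one_of_norm R hc he1 ?_
    rw [e1, cj_mul, cj_mul, cj_eq_of_mem hf1, h2] at h4
    exact h4
  have k2 : b⁻¹ * x b = 1 := by
    refine eq_one_of_norm R hc hf1 ?_
    rw [e1, k1, one_mul, cj_mul] at h3
    have h5 := congrArg (cj m⁻¹) h3
    rw [cj_inv_cj, ← h1, cj_inv_cj] at h5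
    exact h5
  exact ⟨by rwa [mul_inv_eq_one] at k1, by rw [inv_mul_eq_one] at k2; exact k2.symm⟩

theorem pe_of_mem {c : I → ℤ} (hc : IsRoot cs h c) {u : K} (hu : u ∈ X c) : PE p u := by
  obtain ⟨k, hk⟩ := (R.pgrp' hc) ⟨u, hu⟩
  exact ⟨k, congrArg Subtype.val hk⟩

/-- **A nontrivial fixed element of a fixed root group in an `A₂`-pair.** -/
theorem obs_fix [Finite K] (hp : Odd p) {x : MulAut K} {c d : I → ℤ} (hA : A2 cs h c d)
    (hx : (X c).map x.toMonoidHom = X c) (hx' : (X (-c)).map x.toMonoidHom = X (-c)) {u : K} (hu : u ∈ X c)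
    (hu1 : u ≠ 1) (hxu : x u = u) : Obs p x := by
  obtain ⟨s, hs, a, ha, b, hb, m, hm, he⟩ := exists_mu R hA.rx hu hu1
  obtain ⟨hxa, hxb⟩ := fix_mu R hA.rx hx hx' ha hb hs hm he hxu
  obtain ⟨v, hv, hv1⟩ : ∃ v ∈ X d, v ≠ 1 := by
    by_contra hcon
    push Not at hcon
    exact X_ne_bot R hA.ry ((Subgroup.eq_bot_iff_forall _).2 hcon)
  refine obs_of_central (S := {a, u, b}) ?_ (t := m * m) ?_ ?_ ?_
  · rintro g (rfl | rfl | rfl)
    · exact ⟨hxa, pe_of_mem R hA.rx.neg ha⟩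
    · exact ⟨hxu, pe_of_mem R hA.rx hu⟩
    · exact ⟨hxb, pe_of_mem R hA.rx.neg hb⟩
  · have h1 : m ∈ Subgroup.closure ({a, u, b} : Set K) := by
      rw [he]
      exact mul_mem (mul_mem (Subgroup.subset_closure (by simp)) (Subgroup.subset_closure (by simp)))
        (Subgroup.subset_closure (by simp))
    exact mul_mem h1 h1
  · rintro g (rfl | rfl | rfl)
    · exact sq_central R hA ha hu hb hs hm he (Or.inr ha)
    · exact sq_central R hA ha hu hb hs hm he (Or.inl hu)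
    · exact sq_central R hA ha hu hb hs hm he (Or.inr hb)
  · exact even_of_inv hp (pe_of_mem R hA.ry hv) hv1 (sq_inv R hA ha hu hb hs hm he hv)

/-- an abelian `p`-group without nontrivial fixed elements is inverted -/
theorem inv_of_no_fix {x : MulAut K} (hxx : ∀ g, x (x g) = g) {B : Subgroup K}
    (hB : B.map x.toMonoidHom = B) (hab : ∀ a ∈ B, ∀ b ∈ B, a * b = b * a) (hno : ∀ u ∈ B, x u = u → u = 1) :
    ∀ u ∈ B, x u = u⁻¹ := by
  intro u hu
  have hxu : x u ∈ B := by rw [← hB]; exact Subgroup.mem_map_of_mem x.toMonoidHom hu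
  have h1 := hno (u * x u) (mul_mem hu hxu) (by rw [map_mul, hxx, hab _ hxu _ hu])
  exact (inv_eq_of_mul_eq_one_right h1).symm

/-- the root groups in `A₂`-pairs are abelian -/
theorem comm_of_A2 {c d : I → ℤ} (hA : A2 cs h c d) : ∀ a ∈ X c, ∀ b ∈ X c, a * b = b * a := by
  intro a ha b hb
  have hA' := a2_rot (a2_rot hA)
  have e : c + d + -c + -(c + d) = -c := by abel
  have hA'' := a2_rot (NoJ.rot (NoJ.rot hA).symm).symm
  -- `c = (c + d) + (-d)`
  have h1 : A2 cs h (c + d) (-d) := by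
    have h2 := a2_rot hA.symm
    rwa [add_comm] at h2
  have h3 : c + d + -d = c := by abel
  rw [← h3] at ha hb
  exact A2.comm_self R h1 ha hb

theorem inv_of_not_obs [Finite K] (hp : Odd p) {x : MulAut K} (hxx : ∀ g, x (x g) = g) {c d : I → ℤ}
    (hA : A2 cs h c d) (hx : (X c).map x.toMonoidHom = X c) (hx' : (X (-c)).map x.toMonoidHom = X (-c))
    (hno : ¬ Obs p x) : ∀ u ∈ X c, x u = u⁻¹ := by
  refine inv_of_no_fix R hxx hx (comm_of_A2 R hA) fun u hu hxu => ?_
  by_contra hu1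
  exact hno (obs_fix R hp hA hx hx' hu hu1 hxu)

/-- **Two fixed roots forming an `A₂`-pair.** -/
theorem obs_two_fix [Finite K] (hp : Odd p) {x : MulAut K} (hxx : ∀ g, x (x g) = g) {c d : I → ℤ}
    (hA : A2 cs h c d) (hc : (X c).map x.toMonoidHom = X c) (hc' : (X (-c)).map x.toMonoidHom = X (-c))
    (hd : (X d).map x.toMonoidHom = X d) (hd' : (X (-d)).map x.toMonoidHom = X (-d))
    (he : (X (c + d)).map x.toMonoidHom = X (c + d)) (he' : (X (-(c + d))).map x.toMonoidHom = X (-(c + d))) :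
    Obs p x := by
  by_contra hno
  have ic := inv_of_not_obs R hp hxx hA hc hc' hno
  have id' := inv_of_not_obs R hp hxx hA.symm hd hd' hno
  obtain ⟨u, hu, hu1⟩ : ∃ v ∈ X c, v ≠ 1 := by
    by_contra hcon
    push Not at hcon
    exact X_ne_bot R hA.rx ((Subgroup.eq_bot_iff_forall _).2 hcon)
  obtain ⟨v, hv, hv1⟩ : ∃ v ∈ X d, v ≠ 1 := by
    by_contra hcon
    push Not at hcon
    exact X_ne_bot R hA.ry ((Subgroup.eq_bot_iff_forall _).2 hcon)
  have hw := A2.comm_mem R hA hu hv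
  have h1 : ⁅u⁻¹, v⁻¹⁆ = ⁅u, v⁆ := by
    have c1 : ⁅u, v⁆ * u = u * ⁅u, v⁆ := A2.comm_left R hA hw hu
    have c2 : ⁅u, v⁆ * v = v * ⁅u, v⁆ := A2.comm_right R hA hw hv
    have c3 : Commute ⁅u, v⁆ (v * u) := Commute.mul_right c2 c1
    have h2 : ⁅u⁻¹, v⁻¹⁆ = (v * u)⁻¹ * ⁅u, v⁆ * (v * u) := by
      rw [commutatorElement_def, commutatorElement_def]; group
    rw [h2, mul_assoc, c3.eq, inv_mul_cancel_left]
  have h2 : x ⁅u, v⁆ = ⁅u, v⁆ := by
    rw [map_commutatorElement, ic u hu, id' v hv, h1]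
  have hA3 : A2 cs h (c + d) (-c) := a2_rot hA
  exact hno (obs_fix R hp hA3 he he' hw (A2.comm_ne_one R hA hu hu1 hv hv1) h2)

/-- **`x` maps `X c` to a commuting root group.** `z` inverts `X d`, `x z` centralises it. -/
theorem obs_swapA2 [Finite K] (hp : Odd p) {x : MulAut K} (hxx : ∀ g, x (x g) = g) {c d c' : I → ℤ}
    (hA : A2 cs h c d) (hx : (X c).map x.toMonoidHom = X c') (hx' : (X (-c)).map x.toMonoidHom = X (-c'))
    (hcc : ∀ a, a ∈ X c ∨ a ∈ X (-c) → ∀ b, b ∈ X c' ∨ b ∈ X (-c') → Commute a b)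
    (hd : ∀ v ∈ X d, ∀ b, b ∈ X c' ∨ b ∈ X (-c') → Commute v b) : Obs p x := by
  obtain ⟨u, hu, hu1⟩ : ∃ v ∈ X c, v ≠ 1 := by
    by_contra hcon
    push Not at hcon
    exact X_ne_bot R hA.rx ((Subgroup.eq_bot_iff_forall _).2 hcon)
  obtain ⟨v, hv, hv1⟩ : ∃ v ∈ X d, v ≠ 1 := by
    by_contra hcon
    push Not at hcon
    exact X_ne_bot R hA.ry ((Subgroup.eq_bot_iff_forall _).2 hcon)
  obtain ⟨s, hs, a, ha, b, hb, m, hm, he⟩ := exists_mu R hA.rx hu hu1
  have hxm : ∀ s, s ∈ X c ∨ s ∈ X (-c) → x s ∈ X c' ∨ x s ∈ X (-c') := by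
    rintro s (hs | hs)
    · left; rw [← hx]; exact Subgroup.mem_map_of_mem x.toMonoidHom hs
    · right; rw [← hx']; exact Subgroup.mem_map_of_mem x.toMonoidHom hs
  have hmS : m ∈ Subgroup.closure {g | g ∈ X c ∨ g ∈ X (-c)} := by
    rw [he]
    exact mul_mem (mul_mem (Subgroup.subset_closure (Or.inr ha)) (Subgroup.subset_closure (Or.inl hu)))
      (Subgroup.subset_closure (Or.inr hb))
  refine obs_swap hxx (S := {g | g ∈ X c ∨ g ∈ X (-c)}) ?_ ?_ (z := m * m) (mul_mem hmS hmS) ?_ ?_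
  · rintro s (hs | hs)
    · exact pe_of_mem R hA.rx hs
    · exact pe_of_mem R hA.rx.neg hs
  · intro s hs s' hs'
    exact hcc s hs _ (hxm s' hs')
  · intro s' hs'
    exact sq_central R hA ha hu hb hs hm he hs'
  · have h1 : Commute (x (m * m)) v := by
      have h2 : x (m * m) ∈ Subgroup.closure {g | g ∈ X c' ∨ g ∈ X (-c')} := by
        have h3 : ∀ g ∈ Subgroup.closure {g | g ∈ X c ∨ g ∈ X (-c)},
            x g ∈ Subgroup.closure {g | g ∈ X c' ∨ g ∈ X (-c')} := by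
          intro g hg
          have h4 : (Subgroup.closure {g | g ∈ X c ∨ g ∈ X (-c)}).map x.toMonoidHom ≤
              Subgroup.closure {g | g ∈ X c' ∨ g ∈ X (-c')} := by
            rw [MonoidHom.map_closure, Subgroup.closure_le]
            rintro _ ⟨g, hg, rfl⟩
            exact Subgroup.subset_closure (hxm g hg)
          exact h4 ⟨g, hg, rfl⟩
        exact h3 _ (mul_mem hmS hmS)
      refine commute_closure (S := {g | g ∈ X c' ∨ g ∈ X (-c')}) (T := {v}) ?_ h2
        (Subgroup.subset_closure (Set.mem_singleton v))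
      rintro g hg _ rfl
      exact (hd _ hv g hg).symm
    refine even_of_inv hp (pe_of_mem R hA.ry hv) hv1 ?_
    calc m * m * x (m * m) * v * (m * m * x (m * m))⁻¹ = m * m * (x (m * m) * v * (x (m * m))⁻¹) * (m * m)⁻¹ := by
          group
      _ = m * m * v * (m * m)⁻¹ := by rw [h1.eq, mul_inv_cancel_right]
      _ = v⁻¹ := sq_inv R hA ha hu hb hs hm he hv

end Fix

end Cfsg.Agent.H286.RootObs
end

-- part: H286/Comb
section
/-!
# Root combinatorics for the normal form of an involutory automorphism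

* `A2.act`, `a2_simple` : `A₂`-pairs;
* `rep_wJ_apply` : the action of the longest element of a commuting parabolic subgroup, in coordinates;
* `comm_iff`, `A_zero`, ... ; the images of the simple root groups under `NX`.
-/

set_option autoImplicit false
set_option linter.unusedSectionVars false

namespace Cfsg.Agent.H286.Comb

open CoxeterSystem Cfsg.Agent.ChevalleyStructure.CoxeterGeom Cfsg.Agent.Tits.Roots Cfsg.Agent.Tits.Core
  Cfsg.Agent.Tits.RootComb Cfsg.Agent.Tits.Exchange Cfsg.Agent.Nodes.Comb Cfsg.Agent.Nodes.Reps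
  Cfsg.Agent.Nodes.BNOf Cfsg.Agent.Nodes.RGDLib Cfsg.Agent.Nodes.Bruhat Cfsg.Agent.Nodes.StabComb
  Cfsg.Agent.Nodes.OppDec Cfsg.Agent.Nodes.Coroot Cfsg.Agent.KFacts.RgdSL Cfsg.Agent.UGT.U2.FOne
  Cfsg.Agent.H286.Obs Cfsg.Agent.H286.RootObs

variable {I W K : Type*} [Fintype I] [DecidableEq I] [Group W] [Group K] {M : CoxeterMatrix I}
  {cs : CoxeterSystem M W} {A : I → I → ℤ} {h : IsCartan M A} {p : ℕ} {T : Subgroup K} {n : I → K}
  {X : (I → ℤ) → Subgroup K}

section Abs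

theorem A2.act [Finite W] {c d : I → ℤ} (hA : A2 cs h c d) (w : W) : A2 cs h (rep cs h w c) (rep cs h w d) := by
  have key : ∀ z, ∃ z', z = rep cs h w z' := fun z => ⟨rep cs h w⁻¹ z, by
    rw [← rep_mul_apply, mul_inv_cancel, map_one, Module.End.one_apply]⟩
  refine ⟨hA.rx.act w, hA.ry.act w, ?_, ?_, ?_, ?_, ?_, ?_, ?_, ?_⟩
  · rw [cpr_rep cs h w _ hA.ry, hA.cxy]
  · rw [cpr_rep cs h w _ hA.rx, hA.cyx]
  · intro z hz
    obtain ⟨z', rfl⟩ := key z
    rw [hA.b1 z' ((btwn_act_iff w).1 hz), map_add]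
  · intro z hz
    obtain ⟨z', rfl⟩ := key z
    rw [← map_neg] at hz
    exact hA.b2 z' ((btwn_act_iff w).1 hz)
  · intro z hz
    obtain ⟨z', rfl⟩ := key z
    rw [← map_neg, ← map_add] at hz
    rw [hA.b3 z' ((btwn_act_iff w).1 hz)]
  · intro z hz
    obtain ⟨z', rfl⟩ := key z
    rw [← map_neg, ← map_add] at hz
    rw [hA.b4 z' ((btwn_act_iff w).1 hz)]
  · intro z hz
    obtain ⟨z', rfl⟩ := key z
    rw [← map_add] at hz
    exact hA.b5 z' ((btwn_act_iff w).1 hz)
  · intro z hz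
    obtain ⟨z', rfl⟩ := key z
    rw [← map_add] at hz
    exact hA.b6 z' ((btwn_act_iff w).1 hz)

theorem pairing_sr (i j : I) : pairing A i (sr j) = A i j := by rw [sr, pairing_single, mul_one]

/-- commuting nodes -/
theorem A_zero_of_comm (cs : CoxeterSystem M W) (h : IsCartan M A) {i j : I} (hne : i ≠ j)
    (hc : cs.simple i * cs.simple j = cs.simple j * cs.simple i) : A i j = 0 := by
  have h1 := congrArg (fun w => rep cs h w (sr j)) hc
  simp only [rep_mul_apply] at h1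
  rw [rep_simple_sr, map_neg, rep_simple_eq, map_sub, rep_simple_sr, map_smul, rep_simple_eq] at h1
  have h2 := congrFun h1 i
  simp only [Pi.neg_apply, Pi.sub_apply, Pi.smul_apply, smul_eq_mul, sr_self, sr_ne hne, pairing_sr] at h2
  omega

theorem comm_of_A_zero (cs : CoxeterSystem M W) (h : IsCartan M A) {i j : I} (hne : i ≠ j) (h0 : A i j = 0) :
    cs.simple i * cs.simple j = cs.simple j * cs.simple i := by
  have hM : M i j = 2 := by
    rcases h.rel i j hne with h1 | h1 | h1 | h1 <;> omega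
  have h1 : (cs.simple i * cs.simple j) ^ 2 = 1 := by
    rw [← hM]; exact cs.simple_mul_simple_pow i j
  rw [pow_two] at h1
  calc cs.simple i * cs.simple j = cs.simple i * cs.simple j * (cs.simple i * cs.simple j) *
        (cs.simple j * (cs.simple i * cs.simple i) * cs.simple j) * (cs.simple j * cs.simple i) := by
        rw [cs.simple_mul_simple_self, mul_one, cs.simple_mul_simple_self, mul_one]
        calc cs.simple i * cs.simple j = cs.simple i * (cs.simple j * (cs.simple i * (cs.simple j * cs.simple j) *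
            cs.simple i)) := by
              rw [cs.simple_mul_simple_self, mul_one, cs.simple_mul_simple_self, mul_one]
          _ = _ := by group
    _ = cs.simple j * cs.simple i := by
      rw [h1, cs.simple_mul_simple_self, mul_one, cs.simple_mul_simple_self, one_mul, one_mul]

theorem A_zero_symm (h : IsCartan M A) {i j : I} (h0 : A i j = 0) : A j i = 0 := by
  by_cases hij : i = j
  · subst hij; exact h0
  · rcases h.rel i j hij with h1 | h1 | h1 | h1 <;> omega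

/-- the roots of a plane of type `A₂` -/
theorem root_of_supp_a2 [Finite W] (cs : CoxeterSystem M W) (h : IsCartan M A) {i j : I} (hne : i ≠ j)
    (h1 : A i j = -1) (h2 : A j i = -1) {z : I → ℤ} (hz : IsRoot cs h z) (hs : Supp i j z) :
    z = sr i ∨ z = -sr i ∨ z = sr j ∨ z = -sr j ∨ z = sr i + sr j ∨ z = -(sr i + sr j) := by
  obtain ⟨v, hv, k, hk, rfl⟩ := exists_of_supp cs h hz hs
  let P : (I → ℤ) → Prop := fun z => z = sr i ∨ z = -sr i ∨ z = sr j ∨ z = -sr j ∨ z = sr i + sr j ∨ z = -(sr i + sr j)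
  have hpi : ∀ z, P z → P (rep cs h (cs.simple i) z) := by
    have e1 : rep cs h (cs.simple i) (sr i) = -sr i := rep_simple_sr cs h i
    have e2 : rep cs h (cs.simple i) (sr j) = sr i + sr j := by
      rw [rep_simple_eq, pairing_sr, h1]; module
    rintro z (rfl | rfl | rfl | rfl | rfl | rfl)
    · exact Or.inr (Or.inl e1)
    · left; rw [map_neg, e1, neg_neg]
    · exact Or.inr (Or.inr (Or.inr (Or.inr (Or.inl e2))))
    · exact Or.inr (Or.inr (Or.inr (Or.inr (Or.inr (by rw [map_neg, e2])))))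
    · right; right; left; rw [map_add, e1, e2]; abel
    · right; right; right; left; rw [map_neg, map_add, e1, e2]; abel
  have hpj : ∀ z, P z → P (rep cs h (cs.simple j) z) := by
    have e1 : rep cs h (cs.simple j) (sr j) = -sr j := rep_simple_sr cs h j
    have e2 : rep cs h (cs.simple j) (sr i) = sr i + sr j := by
      rw [rep_simple_eq, pairing_sr, h2]; module
    rintro z (rfl | rfl | rfl | rfl | rfl | rfl)
    · exact Or.inr (Or.inr (Or.inr (Or.inr (Or.inl e2))))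
    · exact Or.inr (Or.inr (Or.inr (Or.inr (Or.inr (by rw [map_neg, e2])))))
    · exact Or.inr (Or.inr (Or.inr (Or.inl e1)))
    · right; right; left; rw [map_neg, e1, neg_neg]
    · left; rw [map_add, e1, e2]; abel
    · right; left; rw [map_neg, map_add, e1, e2]; abel
  change P _
  have hk' : P (sr k) := by
    rcases hk with rfl | rfl
    · exact Or.inl rfl
    · exact Or.inr (Or.inr (Or.inl rfl))
  clear hz hs
  unfold WJ at hv
  induction hv using Subgroup.closure_induction_left with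
  | one => rw [map_one, Module.End.one_apply]; exact hk'
  | mul_left w hw v _ ih =>
    obtain ⟨l, hl, rfl⟩ := hw
    rw [rep_mul_apply]
    rcases hl with rfl | rfl
    · exact hpi _ ih
    · exact hpj _ ih
  | inv_mul_cancel w hw v _ ih =>
    obtain ⟨l, hl, rfl⟩ := hw
    rw [rep_mul_apply, cs.inv_simple]
    rcases hl with rfl | rfl
    · exact hpi _ ih
    · exact hpj _ ih

/-- two simple roots joined by a simple bond -/
theorem a2_simple [Finite W] (cs : CoxeterSystem M W) (h : IsCartan M A) {i j : I} (hne : i ≠ j)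
    (h1 : A i j = -1) (h2 : A j i = -1) : A2 cs h (sr i) (sr j) := by
  have hsupp : ∀ {x y z : I → ℤ}, Btwn cs h x y z → Supp i j x → Supp i j y → Supp i j z := by
    rintro x y z ⟨-, m, a, b, hm, -, -, he⟩ hx hy k hk hk'
    have h3 := congrFun he k
    simp only [Pi.add_apply, Pi.smul_apply, smul_eq_mul, hx k hk hk', hy k hk hk', mul_zero, add_zero] at h3
    exact (mul_eq_zero.1 h3).resolve_left hm.ne'
  have si : Supp i j (sr i) := fun k hk _ => sr_ne hk
  have sj : Supp i j (sr j) := fun k _ hk => sr_ne hk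
  have si' : Supp i j (-sr i) := fun k hk hk' => by rw [Pi.neg_apply, si k hk hk', neg_zero]
  have sj' : Supp i j (-sr j) := fun k hk hk' => by rw [Pi.neg_apply, sj k hk hk', neg_zero]
  have sij : Supp i j (sr i + sr j) := fun k hk hk' => by rw [Pi.add_apply, si k hk hk', sj k hk hk', add_zero]
  have ei : (sr i : I → ℤ) i = 1 := sr_self i
  have ej : (sr j : I → ℤ) j = 1 := sr_self j
  have eij : (sr i : I → ℤ) j = 0 := sr_ne hne.symm
  have eji : (sr j : I → ℤ) i = 0 := sr_ne hne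
  have cases6 : ∀ {x y z : I → ℤ}, Btwn cs h x y z → Supp i j x → Supp i j y →
      ∃ m a b : ℤ, 0 < m ∧ 0 < a ∧ 0 < b ∧ m * z i = a * x i + b * y i ∧ m * z j = a * x j + b * y j ∧
      ((z = sr i ∧ z i = 1 ∧ z j = 0) ∨ (z = -sr i ∧ z i = -1 ∧ z j = 0) ∨ (z = sr j ∧ z i = 0 ∧ z j = 1) ∨
        (z = -sr j ∧ z i = 0 ∧ z j = -1) ∨ (z = sr i + sr j ∧ z i = 1 ∧ z j = 1) ∨
        (z = -(sr i + sr j) ∧ z i = -1 ∧ z j = -1)) := by
    intro x y z hz hx hy
    have hs := hsupp hz hx hy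
    obtain ⟨hzr, m, a, b, hm, ha, hb, he⟩ := hz
    refine ⟨m, a, b, hm, ha, hb, congrFun he i, congrFun he j, ?_⟩
    rcases root_of_supp_a2 cs h hne h1 h2 hzr hs with rfl | rfl | rfl | rfl | rfl | rfl
    · exact Or.inl ⟨rfl, ei, eij⟩
    · exact Or.inr (Or.inl ⟨rfl, by rw [Pi.neg_apply, ei], by rw [Pi.neg_apply, eij, neg_zero]⟩)
    · exact Or.inr (Or.inr (Or.inl ⟨rfl, eji, ej⟩))
    · exact Or.inr (Or.inr (Or.inr (Or.inl ⟨rfl, by rw [Pi.neg_apply, eji, neg_zero], by rw [Pi.neg_apply, ej]⟩)))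
    · exact Or.inr (Or.inr (Or.inr (Or.inr (Or.inl ⟨rfl, by rw [Pi.add_apply, ei, eji, add_zero],
        by rw [Pi.add_apply, eij, ej, zero_add]⟩))))
    · exact Or.inr (Or.inr (Or.inr (Or.inr (Or.inr ⟨rfl, by rw [Pi.neg_apply, Pi.add_apply, ei, eji, add_zero],
        by rw [Pi.neg_apply, Pi.add_apply, eij, ej, zero_add]⟩))))
  have ri := isRoot_sr cs h i
  have rj := isRoot_sr cs h j
  refine ⟨ri, rj, ?_, ?_, ?_, ?_, ?_, ?_, ?_, ?_⟩
  · rw [cpr_sr, pairing_sr, h2]
  · rw [cpr_sr, pairing_sr, h1]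
  · intro z hz
    obtain ⟨m, a, b, hm, ha, hb, e1, e2, h3⟩ := cases6 hz si sj
    rw [ei, eji] at e1
    rw [eij, ej] at e2
    rcases h3 with ⟨h3, u, v⟩ | ⟨h3, u, v⟩ | ⟨h3, u, v⟩ | ⟨h3, u, v⟩ | ⟨h3, u, v⟩ | ⟨h3, u, v⟩ <;> rw [u] at e1 <;>
      rw [v] at e2 <;> first | exact h3 | (exfalso; omega)
  · intro z hz
    obtain ⟨m, a, b, hm, ha, hb, e1, e2, h3⟩ := cases6 hz si' sj
    rw [Pi.neg_apply, ei, eji] at e1
    rw [Pi.neg_apply, eij, ej] at e2
    rcases h3 with ⟨h3, u, v⟩ | ⟨h3, u, v⟩ | ⟨h3, u, v⟩ | ⟨h3, u, v⟩ | ⟨h3, u, v⟩ | ⟨h3, u, v⟩ <;> rw [u] at e1 <;>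
      rw [v] at e2 <;> (clear * - hb e2 ha e1 hm; solve | lia | omega)
  · intro z hz
    obtain ⟨m, a, b, hm, ha, hb, e1, e2, h3⟩ := cases6 hz si' sij
    rw [Pi.neg_apply, Pi.add_apply, ei, eji] at e1
    rw [Pi.neg_apply, Pi.add_apply, eij, ej] at e2
    rcases h3 with ⟨h3, u, v⟩ | ⟨h3, u, v⟩ | ⟨h3, u, v⟩ | ⟨h3, u, v⟩ | ⟨h3, u, v⟩ | ⟨h3, u, v⟩ <;> rw [u] at e1 <;>
      rw [v] at e2 <;> first | exact h3 | (exfalso; (clear * - hb e2 hm ha e1; solve | lia | omega))
  · intro z hz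
    obtain ⟨m, a, b, hm, ha, hb, e1, e2, h3⟩ := cases6 hz sj' sij
    rw [Pi.neg_apply, Pi.add_apply, ei, eji] at e1
    rw [Pi.neg_apply, Pi.add_apply, eij, ej] at e2
    rcases h3 with ⟨h3, u, v⟩ | ⟨h3, u, v⟩ | ⟨h3, u, v⟩ | ⟨h3, u, v⟩ | ⟨h3, u, v⟩ | ⟨h3, u, v⟩ <;> rw [u] at e1 <;>
      rw [v] at e2 <;> first | exact h3 | (exfalso; (clear * - hm hb e1 ha e2; solve | lia | omega))
  · intro z hz
    obtain ⟨m, a, b, hm, ha, hb, e1, e2, h3⟩ := cases6 hz sij sj
    rw [Pi.add_apply, ei, eji] at e1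
    rw [Pi.add_apply, eij, ej] at e2
    rcases h3 with ⟨h3, u, v⟩ | ⟨h3, u, v⟩ | ⟨h3, u, v⟩ | ⟨h3, u, v⟩ | ⟨h3, u, v⟩ | ⟨h3, u, v⟩ <;> rw [u] at e1 <;>
      rw [v] at e2 <;> (clear * - ha hb e2 hm e1; solve | lia | omega)
  · intro z hz
    obtain ⟨m, a, b, hm, ha, hb, e1, e2, h3⟩ := cases6 hz sij si
    rw [Pi.add_apply, ei, eji] at e1
    rw [Pi.add_apply, eij, ej] at e2
    rcases h3 with ⟨h3, u, v⟩ | ⟨h3, u, v⟩ | ⟨h3, u, v⟩ | ⟨h3, u, v⟩ | ⟨h3, u, v⟩ | ⟨h3, u, v⟩ <;> rw [u] at e1 <;>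
      rw [v] at e2 <;> (clear * - ha e2 hb e1; solve | lia | omega)

open Classical in
/-- the elements of a commuting parabolic subgroup, in coordinates -/
theorem rep_WJ_apply (cs : CoxeterSystem M W) (h : IsCartan M A) {J : Set I}
    (hJ : ∀ i ∈ J, ∀ j ∈ J, cs.simple i * cs.simple j = cs.simple j * cs.simple i) {w : W} (hw : w ∈ WJ cs J) :
    ∃ S : Set I, S ⊆ J ∧ ∀ x k, rep cs h w x k = if k ∈ S then x k - pairing A k x else x k := by
  have hstep : ∀ l ∈ J, ∀ v : W, (∃ S : Set I, S ⊆ J ∧ ∀ x k, rep cs h v x k =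
      if k ∈ S then x k - pairing A k x else x k) → ∃ S : Set I, S ⊆ J ∧ ∀ x k, rep cs h (cs.simple l * v) x k =
      if k ∈ S then x k - pairing A k x else x k := by
    rintro l hl v ⟨S, hS, hv⟩
    have key : ∀ x, pairing A l (rep cs h v x) = if l ∈ S then -pairing A l x else pairing A l x := by
      intro x
      have e1 : pairing A l (rep cs h v x) = ∑ k, (A l k * x k - if k = l then (if l ∈ S then 2 * pairing A l x else 0)
          else 0) := by
        unfold pairing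
        refine Finset.sum_congr rfl fun k _ => ?_
        rw [hv]
        by_cases hk : k = l
        · subst hk
          rw [if_pos rfl]
          split_ifs with hkS
          · rw [h.diag]; unfold pairing; ring
          · ring
        · rw [if_neg hk, sub_zero]
          split_ifs with hkS
          · rw [A_zero_of_comm cs h (Ne.symm hk) (hJ l hl k (hS hkS))]; ring
          · rfl
      rw [e1, Finset.sum_sub_distrib, Finset.sum_ite_eq' Finset.univ l, if_pos (Finset.mem_univ l)]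
      change pairing A l x - _ = _
      split_ifs
      · ring
      · ring
    by_cases hlS : l ∈ S
    · refine ⟨S \ {l}, Set.diff_subset.trans hS, fun x k => ?_⟩
      rw [rep_mul_apply]
      by_cases hk : k = l
      · subst hk
        rw [rep_simple_apply_self, key, if_pos hlS, hv, if_pos hlS, if_neg (by simp)]; ring
      · rw [rep_simple_apply cs h l _ k hk, hv]
        simp [hk]
    · refine ⟨insert l S, Set.insert_subset hl hS, fun x k => ?_⟩
      rw [rep_mul_apply]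
      by_cases hk : k = l
      · subst hk
        rw [rep_simple_apply_self, key, if_neg hlS, hv, if_neg hlS, if_pos (by simp)]
      · rw [rep_simple_apply cs h l _ k hk, hv]
        simp [hk]
  unfold WJ at hw
  induction hw using Subgroup.closure_induction_left with
  | one => exact ⟨∅, Set.empty_subset _, fun x k => by simp only [_root_.map_one, _root_.Module.End.one_apply, _root_.Set.mem_empty_iff_false, ↓ _root_.reduceIte]⟩
  | mul_left w hw v _ ih =>
    obtain ⟨l, hl, rfl⟩ := hw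
    exact hstep l hl v ih
  | inv_mul_cancel w hw v _ ih =>
    obtain ⟨l, hl, rfl⟩ := hw
    rw [cs.inv_simple]
    exact hstep l hl v ih

open Classical in
/-- **The longest element of a commuting parabolic subgroup, in coordinates.** -/
theorem rep_wJ_apply [Finite W] (cs : CoxeterSystem M W) (h : IsCartan M A) {J : Set I}
    (hJ : ∀ i ∈ J, ∀ j ∈ J, cs.simple i * cs.simple j = cs.simple j * cs.simple i) (x : I → ℤ) (k : I) :
    rep cs h (wJ cs J) x k = if k ∈ J then x k - pairing A k x else x k := by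
  obtain ⟨S, hS, hv⟩ := rep_WJ_apply cs h hJ (isLongest_wJ cs J).mem
  have hSJ : S = J := by
    refine Set.Subset.antisymm hS fun j hj => ?_
    by_contra hjS
    have h1 := hv (sr j) j
    rw [if_neg hjS, Cfsg.Agent.UGT.U2.FOne.rep_wJ_sr cs h hJ hj, Pi.neg_apply, sr_self] at h1
    omega
  rw [hv, hSJ]

end Abs

end Cfsg.Agent.H286.Comb
end

-- part: H286/Chain
section
/-!
# The chain theorem

`NF` the normal form of an involutory automorphism `x`, the diagram has an end node `i0` and a chain `i0 - i1 - i2 - i3`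
of simple bonds (`i0` has no other neighbour, `i1` no other neighbour): then `Obs p x`.
-/

set_option autoImplicit false
set_option linter.unusedSectionVars false

namespace Cfsg.Agent.H286.Chain

open CoxeterSystem Cfsg.Agent.ChevalleyStructure.CoxeterGeom Cfsg.Agent.Tits.Roots Cfsg.Agent.Tits.Core
  Cfsg.Agent.Tits.RootComb Cfsg.Agent.Tits.Exchange Cfsg.Agent.Nodes.Comb Cfsg.Agent.Nodes.Reps
  Cfsg.Agent.Nodes.BNOf Cfsg.Agent.Nodes.RGDLib Cfsg.Agent.Nodes.Bruhat Cfsg.Agent.Nodes.StabComb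
  Cfsg.Agent.Nodes.OppDec Cfsg.Agent.Nodes.Coroot Cfsg.Agent.KFacts.RgdSL Cfsg.Agent.UGT.U2.FOne
  Cfsg.Agent.H286.Obs Cfsg.Agent.H286.RootObs Cfsg.Agent.H286.Comb

variable {I W K : Type*} [Fintype I] [DecidableEq I] [Group W] [Group K] {M : CoxeterMatrix I}
  {cs : CoxeterSystem M W} {A : I → I → ℤ} {h : IsCartan M A} {p : ℕ} {T : Subgroup K} {n : I → K}
  {X : (I → ℤ) → Subgroup K}

section NX

variable {x : MulAut K} {φ : W ≃* W} {σ : I → I} {J : Set I} (H : NX cs h p T n X x φ σ J)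

include H

omit H in
theorem rs (i j : I) : rep cs h (cs.simple i) (sr j) = sr j - A i j • sr i := by rw [rep_simple_eq, pairing_sr]

theorem map_sr (i : I) : (X (sr i)).map x.toMonoidHom = X (rep cs h (wJ cs J) (sr (σ i))) := by
  have h1 := H.xX 1 i
  rwa [map_one, Module.End.one_apply, map_one, mul_one] at h1

theorem map_sr_add {i j : I} (hji : A j i = -1) (hji' : A (σ j) (σ i) = -1) :
    (X (sr i + sr j)).map x.toMonoidHom = X (rep cs h (wJ cs J) (sr (σ i) + sr (σ j))) := by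
  have h1 := H.xX (cs.simple j) i
  rw [H.φ_simple, rep_mul_apply, rep_simple_eq, rep_simple_eq, pairing_sr, pairing_sr, hji, hji'] at h1
  rwa [neg_one_smul, sub_neg_eq_add, neg_one_smul, sub_neg_eq_add] at h1

theorem x_neg [Finite W] {b b' : I → ℤ} (hb : IsRoot cs h b) (hb' : IsRoot cs h b')
    (hx : (X b).map x.toMonoidHom = X b') : (X (-b)).map x.toMonoidHom = X (-b') := by
  obtain ⟨b'', hb'', h1, h2⟩ := H.exists_xX hb
  rw [hx] at h1
  rw [X_injective H.rgd hb' hb'' h1]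
  exact h2

theorem map_back {b b' : I → ℤ} (hx : (X b).map x.toMonoidHom = X b') : (X b').map x.toMonoidHom = X b := by
  rw [← hx, H.map_map]

theorem sigma_M [Finite W] (i j : I) : M (σ i) (σ j) = M i j := FFour.sigma_matrix H.φ_simple i j

theorem sigma_inj : Function.Injective σ := fun a b hab => by rw [← H.σσ a, hab, H.σσ]

theorem sigma_zero [Finite W] {i j : I} (hne : i ≠ j) (h0 : A i j = 0) : A (σ i) (σ j) = 0 := by
  have h1 := sigma_M H i j
  have h2 := h.rel i j hne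
  have h3 := h.rel (σ i) (σ j) fun e => hne (sigma_inj H e)
  omega

theorem sigma_ne_zero [Finite W] {i j : I} (hne : i ≠ j) (h0 : A i j ≠ 0) : A (σ i) (σ j) ≠ 0 := by
  have h1 := sigma_M H i j
  have h2 := h.rel i j hne
  have h3 := h.rel (σ i) (σ j) fun e => hne (sigma_inj H e)
  omega

/-- two adjacent nodes are not both in `J` -/
theorem not_both {i j : I} (hne : i ≠ j) (h0 : A i j ≠ 0) (hi : i ∈ J) : j ∉ J := fun hj =>
  h0 (A_zero_of_comm cs h hne (H.Jcomm i hi j hj))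

theorem not_mem_of_sigma {i : I} (hi : σ i ≠ i) : i ∉ J := fun hJ => hi (H.Jσ i hJ)

open Classical in
theorem wJ_sr [Finite W] {i : I} (hi : i ∉ J) (k : I) :
    rep cs h (wJ cs J) (sr i) k = if k ∈ J then -A k i else (sr i : I → ℤ) k := by
  rw [rep_wJ_apply cs h H.Jcomm]
  split_ifs with hk
  · rw [pairing_sr, sr_ne (ne_of_mem_of_not_mem hk hi), zero_sub]
  · rfl

theorem wJ_sr_fix [Finite W] {i : I} (hi : i ∉ J) (hn : ∀ k ∈ J, A k i = 0) : rep cs h (wJ cs J) (sr i) = sr i := by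
  funext k
  rw [wJ_sr H hi]
  split_ifs with hk
  · rw [hn k hk, neg_zero, sr_ne (ne_of_mem_of_not_mem hk hi)]
  · rfl

theorem wJ_sr_one [Finite W] {i j : I} (hi : i ∉ J) (hj : j ∈ J) (hji : A j i = -1)
    (hn : ∀ k ∈ J, k ≠ j → A k i = 0) : rep cs h (wJ cs J) (sr i) = sr j + sr i := by
  funext k
  rw [wJ_sr H hi, Pi.add_apply]
  by_cases hkj : k = j
  · subst hkj
    rw [if_pos hj, hji, sr_self, sr_ne (ne_of_mem_of_not_mem hj hi)]; norm_num
  · rw [sr_ne hkj, zero_add]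
    split_ifs with hk
    · rw [hn k hk hkj, neg_zero, sr_ne (ne_of_mem_of_not_mem hk hi)]
    · rfl

theorem wJ_sr_two [Finite W] {i j j' : I} (hi : i ∉ J) (hj : j ∈ J) (hj' : j' ∈ J) (hjj : j ≠ j') (hji : A j i = -1)
    (hji' : A j' i = -1) (hn : ∀ k ∈ J, k ≠ j → k ≠ j' → A k i = 0) :
    rep cs h (wJ cs J) (sr i) = sr j + sr i + sr j' := by
  funext k
  rw [wJ_sr H hi, Pi.add_apply, Pi.add_apply]
  by_cases hkj : k = j
  · subst hkj
    rw [if_pos hj, hji, sr_self, sr_ne (ne_of_mem_of_not_mem hj hi), sr_ne hjj]; norm_num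
  by_cases hkj' : k = j'
  · subst hkj'
    rw [if_pos hj', hji', sr_self, sr_ne (ne_of_mem_of_not_mem hj' hi), sr_ne hjj.symm]; norm_num
  · rw [sr_ne hkj, zero_add, sr_ne hkj', add_zero]
    split_ifs with hk
    · rw [hn k hk hkj hkj', neg_zero, sr_ne (ne_of_mem_of_not_mem hk hi)]
    · rfl

end NX

/-- commuting simple root groups with signs -/
theorem comm_nodes [Finite W] (R : RGD cs h p T n X) {i j : I} (hne : i ≠ j) (h0 : A i j = 0) {a b : K}
    (ha : a ∈ X (sr i) ∨ a ∈ X (-sr i)) (hb : b ∈ X (sr j) ∨ b ∈ X (-sr j)) : Commute a b := by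
  have hc := comm_of_A_zero cs h hne h0
  rcases ha with ha | ha <;> rcases hb with hb | hb
  · exact comm_of_comm R hne hc (Or.inl rfl) (Or.inl rfl) a ha b hb
  · exact comm_of_comm R hne hc (Or.inl rfl) (Or.inr rfl) a ha b hb
  · exact comm_of_comm R hne hc (Or.inr rfl) (Or.inl rfl) a ha b hb
  · exact comm_of_comm R hne hc (Or.inr rfl) (Or.inr rfl) a ha b hb

/-- transport of commuting root groups under the Weyl group -/
theorem comm_act [Finite W] (R : RGD cs h p T n X) {c d : I → ℤ} (hc : IsRoot cs h c) (hd : IsRoot cs h d)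
    (hcd : ∀ a, a ∈ X c ∨ a ∈ X (-c) → ∀ b, b ∈ X d ∨ b ∈ X (-d) → Commute a b) (w : W) :
    ∀ a, a ∈ X (rep cs h w c) ∨ a ∈ X (-rep cs h w c) → ∀ b, b ∈ X (rep cs h w d) ∨ b ∈ X (-rep cs h w d) →
      Commute a b := by
  obtain ⟨g, hg⟩ := exists_rp cs R.nsys w
  have key : ∀ y, IsRoot cs h y → ∀ a, a ∈ X (rep cs h w y) ∨ a ∈ X (-rep cs h w y) →
      g⁻¹ * a * g ∈ X y ∨ g⁻¹ * a * g ∈ X (-y) := by
    intro y hy a ha
    rw [← map_neg, ← R.conj_rp hg hy, ← R.conj_rp hg hy.neg, mem_cj, mem_cj] at ha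
    exact ha
  intro a ha b hb
  have h1 := hcd _ (key c hc a ha) _ (key d hd b hb)
  have h2 := h1.map (MulAut.conj g).toMonoidHom
  have e : ∀ y : K, (MulAut.conj g).toMonoidHom (g⁻¹ * y * g) = y := by
    intro y
    change g * (g⁻¹ * y * g) * g⁻¹ = y
    group
  rwa [e, e] at h2

section Main

variable [hp : Fact p.Prime] [Finite W] [Finite K] {x d : MulAut K} {φ : W ≃* W} {σ : I → I} {J : Set I} {g : K}

/-- **natJ for the simple roots.** -/
theorem false_one (N : NF cs h p T n X x d φ σ J g) {i j : I} (hi : i ∉ J) (hσ : σ i = i) (hj : j ∈ J)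
    (hji : A j i = -1) (hij : A i j = -1) (hn : ∀ k ∈ J, k ≠ j → A k i = 0) : False := by
  have hne : j ≠ i := fun e => hi (e ▸ hj)
  refine N.false_of_natJ hj (a2_simple cs h hne hji hij) ?_
  rw [map_sr N.nx, hσ, wJ_sr_one N.nx hi hj hji hn]

/-- two adjacent fixed simple roots -/
theorem obs_two (hp2 : Odd p) (N : NF cs h p T n X x d φ σ J g) {i j : I} (hi : i ∉ J) (hj : j ∉ J) (hσi : σ i = i)
    (hσj : σ j = j) (hji : A j i = -1) (hij : A i j = -1) (hni : ∀ k ∈ J, A k i = 0) (hnj : ∀ k ∈ J, A k j = 0) :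
    Obs p x := by
  have H := N.nx
  have hne : i ≠ j := by
    rintro rfl
    have := h.diag i
    omega
  have hA := a2_simple cs h hne hij hji
  have ei : rep cs h (wJ cs J) (sr i) = sr i := wJ_sr_fix H hi hni
  have ej : rep cs h (wJ cs J) (sr j) = sr j := wJ_sr_fix H hj hnj
  have h1 : (X (sr i)).map x.toMonoidHom = X (sr i) := by rw [map_sr H, hσi, ei]
  have h2 : (X (sr j)).map x.toMonoidHom = X (sr j) := by rw [map_sr H, hσj, ej]
  have h3 : (X (sr i + sr j)).map x.toMonoidHom = X (sr i + sr j) := by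
    rw [map_sr_add H hji (by rw [hσi, hσj]; exact hji), hσi, hσj, map_add, ei, ej]
  exact obs_two_fix N.rgd hp2 N.xx hA h1 (x_neg H hA.rx hA.rx h1) h2 (x_neg H hA.ry hA.ry h2) h3
    (x_neg H hA.rxy hA.rxy h3)

/-- **The chain theorem.** -/
theorem obs_chain (hp2 : Odd p) (N : NF cs h p T n X x d φ σ J g) {i0 i1 i2 i3 : I} (n02 : i0 ≠ i2) (n13 : i1 ≠ i3)
    (n03 : i0 ≠ i3) (a01 : A i0 i1 = -1) (a10 : A i1 i0 = -1) (a12 : A i1 i2 = -1) (a21 : A i2 i1 = -1)
    (a23 : A i2 i3 = -1) (a32 : A i3 i2 = -1) (h0 : ∀ k, k ≠ i0 → k ≠ i1 → A k i0 = 0)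
    (h1 : ∀ k, k ≠ i0 → k ≠ i1 → k ≠ i2 → A k i1 = 0) : Obs p x := by
  have H := N.nx
  have R := N.rgd
  have hne : ∀ {i j : I}, A i j = -1 → i ≠ j := by
    rintro i j hij rfl
    have := h.diag i
    omega
  have n01 := hne a01
  have n12 := hne a12
  have n23 := hne a23
  by_cases hσ0 : σ i0 = i0
  · -- `σ` fixes `i0`, `i1`, `i2`
    have hσ1 : σ i1 = i1 := by
      by_contra hcon
      have e1 : A (σ i1) (σ i0) ≠ 0 := sigma_ne_zero H n01.symm (by omega)
      rw [hσ0] at e1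
      refine e1 (h0 _ (fun e => n01 ?_) hcon)
      rw [← hσ0] at e
      exact (sigma_inj H e).symm
    have hσ2 : σ i2 = i2 := by
      by_contra hcon
      have e1 : A (σ i2) (σ i1) ≠ 0 := sigma_ne_zero H n12.symm (by omega)
      rw [hσ1] at e1
      refine e1 (h1 _ (fun e => n02 ?_) (fun e => n12 ?_) hcon)
      · rw [← hσ0] at e; exact (sigma_inj H e).symm
      · rw [← hσ1] at e; exact (sigma_inj H e).symm
    by_cases m0 : i0 ∈ J
    · have m1 : i1 ∉ J := not_both H n01 (by omega) m0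
      by_cases m2 : i2 ∈ J
      · -- the swapped roots
        have m3 : i3 ∉ J := not_both H n23 (by omega) m2
        have e1 : rep cs h (wJ cs J) (sr i1) = sr i0 + sr i1 + sr i2 :=
          wJ_sr_two H m1 m0 m2 n02 a01 a21 fun k hk hk0 hk2 => h1 k hk0 (fun e => m1 (e ▸ hk)) hk2
        have hx : (X (sr i1)).map x.toMonoidHom = X (sr i0 + sr i1 + sr i2) := by
          rw [map_sr H, hσ1, e1]
        -- `w = s0 s1` maps `α_0`, `α_2` to `α_1`, `α_0 + α_1 + α_2`
        obtain ⟨w, hw⟩ : ∃ w, w = cs.simple i0 * cs.simple i1 := ⟨_, rfl⟩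
        have a02 : A i0 i2 = 0 := A_zero_symm h (h0 i2 n02.symm n12.symm)
        have a03 : A i0 i3 = 0 := A_zero_symm h (h0 i3 n03.symm n13.symm)
        have a13 : A i1 i3 = 0 := A_zero_symm h (h1 i3 n03.symm n13.symm n23.symm)
        have w0 : rep cs h w (sr i0) = sr i1 := by
          rw [hw, rep_mul_apply, rs, a10, map_sub, map_smul, rep_simple_sr, rs, a01]
          module
        have w2 : rep cs h w (sr i2) = sr i0 + sr i1 + sr i2 := by
          rw [hw, rep_mul_apply, rs, a12, map_sub, map_smul, rs, rs, a01, a02]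
          module
        have w3 : rep cs h w (sr i3) = sr i3 := by
          rw [hw, rep_mul_apply, rs, a13, map_sub, map_smul, rs, rs, a03, a01]
          module
        have r0 := isRoot_sr cs h i0
        have r1 := isRoot_sr cs h i1
        have r2 := isRoot_sr cs h i2
        have r3 := isRoot_sr cs h i3
        have rc : IsRoot cs h (sr i0 + sr i1 + sr i2) := w2 ▸ r2.act w
        have c02 : ∀ a, a ∈ X (sr i1) ∨ a ∈ X (-sr i1) → ∀ b, b ∈ X (sr i0 + sr i1 + sr i2) ∨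
            b ∈ X (-(sr i0 + sr i1 + sr i2)) → Commute a b := by
          have := comm_act R r0 r2 (fun a ha b hb => comm_nodes R n02 a02 ha hb) w
          rwa [w0, w2] at this
        have c13 : ∀ v ∈ X (sr i3), ∀ b, b ∈ X (sr i1) ∨ b ∈ X (-sr i1) → Commute v b :=
          fun v hv b hb => (comm_nodes R n13 a13 hb (Or.inl hv)).symm
        have hA : A2 cs h (sr i0 + sr i1 + sr i2) (sr i3) := by
          have := A2.act (a2_simple cs h n23 a23 a32) w
          rwa [w2, w3] at this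
        have hx' := map_back H hx
        exact obs_swapA2 R hp2 N.xx hA hx' (x_neg H rc r1 hx') (fun a ha b hb => (c02 b hb a ha).symm) c13
      · exact (false_one N m1 hσ1 m0 a01 a10 fun k hk hk0 => by
          by_cases hk2 : k = i2
          · exact absurd (hk2 ▸ hk) m2
          · exact h1 k hk0 (fun e => m1 (e ▸ hk)) hk2).elim
    · by_cases m1 : i1 ∈ J
      · exact (false_one N m0 hσ0 m1 a10 a01 fun k hk hk1 => h0 k (fun e => m0 (e ▸ hk)) hk1).elim
      · by_cases m2 : i2 ∈ J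
        · exact (false_one N m1 hσ1 m2 a21 a12 fun k hk hk2 =>
            h1 k (fun e => m0 (e ▸ hk)) (fun e => m1 (e ▸ hk)) hk2).elim
        · exact obs_two hp2 N m0 m1 hσ0 hσ1 a10 a01 (fun k hk => h0 k (fun e => m0 (e ▸ hk)) (fun e => m1 (e ▸ hk)))
            (fun k hk => h1 k (fun e => m0 (e ▸ hk)) (fun e => m1 (e ▸ hk)) (fun e => m2 (e ▸ hk)))
  · -- `σ` moves `i0`
    have ne01 : σ i0 ≠ i1 := by
      intro e
      -- the neighbour `i2` of `i1 = σ i0`
      have e1 : A (σ i2) (σ i1) ≠ 0 := sigma_ne_zero H n12.symm (by omega)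
      have e2 : σ i1 = i0 := by rw [← e, H.σσ]
      rw [e2] at e1
      have e3 : σ i2 = i1 := by
        by_contra hcon
        exact e1 (h0 _ (fun e4 => n12 (by rw [← e2] at e4; exact (sigma_inj H e4).symm)) hcon)
      rw [← e] at e3
      exact n02 (sigma_inj H e3).symm
    have ne02 : σ i0 ≠ i2 := by
      intro e
      -- `i2` has the neighbours `i1`, `i3`
      have e1 : σ i2 = i0 := by rw [← e, H.σσ]
      have b1 : A (σ i1) (σ i2) ≠ 0 := sigma_ne_zero H n12 (by omega)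
      have b3 : A (σ i3) (σ i2) ≠ 0 := sigma_ne_zero H n23.symm (by omega)
      rw [e1] at b1 b3
      have f1 : σ i1 = i1 := by
        by_contra hcon
        exact b1 (h0 _ (fun e4 => n12 (by rw [← e1] at e4; exact sigma_inj H e4)) hcon)
      have f3 : σ i3 = i1 := by
        by_contra hcon
        exact b3 (h0 _ (fun e4 => n23 (by rw [← e1] at e4; exact (sigma_inj H e4).symm)) hcon)
      rw [← f1] at f3
      exact n13 (sigma_inj H f3).symm
    have a0 : A i0 (σ i0) = 0 := A_zero_symm h (h0 _ hσ0 ne01)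
    have a1 : A (σ i0) i1 = 0 := h1 _ hσ0 ne01 ne02
    have hσ1 : σ i1 ≠ i1 := by
      intro e
      have e1 : A (σ i0) (σ i1) ≠ 0 := sigma_ne_zero H n01 (by omega)
      rw [e] at e1
      exact e1 a1
    have m0 : i0 ∉ J := not_mem_of_sigma H hσ0
    have m0' : σ i0 ∉ J := not_mem_of_sigma H (by rw [H.σσ]; exact fun e => hσ0 e.symm)
    have m1' : σ i1 ∉ J := not_mem_of_sigma H (by rw [H.σσ]; exact fun e => hσ1 e.symm)
    have e1 : rep cs h (wJ cs J) (sr (σ i0)) = sr (σ i0) := by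
      refine wJ_sr_fix H m0' fun k hk => ?_
      have e2 : A (σ k) i0 = 0 := by
        refine h0 _ (fun e3 => m0' ?_) (fun e3 => m1' ?_)
        · rw [← e3, H.σσ]; exact hk
        · rw [← e3, H.σσ]; exact hk
      have hk0 : σ k ≠ i0 := fun e3 => m0' (by rw [← e3, H.σσ]; exact hk)
      have e3 := sigma_zero H hk0 e2
      rwa [H.σσ] at e3
    have hx : (X (sr i0)).map x.toMonoidHom = X (sr (σ i0)) := by rw [map_sr H, e1]
    exact obs_swapA2 R hp2 N.xx (a2_simple cs h n01 a01 a10) hx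
      (x_neg H (isRoot_sr cs h i0) (isRoot_sr cs h _) hx)
      (fun a ha b hb => comm_nodes R (fun e => hσ0 e.symm) a0 ha hb)
      (fun v hv b hb => (comm_nodes R ne01 a1 hb (Or.inl hv)).symm)

end Main

end Cfsg.Agent.H286.Chain
end

-- part: H286/SqObs
section
/-!
# `Obs` from two orthogonal long roots

`c = y + y'`, `c1 = y' - y` classical (long) roots, `y ⟂ y'` short, all of them fixed by `x`.

* `obs_two_long` : fixed elements in `Z r`, `Z s`, `r ⟂ s` classical;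
* `obs_short` : a fixed element in `X y`, `z r ≠ z (s_y r)`;
* `obs_sq`, `sq_cases` : the configuration `Sq`.
-/

set_option autoImplicit false
set_option linter.unusedSectionVars false

namespace Cfsg.Agent.H286.SqObs

open CoxeterSystem Cfsg.Agent.ChevalleyStructure.CoxeterGeom Cfsg.Agent.Tits.Roots Cfsg.Agent.Tits.Core
  Cfsg.Agent.Tits.RootComb Cfsg.Agent.Tits.Exchange Cfsg.Agent.Nodes.Comb Cfsg.Agent.Nodes.Reps
  Cfsg.Agent.Nodes.BNOf Cfsg.Agent.Nodes.RGDLib Cfsg.Agent.Nodes.Bruhat Cfsg.Agent.Nodes.StabComb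
  Cfsg.Agent.Nodes.OppDec Cfsg.Agent.Nodes.Coroot Cfsg.Agent.KFacts.RgdSL Cfsg.Agent.UGT.U2.FOne
  Cfsg.Agent.H286.Obs Cfsg.Agent.H286.RootObs Cfsg.Agent.H286.Comb Cfsg.Agent.H286.Chain
  Cfsg.Agent.Nodes.Chart Cfsg.Agent.Nodes.Perp Cfsg.Agent.Nodes.ShortSum
open Cfsg.Agent.Nodes
open scoped commutatorElement

variable {I W K : Type*} [Fintype I] [DecidableEq I] [Group W] [Fintype W] [Group K] {M : CoxeterMatrix I}
  {cs : CoxeterSystem M W} {A : I → I → ℤ} {h : IsCartan M A} {p : ℕ} {T : Subgroup K} {n : I → K}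
  {X : (I → ℤ) → Subgroup K} {R : Set (I → ℤ)} {Z : (I → ℤ) → Subgroup K} {z : (I → ℤ) → K}
  (C : Cls cs h p T n X R Z z)

include C

/-- an element representing a reflection has even order -/
theorem even_refl [Finite K] {r : I → ℤ} (hr : IsRoot cs h r) {m : K} {s : W}
    (hs : ∀ y, rep cs h s y = y - cpr cs h y r • r) (hm : Rp cs C.rgd.nsys s m) : Even (orderOf m) := by
  have h1 : rep cs h s r = -r := by
    rw [hs, cpr_self cs h hr]; module
  have h2 : rep cs h s (-r) = r := by rw [map_neg, h1, neg_neg]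
  have e1 : cj m (X r) = X (-r) := by rw [C.rgd.conj_rp hm hr, h1]
  have e2 : cj m (X (-r)) = X r := by rw [C.rgd.conj_rp hm hr.neg, h2]
  refine even_of_swap (A := X r) (B := X (-r)) (fun h0 => ?_) (fun a ha => by rw [← e1]; exact conj_mem_cj.2 ha)
    (fun a ha => by rw [← e2]; exact conj_mem_cj.2 ha)
  have h3 := X_injective C.rgd hr hr.neg h0
  have h4 := hr.ne_zero
  apply h4
  funext k
  have := congrFun h3 k
  simp only [Pi.neg_apply] at this
  simp only [Pi.zero_apply]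
  omega

theorem mu_Z (hp : p.Prime) (hodd : p ≠ 2) {r : I → ℤ} (hr : r ∈ R) {u : K} (hu : u ∈ Z r) (hu1 : u ≠ 1) :
    ∃ a ∈ Z (-r), ∃ c ∈ Z (-r), ∃ w, Rp cs C.rgd.nsys w (a * u * c) ∧
      ∀ y, rep cs h w y = y - cpr cs h y r • r := by
  obtain ⟨a, ha, c, hc, w, hw, e⟩ := exists_refl_KK C hp hodd (_root_.Cfsg.Agent.Nodes.Perp.neg_mem C hr) (b := u) (by rwa [neg_neg]) hu1
  refine ⟨a, ha, c, hc, w, hw, fun y => ?_⟩
  rw [e, cpr_neg_right cs h y (C.root r hr)]
  module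

/-- **Fixed elements in two orthogonal classical root groups.** -/
theorem obs_two_long [Finite K] (hp : p.Prime) (hodd : p ≠ 2) {x : MulAut K} {r s : I → ℤ} (hr : r ∈ R)
    (hs : s ∈ R) (h0 : form cs h r s = 0)
    (xr : (X r).map x.toMonoidHom = X r) (xr' : (X (-r)).map x.toMonoidHom = X (-r))
    (xs : (X s).map x.toMonoidHom = X s) (xs' : (X (-s)).map x.toMonoidHom = X (-s))
    {u v : K} (hu : u ∈ Z r) (hu1 : u ≠ 1) (hxu : x u = u) (hv : v ∈ Z s) (hv1 : v ≠ 1) (hxv : x v = v) :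
    Obs p x := by
  have hrr := C.root r hr
  have hss := C.root s hs
  obtain ⟨a, ha, b, hb, w, hw, ew⟩ := mu_Z C hp hodd hr hu hu1
  obtain ⟨a', ha', b', hb', w', hw', ew'⟩ := mu_Z C hp hodd hs hv hv1
  obtain ⟨hxa, hxb⟩ := fix_mu C.rgd hrr xr xr' (C.le _ (_root_.Cfsg.Agent.Nodes.Perp.neg_mem C hr) ha) (C.le _ (_root_.Cfsg.Agent.Nodes.Perp.neg_mem C hr) hb) ew hw rfl hxu
  obtain ⟨hxa', hxb'⟩ := fix_mu C.rgd hss xs xs' (C.le _ (_root_.Cfsg.Agent.Nodes.Perp.neg_mem C hs) ha') (C.le _ (_root_.Cfsg.Agent.Nodes.Perp.neg_mem C hs) hb') ew' hw' rfl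
    hxv
  have : Fact p.Prime := ⟨hp⟩
  have pe : ∀ {r : I → ℤ}, r ∈ R → ∀ g ∈ Z r, PE p g := fun {r} hr g hg => pe_of_mem C.rgd (C.root r hr) (C.le r hr hg)
  have key : ∀ g, g ∈ Z r ∨ g ∈ Z (-r) → ∀ k, k ∈ Z s ∨ k ∈ Z (-s) → Commute g k := by
    intro g hg k hk
    have hk' : k ∈ KK Z s := by
      rcases hk with hk | hk
      · exact (le_sup_left : Z s ≤ KK Z s) hk
      · exact (le_sup_right : Z (-s) ≤ KK Z s) hk
    rcases hg with hg | hg
    · exact X_cm_KK C hs hrr h0 g (C.le r hr hg) k hk'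
    · exact X_cm_KK C hs hrr.neg (by rw [form_neg_left, h0, neg_zero]) g (C.le _ (_root_.Cfsg.Agent.Nodes.Perp.neg_mem C hr) hg) k hk'
  refine obs_W (S := {a, u, b}) (T := {a', v, b'}) ?_ ?_ ?_ (a := a * u * b) (b := a' * v * b') ?_ ?_
    (even_refl C hrr ew hw) (even_refl C hss ew' hw')
  · rintro g (rfl | rfl | rfl)
    · exact ⟨hxa, pe (_root_.Cfsg.Agent.Nodes.Perp.neg_mem C hr) _ ha⟩
    · exact ⟨hxu, pe hr _ hu⟩
    · exact ⟨hxb, pe (_root_.Cfsg.Agent.Nodes.Perp.neg_mem C hr) _ hb⟩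
  · rintro g (rfl | rfl | rfl)
    · exact ⟨hxa', pe (_root_.Cfsg.Agent.Nodes.Perp.neg_mem C hs) _ ha'⟩
    · exact ⟨hxv, pe hs _ hv⟩
    · exact ⟨hxb', pe (_root_.Cfsg.Agent.Nodes.Perp.neg_mem C hs) _ hb'⟩
  · rintro g (rfl | rfl | rfl) k (rfl | rfl | rfl)
    · exact key _ (Or.inr ha) _ (Or.inr ha')
    · exact key _ (Or.inr ha) _ (Or.inl hv)
    · exact key _ (Or.inr ha) _ (Or.inr hb')
    · exact key _ (Or.inl hu) _ (Or.inr ha')
    · exact key _ (Or.inl hu) _ (Or.inl hv)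
    · exact key _ (Or.inl hu) _ (Or.inr hb')
    · exact key _ (Or.inr hb) _ (Or.inr ha')
    · exact key _ (Or.inr hb) _ (Or.inl hv)
    · exact key _ (Or.inr hb) _ (Or.inr hb')
  · exact mul_mem (mul_mem (Subgroup.subset_closure (by simp)) (Subgroup.subset_closure (by simp)))
      (Subgroup.subset_closure (by simp))
  · exact mul_mem (mul_mem (Subgroup.subset_closure (by simp)) (Subgroup.subset_closure (by simp)))
      (Subgroup.subset_closure (by simp))

/-- a group inverted by an involution is abelian -/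
theorem comm_of_z {r y : I → ℤ} (hr : r ∈ R) (hy : IsRoot cs h y) (hne : y ≠ r) (hne' : y ≠ -r)
    (hf : form cs h y r ≠ 0) : ∀ a ∈ X y, ∀ b ∈ X y, a * b = b * a := by
  intro a ha b hb
  have h1 := C.z_inv r hr y hy hne hne' hf (a⁻¹ * b⁻¹) (mul_mem (inv_mem ha) (inv_mem hb))
  have h2 := C.z_inv r hr y hy hne hne' hf _ (inv_mem ha)
  have h3 := C.z_inv r hr y hy hne hne' hf _ (inv_mem hb)
  have h4 : z r * (a⁻¹ * b⁻¹) * z r = (z r * a⁻¹ * z r) * (z r * b⁻¹ * z r) := by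
    calc z r * (a⁻¹ * b⁻¹) * z r = z r * a⁻¹ * 1 * b⁻¹ * z r := by group
      _ = z r * a⁻¹ * (z r * z r) * b⁻¹ * z r := by rw [C.z_sq r hr]
      _ = _ := by group
  rw [h4, h2, h3, inv_inv, inv_inv, mul_inv_rev, inv_inv, inv_inv] at h1
  exact h1

/-- **A fixed element in a short root group.** -/
theorem obs_short [Finite K] {x : MulAut K} {r y : I → ℤ} (hr : r ∈ R) (hy : IsRoot cs h y) (hne : y ≠ r)
    (hne' : y ≠ -r) (hf : form cs h y r ≠ 0) (xy : (X y).map x.toMonoidHom = X y)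
    (xy' : (X (-y)).map x.toMonoidHom = X (-y)) (hz : z (r - cpr cs h r y • y) ≠ z r) {u : K} (hu : u ∈ X y)
    (hu1 : u ≠ 1) (hxu : x u = u) : Obs p x := by
  obtain ⟨a, ha, b, hb, w, hw, hwi, ew⟩ := MuSq.exists_mu' C.rgd hy hu hu1
  obtain ⟨hxa, hxb⟩ := fix_mu C.rgd hy xy xy' ha hb ew hw rfl hxu
  have hsq := MuSq.mu_sq C hr hy hne hne' hf hu ha hb hw hwi ew
  have hs : r - cpr cs h r y • y ∈ R := refl_mem C hr hy
  rw [ew] at hsq
  set! s := r - cpr cs h r y • y with hsd; rewrite [← hsd] at hs hsq hz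
  have hzr := C.z_sq r hr
  have hzs := C.z_sq s hs
  have hzc : z s * z r = z r * z s := ZRel.z_comm C hs hr
  obtain ⟨t, ht⟩ : ∃ t, t = a * u * b * (a * u * b) := ⟨_, rfl⟩
  rw [← ht] at hsq
  have ht2 : t * t = 1 := by
    rw [hsq]
    calc z s * z r * (z s * z r) = z s * (z r * z s) * z r := by group
      _ = z s * (z s * z r) * z r := by rw [hzc]
      _ = (z s * z s) * (z r * z r) := by group
      _ = 1 := by rw [hzr, hzs, one_mul]
  have ht1 : t ≠ 1 := by
    rw [hsq]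
    intro h0
    apply hz
    calc z s = z s * (z r * z r) := by rw [hzr, mul_one]
      _ = (z s * z r) * z r := by group
      _ = z r := by rw [h0, one_mul]
  -- `t` centralises `X (± y)`
  have hfs : form cs h y s ≠ 0 := by
    have h1 : form cs h y s = -form cs h y r := by
      have h2 := two_form_cpr cs h r hy
      rw [hsd, sub_eq_add_neg, form_add_right, form_neg_right, form_smul_right, ← h2, form_comm cs h r y]
      ring
    rw [h1]
    exact neg_ne_zero.2 hf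
  have hrefl : ∀ r : I → ℤ, IsRoot cs h r → (r - cpr cs h r y • y) - cpr cs h (r - cpr cs h r y • y) y • y = r := by
    intro r _
    rw [sub_eq_add_neg r, ← neg_smul, cpr_add cs h _ _ hy, cpr_smul cs h _ _ hy, cpr_self cs h hy]
    module
  have hys : y ≠ s := by
    intro h0
    have h1 := hrefl r (C.root r hr)
    rw [← hsd, ← h0, cpr_self cs h hy] at h1
    apply hne'
    rw [← h1]; module
  have hys' : y ≠ -s := by
    intro h0
    have h1 := hrefl r (C.root r hr)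
    rw [← hsd] at h1
    have h2 : s = -y := by rw [h0, neg_neg]
    rw [h2, cpr_neg cs h _ hy, cpr_self cs h hy] at h1
    apply hne
    rw [← h1]; module
  have cent : ∀ y', (y' = y ∨ y' = -y) → ∀ g ∈ X y', Commute g t := by
    intro y' hy' g hg
    have hyr : IsRoot cs h y' := by rcases hy' with rfl | rfl; exacts [hy, hy.neg]
    have n1 : y' ≠ r := by
      rcases hy' with rfl | rfl
      · exact hne
      · exact fun e => hne' (by rw [← e, neg_neg])
    have n2 : y' ≠ -r := by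
      rcases hy' with rfl | rfl
      · exact hne'
      · exact fun e => hne (neg_injective e)
    have n3 : y' ≠ s := by
      rcases hy' with rfl | rfl
      · exact hys
      · exact fun e => hys' (by rw [← e, neg_neg])
    have n4 : y' ≠ -s := by
      rcases hy' with rfl | rfl
      · exact hys'
      · exact fun e => hys (neg_injective e)
    have n5 : form cs h y' r ≠ 0 := by
      rcases hy' with rfl | rfl
      · exact hf
      · rw [form_neg_left]; exact neg_ne_zero.2 hf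
    have n6 : form cs h y' s ≠ 0 := by
      rcases hy' with rfl | rfl
      · exact hfs
      · rw [form_neg_left]; exact neg_ne_zero.2 hfs
    have e1 := C.z_inv r hr y' hyr n1 n2 n5 g hg
    have e2 := C.z_inv s hs y' hyr n3 n4 n6 _ (inv_mem hg)
    rw [inv_inv] at e2
    have e3 : t * g * t = g := by
      rw [hsq]
      calc z s * z r * g * (z s * z r) = z s * (z r * g * (z s * z r)) := by group
        _ = z s * (z r * g * (z r * z s)) := by rw [hzc]
        _ = z s * (z r * g * z r) * z s := by group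
        _ = g := by rw [e1, e2]
    change g * t = t * g
    calc g * t = t * g * t * t := by rw [e3]
      _ = t * g * (t * t) := by group
      _ = t * g := by rw [ht2, mul_one]
  have hE : Even (orderOf t) := by
    have : orderOf t = 2 := orderOf_eq_prime (by rw [pow_two, ht2]) ht1
    rw [this]; exact even_two
  refine obs_of_central (S := {a, u, b}) ?_ (t := t) ?_ ?_ hE
  · rintro g (rfl | rfl | rfl)
    · exact ⟨hxa, pe_of_mem C.rgd hy.neg ha⟩
    · exact ⟨hxu, pe_of_mem C.rgd hy hu⟩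
    · exact ⟨hxb, pe_of_mem C.rgd hy.neg hb⟩
  · have h1 : a * u * b ∈ Subgroup.closure ({a, u, b} : Set K) :=
      mul_mem (mul_mem (Subgroup.subset_closure (by simp)) (Subgroup.subset_closure (by simp)))
        (Subgroup.subset_closure (by simp))
    rw [ht]
    exact mul_mem h1 h1
  · rintro g (rfl | rfl | rfl)
    · exact cent _ (Or.inr rfl) _ ha
    · exact cent _ (Or.inl rfl) _ hu
    · exact cent _ (Or.inr rfl) _ hb

section Sq

variable {x : MulAut K} {y y' c c1 : I → ℤ} (S : Sq cs h 1 y y' c c1) (hc : c ∈ R) (hc1 : c1 ∈ R)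

include S hc hc1

/-- the transfer along `y` -/
theorem transfer_aux {x' : MulAut K} (h1 : (X y).map x'.toMonoidHom = X y) (h1' : (X (-y)).map x'.toMonoidHom = X (-y))
    {v : K} (hv : v ∈ X y) (hv1 : v ≠ 1) (hxv : x' v = v) (e1 : ∀ w ∈ Z c1, x' w = x w)
    (e : ∀ w ∈ Z c, x' w = x w) (hw : ∃ w ∈ Z c1, w ≠ 1 ∧ x w = w) : ∃ w ∈ Z c, w ≠ 1 ∧ x w = w := by
  obtain ⟨a, ha, b, hb, s, hs, -, es⟩ := MuSq.exists_mu' C.rgd S.root₁ hv hv1
  obtain ⟨hxa, hxb⟩ := fix_mu C.rgd S.root₁ h1 h1' ha hb es hs rfl hxv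
  obtain ⟨w, hw, hw1, hxw⟩ := hw
  set! m := a * v * b with hm; rewrite [← hm] at hs
  have hxm : x' m = m := by rw [hm, map_mul, map_mul, hxa, hxb, hxv]
  have hmem : m * w * m⁻¹ ∈ Z c := by
    have h2 := ClsNorm.conj_Z C hs hc1
    rw [es, S.refl_b] at h2
    rw [← h2]
    exact conj_mem_cj.2 hw
  refine ⟨m * w * m⁻¹, hmem, fun h0 => hw1 (conj_eq_one_iff.1 h0), ?_⟩
  rw [← e _ hmem, map_mul, map_mul, map_inv, hxm, e1 w hw, hxw]

theorem y_c : IsRoot cs h y ∧ y ≠ c ∧ y ≠ -c ∧ form cs h y c ≠ 0 :=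
  ⟨S.root₁, S.ne_x.1, S.ne_x.2, by rw [form_comm]; exact S.x₁_pos.ne'⟩

theorem y_c1 : IsRoot cs h y ∧ y ≠ c1 ∧ y ≠ -c1 ∧ form cs h y c1 ≠ 0 :=
  ⟨S.root₁, S.ne_b.1, S.ne_b.2, by rw [form_comm]; exact S.b₁_neg.ne⟩

theorem y'_c1 : IsRoot cs h y' ∧ y' ≠ c1 ∧ y' ≠ -c1 ∧ form cs h y' c1 ≠ 0 :=
  ⟨S.root₂, S.ne_b₂.1, S.ne_b₂.2, by rw [form_comm]; exact S.b₂_pos.ne'⟩

theorem y'_c : IsRoot cs h y' ∧ y' ≠ c ∧ y' ≠ -c ∧ form cs h y' c ≠ 0 :=
  ⟨S.root₂, S.flip.ne_b₂.1, S.flip.ne_b₂.2, by rw [form_comm]; exact S.x₂_pos.ne'⟩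

theorem transfer (hxx : ∀ g, x (x g) = g) (h1 : (X y).map x.toMonoidHom = X y)
    (h1' : (X (-y)).map x.toMonoidHom = X (-y)) (hw : ∃ w ∈ Z c1, w ≠ 1 ∧ x w = w) :
    ∃ w ∈ Z c, w ≠ 1 ∧ x w = w := by
  obtain ⟨hy, n1, n2, n3⟩ := y_c C S hc hc1
  have hab := comm_of_z C hc hy n1 n2 n3
  obtain ⟨v, hv, hv1, hxv⟩ : ∃ v ∈ X y, v ≠ 1 ∧ (x v = v ∨ x v = v⁻¹) := by
    obtain ⟨v, hv, hv1⟩ : ∃ v ∈ X y, v ≠ 1 := by
      by_contra hcon
      push Not at hcon
      exact StdConn.X_ne_bot C hy ((Subgroup.eq_bot_iff_forall _).2 hcon)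
    have hxv : x v ∈ X y := by rw [← h1]; exact Subgroup.mem_map_of_mem x.toMonoidHom hv
    by_cases h2 : v * x v = 1
    · exact ⟨v, hv, hv1, Or.inr (inv_eq_of_mul_eq_one_right h2).symm⟩
    · exact ⟨v * x v, mul_mem hv hxv, h2, Or.inl (by rw [map_mul, hxx, hab _ hxv _ hv])⟩
  rcases hxv with hxv | hxv
  · exact transfer_aux C S hc hc1 h1 h1' hv hv1 hxv (fun _ _ => rfl) (fun _ _ => rfl) hw
  · have hzz := C.z_sq c hc
    have hzi : (z c)⁻¹ = z c := inv_eq_of_mul_eq_one_right hzz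
    obtain ⟨x', hx'⟩ : ∃ x' : MulAut K, x' = x * MulAut.conj (z c) := ⟨_, rfl⟩
    have ex' : ∀ g, x' g = x (z c * g * z c) := by
      intro g
      rw [hx', MulAut.mul_apply, MulAut.conj_apply, hzi]
    have hnorm : ∀ r, IsRoot cs h r → (X r).map x.toMonoidHom = X r → (X r).map x'.toMonoidHom = X r := by
      intro r hr hxr
      have h2 : cj (z c) (X r) = X r := C.rgd.tor r hr (z c) (C.z_torus c hc)
      have h3 : (X r).map x'.toMonoidHom = (cj (z c) (X r)).map x.toMonoidHom := by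
        rw [hx']
        ext g
        constructor
        · rintro ⟨k, hk, rfl⟩
          exact ⟨z c * k * (z c)⁻¹, conj_mem_cj.2 hk, rfl⟩
        · rintro ⟨k, hk, rfl⟩
          rw [SetLike.mem_coe, mem_cj] at hk
          refine ⟨_, hk, ?_⟩
          change x (z c * ((z c)⁻¹ * k * z c) * (z c)⁻¹) = x k
          congr 1
          group
      rw [h3, h2, hxr]
    refine transfer_aux C S hc hc1 (x := x) (x' := x') (hnorm y hy h1) (hnorm (-y) hy.neg h1') hv hv1 ?_ ?_ ?_ hw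
    · rw [ex', C.z_inv c hc y hy n1 n2 n3 v hv, map_inv, hxv, inv_inv]
    · intro w hw
      have h2 : w * z c = z c * w := ZRel.z_cent_of_orth C hc S.rootb
        (by rw [form_comm]; exact S.xb) (C.le c1 hc1 hw)
      rw [ex', mul_assoc, h2, ← mul_assoc, hzz, one_mul]
    · intro w hw
      rw [ex', C.z_cent c hc w hw, mul_assoc, hzz, mul_one]

/-- not both short root groups are inverted if `Z c1` is inverted -/
theorem not_both_inv (hp : p.Prime) (hodd : p ≠ 2) (i1 : ∀ w ∈ Z c1, x w = w⁻¹) (iy : ∀ w ∈ X y, x w = w⁻¹)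
    (iy' : ∀ w ∈ X y', x w = w⁻¹) (xc : (X c).map x.toMonoidHom = X c) : False := by
  have : Fact p.Prime := ⟨hp⟩
  have hodd' : Odd p := hp.odd_of_ne_two hodd
  obtain ⟨hy, -, -, -⟩ := y_c1 C S hc hc1
  obtain ⟨hy', -, -, -⟩ := y'_c1 C S hc hc1
  obtain ⟨u, hu, hu1⟩ : ∃ v ∈ X y, v ≠ 1 := by
    by_contra hcon
    push Not at hcon
    exact StdConn.X_ne_bot C hy ((Subgroup.eq_bot_iff_forall _).2 hcon)
  obtain ⟨w, hw, hw1⟩ := Z_ne_bot' C hc1
  have hw' := C.le c1 hc1 hw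
  have orth : form cs h c c1 = 0 := S.xb
  have cc1 : ∀ k ∈ X c, ∀ w ∈ Z c1, k * w = w * k := fun k hk w hw => C.cent c1 hc1 c S.root orth.ge k hk w hw
  have cy' : ∀ k ∈ X y', ∀ w ∈ Z c1, k * w = w * k := fun k hk w hw => C.cent c1 hc1 y' hy'
    (by rw [form_comm]; exact S.b₂_pos.le) k hk w hw
  -- `X c` and `X y`, `X y'`
  have noc : ∀ t, ¬ Btwn cs h y c t := by
    rintro t ht
    obtain ⟨htr, m, a, b, hm, ha, hb, e⟩ := ht
    have e1 : c = y + y' := by have := S.add; rwa [one_smul] at this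
    have h2 : Btwn cs h y y' t := ⟨htr, m, a + b, b, hm, by omega, hb, by rw [e, e1]; module⟩
    have h3 := S.btwn h2
    rw [h3] at e
    -- `m c = a y + b c`
    have h4 : (m - b) • c = a • y := by rw [sub_smul, e]; abel
    rw [e1] at h4
    have h5 : (a - (m - b)) • y = (m - b) • y' := by
      rw [sub_smul, ← h4]; module
    obtain ⟨h6, h7⟩ := S.ne_smul h5
    omega
  have noc' : ∀ t, ¬ Btwn cs h y' c t := by
    rintro t ht
    obtain ⟨htr, m, a, b, hm, ha, hb, e⟩ := ht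
    have e1 : c = y + y' := by have := S.add; rwa [one_smul] at this
    have h2 : Btwn cs h y y' t := ⟨htr, m, b, a + b, hm, hb, by omega, by rw [e, e1]; module⟩
    have h3 := S.btwn h2
    rw [h3] at e
    have h4 : (m - b) • c = a • y' := by rw [sub_smul, e]; abel
    rw [e1] at h4
    have h5 : (m - b) • y = (a - (m - b)) • y' := by
      rw [sub_smul a, ← h4]; module
    obtain ⟨h6, h7⟩ := S.ne_smul h5
    omega
  have cyc : ∀ k ∈ X c, ∀ w ∈ X y, w * k = k * w := fun k hk w hw =>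
    MuSq.comm_one C.rgd hy S.root S.ne_x.1 S.ne_x.2 noc hw hk
  have cy'c : ∀ k ∈ X c, ∀ w ∈ X y', w * k = k * w := fun k hk w hw =>
    MuSq.comm_one C.rgd hy' S.root (y'_c C S hc hc1).2.1 (y'_c C S hc hc1).2.2.1 noc' hw hk
  -- `⁅u, w⁆ = v k`
  obtain ⟨v, hv, k, hk, huw⟩ := MuSq.comm_two C.rgd hy S.rootb S.ne_b.1 S.ne_b.2 (fun t ht => S.btwn' ht)
    (fun a ha b hb => cy'c b hb a ha) hu hw'
  -- `v = 1`
  have hv1 : v = 1 := by
    have h1 : x ⁅u, w⁆ = ⁅u⁻¹, w⁻¹⁆ := by rw [map_commutatorElement, iy u hu, i1 w hw]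
    have h2 : ⁅u⁻¹, w⁻¹⁆ = u⁻¹ * w⁻¹ * ⁅u, w⁆ * (w * u) := by
      rw [commutatorElement_def, commutatorElement_def]; group
    have hxk : x k ∈ X c := by rw [← xc]; exact Subgroup.mem_map_of_mem x.toMonoidHom hk
    rw [h2, huw, map_mul, iy' v hv] at h1
    -- `v⁻¹ x(k) = u⁻¹ w⁻¹ v k w u`
    have h3 : u⁻¹ * w⁻¹ * (v * k) * (w * u) = u⁻¹ * v * u * k := by
      calc u⁻¹ * w⁻¹ * (v * k) * (w * u) = u⁻¹ * w⁻¹ * v * (k * w) * u := by group
        _ = u⁻¹ * w⁻¹ * (v * w) * k * u := by rw [cc1 k hk w hw]; group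
        _ = u⁻¹ * w⁻¹ * (w * v) * k * u := by rw [cy' v hv w hw]
        _ = u⁻¹ * v * (k * u) := by group
        _ = u⁻¹ * v * (u * k) := by rw [cyc k hk u hu]
        _ = _ := by group
    rw [h3] at h1
    have h4 : ⁅u⁻¹, v⁆ ∈ X c := MuSq.comm_in C.rgd hy hy' S.ne₁ S.ne₂ (fun t ht => S.btwn ht) (inv_mem hu) hv
    have h5 : u⁻¹ * v * u = ⁅u⁻¹, v⁆ * v := by rw [commutatorElement_def]; group
    rw [h5] at h1
    -- `v * v ∈ X c`
    have h6 : v * v ∈ X c := by
      have h7 : v * v = (⁅u⁻¹, v⁆⁻¹) * x k * k⁻¹ := by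
        have c1' := cy'c (x k) hxk v hv
        have c2' := cy'c k hk v hv
        have c3' := cy'c _ h4 v hv
        have h8 : x k = v * ⁅u⁻¹, v⁆ * v * k := by
          calc x k = v * (v⁻¹ * x k) := by group
            _ = v * ⁅u⁻¹, v⁆ * v * k := by rw [h1]; group
        rw [h8, c3']
        calc v * v = ⁅u⁻¹, v⁆⁻¹ * (⁅u⁻¹, v⁆ * v * v * k) * k⁻¹ := by group
          _ = _ := by group
      rw [h7]
      exact mul_mem (mul_mem (inv_mem h4) hxk) (inv_mem hk)
    have h7 : v * v ∈ X y' ⊓ X c := ⟨mul_mem hv hv, h6⟩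
    rw [X_inf_X C.rgd hy' S.root (y'_c C S hc hc1).2.1, Subgroup.mem_bot] at h7
    exact (pe_of_mem C.rgd hy' hv).eq_one hodd' h7
  -- `μ(w)` maps `u` into `X c X y`
  obtain ⟨a, ha, b, hb, s, hs, es⟩ := mu_Z C hp hodd hc1 hw hw1
  have hc1' : -c1 ∈ R := _root_.Cfsg.Agent.Nodes.Perp.neg_mem C hc1
  have cb : ∀ g ∈ Z (-c1), u * g = g * u := fun g hg => C.cent _ hc1' y hy
    (by rw [form_neg_right, form_comm]; have := S.b₁_neg; omega) u hu g hg
  have ca : ∀ g ∈ Z (-c1), ∀ k ∈ X c, k * g = g * k := fun g hg k hk => C.cent _ hc1' c S.root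
    (by rw [form_neg_right, orth, neg_zero]) k hk g hg
  have hmu : a * w * b * u * (a * w * b)⁻¹ ∈ X y' := by
    have h1 := C.rgd.conj_mem hs hy hu
    rw [es] at h1
    have h2 : y - cpr cs h y c1 • c1 = y' := by
      -- the reflection of `y` in `c1 = y' - y`
      have e1 : c1 = y' - y := by have := S.sub; rwa [one_smul] at this
      have h3 : cpr cs h y c1 = -1 := by
        refine cpr_eq_of_form cs h S.rootb ?_
        rw [e1, form_sub_right, form_sub_left, form_sub_right, form_sub_right, form_comm cs h y' y, S.orth, ← S.len]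
        ring
      rw [h3, e1]; module
    rwa [h2] at h1
  have h1 : a * w * b * u * (a * w * b)⁻¹ = ⁅u, w⁆⁻¹ * u := by
    rw [hv1, one_mul] at huw
    calc a * w * b * u * (a * w * b)⁻¹ = a * w * (b * u) * b⁻¹ * w⁻¹ * a⁻¹ := by group
      _ = a * (w * u * w⁻¹) * a⁻¹ := by rw [← cb b hb]; group
      _ = a * (⁅u, w⁆⁻¹ * u) * a⁻¹ := by rw [commutatorElement_def]; group
      _ = a * k⁻¹ * u * a⁻¹ := by rw [huw]; group
      _ = k⁻¹ * (a * u) * a⁻¹ := by rw [← ca a ha _ (inv_mem hk)]; group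
      _ = k⁻¹ * u := by rw [← cb a ha]; group
      _ = ⁅u, w⁆⁻¹ * u := by rw [huw]
  rw [h1, huw, hv1, one_mul] at hmu
  -- conjugation by `z c1`
  have hzz := C.z_sq c1 hc1
  have hz : ∀ a b : K, z c1 * (a * b) * z c1 = (z c1 * a * z c1) * (z c1 * b * z c1) := by
    intro a b
    calc z c1 * (a * b) * z c1 = z c1 * a * 1 * b * z c1 := by group
      _ = z c1 * a * (z c1 * z c1) * b * z c1 := by rw [hzz]
      _ = _ := by group
  obtain ⟨-, n1, n2, n3⟩ := y_c1 C S hc hc1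
  obtain ⟨-, n1', n2', n3'⟩ := y'_c1 C S hc hc1
  have h2 := C.z_inv c1 hc1 y' hy' n1' n2' n3' _ hmu
  have h3 := C.z_inv c1 hc1 y hy n1 n2 n3 u hu
  have h4 : z c1 * k⁻¹ * z c1 = k⁻¹ := by
    rw [← ZRel.z_cent_of_orth C hc1 S.root orth (inv_mem hk), mul_assoc, hzz, mul_one]
  rw [hz, h3, h4] at h2
  -- `k⁻¹ u⁻¹ = u⁻¹ k`
  have h5 : k⁻¹ * u⁻¹ = u⁻¹ * k⁻¹ := (cyc _ (inv_mem hk) _ (inv_mem hu)).symm
  rw [h5, mul_inv_rev, inv_inv] at h2
  have h6 : k⁻¹ = k := mul_left_cancel h2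
  have hk1 : k = 1 := (pe_of_mem C.rgd S.root hk).eq_one hodd' (by nth_rewrite 1 [← h6]; exact inv_mul_cancel k)
  rw [hk1, inv_one, one_mul] at hmu
  have h7 : u ∈ X y ⊓ X y' := ⟨hu, hmu⟩
  rw [X_inf_X C.rgd hy hy' S.ne₁, Subgroup.mem_bot] at h7
  exact hu1 h7

/-- **The configuration `Sq`, all roots fixed.** -/
theorem sq_cases [Finite K] (hp : p.Prime) (hodd : p ≠ 2) (hxx : ∀ g, x (x g) = g)
    (xy : (X y).map x.toMonoidHom = X y) (xyn : (X (-y)).map x.toMonoidHom = X (-y))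
    (xy' : (X y').map x.toMonoidHom = X y')
    (xc : (X c).map x.toMonoidHom = X c) (xcn : (X (-c)).map x.toMonoidHom = X (-c))
    (xc1 : (X c1).map x.toMonoidHom = X c1) (xc1n : (X (-c1)).map x.toMonoidHom = X (-c1))
    (zc : (Z c).map x.toMonoidHom = Z c) (zc1 : (Z c1).map x.toMonoidHom = Z c1) :
    Obs p x ∨ ((∀ w ∈ Z c, x w = w⁻¹) ∧ (∀ w ∈ Z c1, x w = w⁻¹) ∧
      ∃ v, (v ∈ X y ∨ v ∈ X y') ∧ v ≠ 1 ∧ x v = v) := by
  by_cases P1 : ∃ w ∈ Z c1, w ≠ 1 ∧ x w = w
  · left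
    obtain ⟨w, hw, hw1, hxw⟩ := transfer C S hc hc1 hxx xy xyn P1
    obtain ⟨w', hw', hw1', hxw'⟩ := P1
    exact obs_two_long C hp hodd hc hc1 S.xb xc xcn xc1 xc1n hw hw1 hxw hw' hw1' hxw'
  by_cases P0 : ∃ w ∈ Z c, w ≠ 1 ∧ x w = w
  · exfalso
    exact P1 (transfer C S.flip hc1 hc hxx xyn (by rw [neg_neg]; exact xy) P0)
  right
  have ab : ∀ r ∈ R, ∀ a ∈ Z r, ∀ b ∈ Z r, a * b = b * a := fun r hr a ha b hb =>
    C.cent r hr r (C.root r hr) (form_pos cs h (C.root r hr).ne_zero).le a (C.le r hr ha) b hb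
  have i0 : ∀ w ∈ Z c, x w = w⁻¹ := inv_of_no_fix C.rgd hxx zc (ab c hc) fun u hu hxu => by
    by_contra hu1
    exact P0 ⟨u, hu, hu1, hxu⟩
  have i1 : ∀ w ∈ Z c1, x w = w⁻¹ := inv_of_no_fix C.rgd hxx zc1 (ab c1 hc1) fun u hu hxu => by
    by_contra hu1
    exact P1 ⟨u, hu, hu1, hxu⟩
  refine ⟨i0, i1, ?_⟩
  by_contra hcon
  push Not at hcon
  obtain ⟨hy, n1, n2, n3⟩ := y_c C S hc hc1
  obtain ⟨hy', n1', n2', n3'⟩ := y'_c C S hc hc1
  refine not_both_inv C S hc hc1 hp hodd i1 ?_ ?_ xc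
  · refine inv_of_no_fix C.rgd hxx xy (comm_of_z C hc hy n1 n2 n3) fun u hu hxu => ?_
    by_contra hu1
    exact hcon u (Or.inl hu) hu1 hxu
  · refine inv_of_no_fix C.rgd hxx xy' (comm_of_z C hc hy' n1' n2' n3') fun u hu hxu => ?_
    by_contra hu1
    exact hcon u (Or.inr hu) hu1 hxu

/-- **The configuration `Sq`, all roots fixed, `z c ≠ z c1`.** -/
theorem obs_sq [Finite K] (hp : p.Prime) (hodd : p ≠ 2) (hxx : ∀ g, x (x g) = g)
    (xy : (X y).map x.toMonoidHom = X y) (xyn : (X (-y)).map x.toMonoidHom = X (-y))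
    (xy' : (X y').map x.toMonoidHom = X y') (xyn' : (X (-y')).map x.toMonoidHom = X (-y'))
    (xc : (X c).map x.toMonoidHom = X c) (xcn : (X (-c)).map x.toMonoidHom = X (-c))
    (xc1 : (X c1).map x.toMonoidHom = X c1) (xc1n : (X (-c1)).map x.toMonoidHom = X (-c1))
    (zc : (Z c).map x.toMonoidHom = Z c) (zc1 : (Z c1).map x.toMonoidHom = Z c1) (hz : z c ≠ z c1) : Obs p x := by
  rcases sq_cases C S hc hc1 hp hodd hxx xy xyn xy' xc xcn xc1 xc1n zc zc1 with h1 | ⟨-, -, v, hv, hv1, hxv⟩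
  · exact h1
  have e1 : c = y + y' := by have := S.add; rwa [one_smul] at this
  have e2 : c1 = y' - y := by have := S.sub; rwa [one_smul] at this
  rcases hv with hv | hv
  · obtain ⟨hy, n1, n2, n3⟩ := y_c1 C S hc hc1
    refine obs_short C hc1 hy n1 n2 n3 xy xyn ?_ hv hv1 hxv
    rw [S.refl_b]
    exact hz
  · obtain ⟨hy, n1, n2, n3⟩ := y'_c1 C S hc hc1
    refine obs_short C hc1 hy n1 n2 n3 xy' xyn' ?_ hv hv1 hxv
    -- `c1 - 2 y' = -c`... 
    have h3 : cpr cs h c1 y' = 2 := by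
      refine cpr_eq_of_form cs h S.root₂ ?_
      rw [e2, form_sub_left, S.orth]
      ring
    have h4 : c1 - cpr cs h c1 y' • y' = -c := by
      rw [h3, e1, e2]; module
    rw [h4, C.z_neg c hc]
    exact hz

end Sq

end Cfsg.Agent.H286.SqObs
end

-- part: H286/TypeI
section
/-!
# `Obs` for the groups of type I: classical root groups = the long roots of a diagram `B_n`

`PSp_2n(q)`, `n ≥ 3`, `PSU_n(q)`, `n ≥ 5`.

* `sigma_id` : the diagram `B_n`, `n ≥ 3`, has no automorphism;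
* `map_root` : `x` maps `X b` to `X (w_J b)`;
* `obs_swapZ` : `x` interchanges two orthogonal classical root groups;
* `typeI`, `typeI_two` : the rows.
-/

set_option autoImplicit false
set_option linter.unusedSectionVars false

namespace Cfsg.Agent.H286.TypeI

open CoxeterSystem Cfsg.Agent.ChevalleyStructure.CoxeterGeom Cfsg.Agent.Tits.Roots Cfsg.Agent.Tits.Core
  Cfsg.Agent.Tits.RootComb Cfsg.Agent.Tits.Exchange Cfsg.Agent.Nodes.Comb Cfsg.Agent.Nodes.Reps
  Cfsg.Agent.Nodes.BNOf Cfsg.Agent.Nodes.RGDLib Cfsg.Agent.Nodes.Bruhat Cfsg.Agent.Nodes.StabComb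
  Cfsg.Agent.Nodes.OppDec Cfsg.Agent.Nodes.Coroot Cfsg.Agent.KFacts.RgdSL Cfsg.Agent.UGT.U2.FOne
  Cfsg.Agent.H286.Obs Cfsg.Agent.H286.RootObs Cfsg.Agent.H286.Comb Cfsg.Agent.H286.Chain
  Cfsg.Agent.Nodes.Chart Cfsg.Agent.Nodes.Perp Cfsg.Agent.Nodes.ShortSum Cfsg.Agent.H286.SqObs
open Cfsg.Agent.Nodes
open scoped commutatorElement

section Gen

variable {I W K : Type*} [Fintype I] [DecidableEq I] [Group W] [Fintype W] [Group K] {M : CoxeterMatrix I}
  {cs : CoxeterSystem M W} {A : I → I → ℤ} {h : IsCartan M A} {p : ℕ} {T : Subgroup K} {n : I → K}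
  {X : (I → ℤ) → Subgroup K}

section NX

variable {x : MulAut K} {φ : W ≃* W} {σ : I → I} {J : Set I} (H : NX cs h p T n X x φ σ J)

include H

theorem phi_id (hσ : ∀ i, σ i = i) (w : W) : φ w = w := by
  induction w using cs.simple_induction_left with
  | one => exact map_one φ
  | mul_simple_left w i ih => rw [map_mul, H.φ_simple, hσ, ih]

/-- **`x` maps `X b` to `X (w_J b)`** -/
theorem map_root (hσ : ∀ i, σ i = i) {b : I → ℤ} (hb : IsRoot cs h b) :
    (X b).map x.toMonoidHom = X (rep cs h (wJ cs J) b) := by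
  obtain ⟨w, i, rfl⟩ := hb
  rw [H.xX, phi_id H hσ, hσ, rep_mul_apply]

theorem wJ_fix {b : I → ℤ} (hb : ∀ k ∈ J, pairing A k b = 0) : rep cs h (wJ cs J) b = b := by
  classical
  funext k
  rw [rep_wJ_apply cs h H.Jcomm]
  split_ifs with hk
  · rw [hb k hk, sub_zero]
  · rfl

theorem wJ_one {b : I → ℤ} {j : I} (hj : j ∈ J) (hb : ∀ k ∈ J, k ≠ j → pairing A k b = 0) :
    rep cs h (wJ cs J) b = rep cs h (cs.simple j) b := by
  classical
  funext k
  rw [rep_wJ_apply cs h H.Jcomm]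
  by_cases hkj : k = j
  · subst hkj
    rw [if_pos hj, rep_simple_apply_self]
  · rw [rep_simple_apply cs h j _ k hkj]
    split_ifs with hk
    · rw [hb k hk hkj, sub_zero]
    · rfl

end NX

variable {R : Set (I → ℤ)} {Z : (I → ℤ) → Subgroup K} {z : (I → ℤ) → K} (C : Cls cs h p T n X R Z z)

include C

theorem mem_Z_iff (hZ : ∀ r ∈ R, ∀ v ∈ X r, (∀ u ∈ X r, u * v = v * u) → v ∈ Z r) {r : I → ℤ} (hr : r ∈ R) {v : K} :
    v ∈ Z r ↔ v ∈ X r ∧ ∀ u ∈ X r, u * v = v * u :=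
  ⟨fun hv => ⟨C.le r hr hv, fun u hu => C.cent r hr r (C.root r hr) (form_pos cs h (C.root r hr).ne_zero).le u hu v hv⟩,
    fun hv => hZ r hr v hv.1 hv.2⟩

/-- `x` maps centres to centres -/
theorem map_Z (hZ : ∀ r ∈ R, ∀ v ∈ X r, (∀ u ∈ X r, u * v = v * u) → v ∈ Z r) {x : MulAut K} {r r' : I → ℤ}
    (hr : r ∈ R) (hr' : r' ∈ R) (hx : (X r).map x.toMonoidHom = X r') : (Z r).map x.toMonoidHom = Z r' := by
  ext g
  constructor
  · rintro ⟨v, hv, rfl⟩
    rw [SetLike.mem_coe, mem_Z_iff C hZ hr] at hv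
    rw [mem_Z_iff C hZ hr']
    refine ⟨by rw [← hx]; exact Subgroup.mem_map_of_mem x.toMonoidHom hv.1, fun u hu => ?_⟩
    rw [← hx] at hu
    obtain ⟨u, hu, rfl⟩ := hu
    rw [← map_mul, hv.2 u hu, map_mul]
  · intro hg
    rw [mem_Z_iff C hZ hr'] at hg
    obtain ⟨hg, hg'⟩ := hg
    have hg2 := hg
    rw [← hx] at hg2
    obtain ⟨v, hv, rfl⟩ := hg2
    refine ⟨v, ?_, rfl⟩
    rw [SetLike.mem_coe, mem_Z_iff C hZ hr]
    refine ⟨hv, fun u hu => ?_⟩
    have h1 := hg' (x u) (by rw [← hx]; exact Subgroup.mem_map_of_mem x.toMonoidHom hu)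
    apply x.injective
    rw [map_mul, map_mul]
    exact h1

/-- an element separating two orthogonal classical roots -/
def Sep (Z : (I → ℤ) → Subgroup K) (z : (I → ℤ) → K) (r s : I → ℤ) : Prop :=
  ∃ v : K, (∀ k ∈ KK Z s, v * k = k * v) ∧ z r * v ≠ v * z r

theorem z_ne_of_sep {r s : I → ℤ} (hs : s ∈ R) (hS : Sep Z z r s) : z r ≠ z s := by
  obtain ⟨v, h1, h2⟩ := hS
  intro e
  apply h2
  rw [e]
  exact (h1 _ (C.z_mem s hs)).symm

theorem sep_of_root (hp : p.Prime) (hodd : p ≠ 2) {r s y : I → ℤ} (hr : r ∈ R) (hs : s ∈ R) (hy : IsRoot cs h y)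
    (h0 : form cs h y s = 0) (h1 : form cs h y r ≠ 0) (n1 : y ≠ r) (n2 : y ≠ -r) : Sep Z z r s := by
  obtain ⟨v, hv, hv1⟩ : ∃ v ∈ X y, v ≠ 1 := by
    by_contra hcon
    push Not at hcon
    exact StdConn.X_ne_bot C hy ((Subgroup.eq_bot_iff_forall _).2 hcon)
  refine ⟨v, fun k hk => X_cm_KK C hs hy h0 v hv k hk, fun e => hv1 ?_⟩
  have h2 := C.z_inv r hr y hy n1 n2 h1 v hv
  rw [e, mul_assoc, C.z_sq r hr, mul_one] at h2
  exact ZRel.eq_one_of_inv C hp hodd hy hv h2

theorem sep_of_self (hp : p.Prime) (hodd : p ≠ 2) {r s : I → ℤ} (hr : r ∈ R) (hs : s ∈ R)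
    (h0 : form cs h r s = 0) {v : K} (hv : v ∈ X r) (hv1 : v ∉ Z r) : Sep Z z r s := by
  refine ⟨v, fun k hk => X_cm_KK C hs (C.root r hr) h0 v hv k hk, fun e => hv1 ?_⟩
  refine mem_Z_of_comm C hp hodd hr hv ?_
  rw [e, mul_assoc, C.z_sq r hr, mul_one]

/-- **`x` interchanges two orthogonal classical root groups.** -/
theorem obs_swapZ [Finite K] {x : MulAut K} (hxx : ∀ g, x (x g) = g) (hp : p.Prime) {c c' : I → ℤ} (hc : c ∈ R)
    (hc' : c' ∈ R) (h0 : form cs h c c' = 0) (e1 : (Z c).map x.toMonoidHom = Z c')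
    (e2 : (Z (-c)).map x.toMonoidHom = Z (-c')) (hS : Sep Z z c c') : Obs p x := by
  have : Fact p.Prime := ⟨hp⟩
  obtain ⟨v, hv, hv'⟩ := hS
  have hmem : ∀ s, s ∈ Z c ∨ s ∈ Z (-c) → x s ∈ KK Z c' := by
    rintro s (hs | hs)
    · have : x s ∈ Z c' := by rw [← e1]; exact Subgroup.mem_map_of_mem x.toMonoidHom hs
      exact (le_sup_left : Z c' ≤ KK Z c') this
    · have : x s ∈ Z (-c') := by rw [← e2]; exact Subgroup.mem_map_of_mem x.toMonoidHom hs
      exact (le_sup_right : Z (-c') ≤ KK Z c') this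
  have hcl : ∀ g ∈ KK Z c, x g ∈ KK Z c' := by
    intro g hg
    have h1 : (KK Z c).map x.toMonoidHom ≤ KK Z c' := by
      unfold KK
      rw [Subgroup.map_sup, e1, e2]
    exact h1 (Subgroup.mem_map_of_mem x.toMonoidHom hg)
  have hclo : KK Z c = Subgroup.closure {g | g ∈ Z c ∨ g ∈ Z (-c)} := by
    apply le_antisymm
    · exact sup_le (fun g hg => Subgroup.subset_closure (Or.inl hg)) (fun g hg => Subgroup.subset_closure (Or.inr hg))
    · rw [Subgroup.closure_le]
      rintro g (hg | hg)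
      · exact (le_sup_left : Z c ≤ KK Z c) hg
      · exact (le_sup_right : Z (-c) ≤ KK Z c) hg
  have hcm : ∀ s, s ∈ Z c ∨ s ∈ Z (-c) → ∀ k ∈ KK Z c', Commute s k := by
    rintro s (hs | hs) k hk
    · exact X_cm_KK C hc' (C.root c hc) h0 s (C.le c hc hs) k hk
    · exact X_cm_KK C hc' (C.root c hc).neg (by rw [form_neg_left, h0, neg_zero]) s (C.le _ (_root_.Cfsg.Agent.Nodes.Perp.neg_mem C hc) hs) k hk
  have hzz := C.z_sq c hc
  have hzx : x (z c) ∈ KK Z c' := hcl _ (C.z_mem c hc)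
  have hzc : Commute (z c) (x (z c)) := by
    have h1 : z c ∈ Subgroup.closure {g | g ∈ Z c ∨ g ∈ Z (-c)} := by rw [← hclo]; exact C.z_mem c hc
    exact commute_closure (S := {g | g ∈ Z c ∨ g ∈ Z (-c)}) (T := {x (z c)})
      (fun s hs t ht => by rw [Set.mem_singleton_iff.1 ht]; exact hcm s hs _ hzx) h1
      (Subgroup.subset_closure (Set.mem_singleton _))
  refine obs_swap hxx (S := {g | g ∈ Z c ∨ g ∈ Z (-c)}) ?_ ?_ (z := z c) ?_ ?_ ?_
  · rintro s (hs | hs)
    · exact pe_of_mem C.rgd (C.root c hc) (C.le c hc hs)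
    · exact pe_of_mem C.rgd (C.root c hc).neg (C.le _ (_root_.Cfsg.Agent.Nodes.Perp.neg_mem C hc) hs)
  · intro s hs s' hs'
    exact hcm s hs _ (hmem s' hs')
  · rw [← hclo]; exact C.z_mem c hc
  · rintro s (hs | hs)
    · exact (C.z_cent c hc s hs).symm
    · have := C.z_cent _ (_root_.Cfsg.Agent.Nodes.Perp.neg_mem C hc) s hs
      rw [C.z_neg c hc] at this
      exact this.symm
  · have h1 : orderOf (z c * x (z c)) = 2 := by
      refine orderOf_eq_prime ?_ ?_
      · rw [pow_two]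
        calc z c * x (z c) * (z c * x (z c)) = z c * (x (z c) * z c) * x (z c) := by group
          _ = z c * (z c * x (z c)) * x (z c) := by rw [hzc.eq]
          _ = (z c * z c) * (x (z c) * x (z c)) := by group
          _ = 1 := by rw [← map_mul, hzz, map_one, mul_one]
      · intro h1
        apply hv'
        have h2 : x (z c) = z c := by
          have := eq_inv_of_mul_eq_one_right h1
          rw [this]
          exact inv_eq_of_mul_eq_one_right hzz
        rw [h2] at hzx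
        exact (hv _ hzx).symm
    rw [h1]; exact even_two

end Gen

section B

open Cfsg.Agent.Nodes.TypeC Cfsg.Agent.Nodes.TypeCForm Cfsg.Agent.Nodes.KindBC Cfsg.Agent.Nodes.ClsWitt

variable {n : ℕ} {W K : Type*} [Group W] [Fintype W] [Group K] {cs : CoxeterSystem (CoxeterMatrix.B n) W} {p : ℕ}
  {T : Subgroup K} {nn : Fin n → K} {X : (Fin n → ℤ) → Subgroup K}

theorem MB (i j : Fin n) : CoxeterMatrix.B n i j = if i = j then 1 else if (i : ℕ) = n - 1 ∧ (j : ℕ) = n - 2 ∨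
    (j : ℕ) = n - 1 ∧ (i : ℕ) = n - 2 then 4 else (if (j : ℕ) + 1 = i ∨ (i : ℕ) + 1 = j then 3 else 2) := rfl

theorem MB_four {i j : Fin n} (hn : 2 ≤ n) : CoxeterMatrix.B n i j = 4 ↔
    ((i : ℕ) = n - 1 ∧ (j : ℕ) = n - 2 ∨ (j : ℕ) = n - 1 ∧ (i : ℕ) = n - 2) := by
  rw [MB]
  by_cases hij : i = j
  · rw [if_pos hij, hij]
    constructor
    · intro h0; omega
    · intro h0; omega
  · rw [if_neg hij]
    split_ifs with h1 h2
    · exact ⟨fun _ => h1, fun _ => rfl⟩
    · exact ⟨fun h0 => absurd h0 (by norm_num), fun h0 => absurd h0 h1⟩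
    · exact ⟨fun h0 => absurd h0 (by norm_num), fun h0 => absurd h0 h1⟩

theorem MB_three {i j : Fin n} : CoxeterMatrix.B n i j = 3 ↔
    (¬ ((i : ℕ) = n - 1 ∧ (j : ℕ) = n - 2 ∨ (j : ℕ) = n - 1 ∧ (i : ℕ) = n - 2) ∧
      ((j : ℕ) + 1 = i ∨ (i : ℕ) + 1 = j)) := by
  rw [MB]
  by_cases hij : i = j
  · rw [if_pos hij, hij]
    constructor
    · intro h0; omega
    · intro h0; omega
  · rw [if_neg hij]
    split_ifs with h1 h2
    · exact ⟨fun h0 => absurd h0 (by norm_num), fun h0 => absurd h1 h0.1⟩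
    · exact ⟨fun _ => ⟨h1, h2⟩, fun _ => rfl⟩
    · exact ⟨fun h0 => absurd h0 (by norm_num), fun h0 => absurd h0.2 h2⟩

/-- **The diagram `B_n`, `n ≥ 3`, has no automorphism.** -/
theorem sigma_id (hn : 3 ≤ n) {σ : Fin n → Fin n} (hinj : Function.Injective σ)
    (hM : ∀ i j, CoxeterMatrix.B n (σ i) (σ j) = CoxeterMatrix.B n i j) : ∀ i, σ i = i := by
  obtain ⟨l, hl⟩ : ∃ l : Fin n, (l : ℕ) = n - 1 := ⟨⟨n - 1, by omega⟩, rfl⟩
  obtain ⟨l', hl'⟩ : ∃ l : Fin n, (l : ℕ) = n - 2 := ⟨⟨n - 2, by omega⟩, rfl⟩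
  obtain ⟨l'', hl''⟩ : ∃ l : Fin n, (l : ℕ) = n - 3 := ⟨⟨n - 3, by omega⟩, rfl⟩
  have h1 : (σ l : ℕ) = n - 1 ∧ (σ l' : ℕ) = n - 2 ∨ (σ l' : ℕ) = n - 1 ∧ (σ l : ℕ) = n - 2 := by
    rw [← MB_four (by omega), hM, MB_four (by omega)]
    exact Or.inl ⟨hl, hl'⟩
  have h2 : (σ l : ℕ) = n - 1 ∧ (σ l' : ℕ) = n - 2 := by
    rcases h1 with h1 | ⟨h1, h2⟩
    · exact h1
    · exfalso
      have e : CoxeterMatrix.B n (σ l') (σ l'') = 3 := by
        rw [hM, MB_three]
        (clear * - hn hl' hl''; omega)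
      rw [MB_three] at e
      have := (σ l'').2
      have h3 : (σ l'' : ℕ) ≠ σ l := fun e => by
        have := hinj (Fin.ext e)
        rw [this] at hl''
        omega
      (clear * - h1 e; (solve | lia | omega))
  have key : ∀ d : ℕ, ∀ i : Fin n, (i : ℕ) + d + 1 = n → σ i = i := by
    intro d
    induction d using Nat.strong_induction_on with
    | _ d ih =>
      intro i hi
      rcases d with _ | _ | d
      · have : i = l := Fin.ext (by omega)
        rw [this]; exact Fin.ext (by omega)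
      · have : i = l' := Fin.ext (by omega)
        rw [this]; exact Fin.ext (by omega)
      · obtain ⟨j, hj⟩ : ∃ j : Fin n, (j : ℕ) = i + 1 := ⟨⟨i + 1, by omega⟩, rfl⟩
        obtain ⟨k, hk⟩ : ∃ k : Fin n, (k : ℕ) = i + 2 := ⟨⟨i + 2, by omega⟩, rfl⟩
        have e1 := ih (d + 1) (by omega) j (by omega)
        have e2 := ih d (by omega) k (by omega)
        have e : CoxeterMatrix.B n (σ j) (σ i) = 3 := by
          rw [hM, MB_three]
          (clear * - h2 hj hk; omega)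
        rw [MB_three, e1] at e
        have hki : σ i ≠ k := by
          intro e3
          rw [← e2] at e3
          have := hinj e3
          rw [← this] at hk
          omega
        have hki' : (σ i : ℕ) ≠ k := fun e => hki (Fin.ext e)
        have := (σ i).2
        apply Fin.ext
        (clear * - hj hk e hki'; omega)
  intro i
  exact key (n - i - 1) i (by omega)

variable {x : MulAut K} {φ : W ≃* W} {σ : Fin n → Fin n} {J : Set (Fin n)}

section NX

variable (H : NX cs (isCartan n) p T nn X x φ σ J)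

include H

theorem sigma_id_nx (hn : 3 ≤ n) : ∀ i, σ i = i := sigma_id hn (sigma_inj H) (sigma_M H)

/-- `w_J` on a root which involves no node of `J` -/
theorem wJ_rt_fix {a b : Fin n × Bool} (h1 : ∀ k ∈ J, Cf k (wt a + wt b) = 0) :
    rep cs (isCartan n) (wJ cs J) (_root_.Cfsg.Agent.Nodes.KindBC.rt a b) = _root_.Cfsg.Agent.Nodes.KindBC.rt a b :=
  wJ_fix H fun k hk => by rw [← Cf_ee, ee_rt, h1 k hk]

theorem wJ_rt_one {a b : Fin n × Bool} {j : Fin n} (hj : j ∈ J) (h1 : ∀ k ∈ J, k ≠ j → Cf k (wt a + wt b) = 0) :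
    rep cs (isCartan n) (wJ cs J) (_root_.Cfsg.Agent.Nodes.KindBC.rt a b) = _root_.Cfsg.Agent.Nodes.KindBC.rt (sg j a) (sg j b) := by
  rw [wJ_one H hj fun k hk hkj => by rw [← Cf_ee, ee_rt, h1 k hk hkj], rep_simple]
  exact eq_rt (ee_refl_of (ee_rt a b))

/-- nodes of `J` are not adjacent -/
theorem J_sep {i j : Fin n} (hi : i ∈ J) (hij : (i : ℕ) + 1 = j) : j ∉ J := by
  have hne : i ≠ j := fun e => by rw [e] at hij; omega
  refine not_both H hne ?_ hi
  rw [A_apply, if_neg hne, if_pos hij]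
  split_ifs <;> norm_num

end NX

variable {Z : (Fin n → ℤ) → Subgroup K} {z : (Fin n → ℤ) → K} (C : Cls cs (isCartan n) p T nn X (LR n) Z z)

theorem rt_LR (a : Fin n × Bool) : _root_.Cfsg.Agent.Nodes.KindBC.rt a a ∈ LR n := ⟨a, ee_rt a a⟩

theorem orth_long {a b : Fin n × Bool} (hab : a.1 ≠ b.1) : form cs (isCartan n) (_root_.Cfsg.Agent.Nodes.KindBC.rt a a) (_root_.Cfsg.Agent.Nodes.KindBC.rt b b) = 0 := by
  rw [form_eq_zero_iff cs (_root_.Cfsg.Agent.Nodes.KindBC.isRoot_rt cs (Or.inr rfl)), ee_rt, ee_rt, ip_add_wt, Pi.add_apply, wt_apply,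
    if_neg hab.symm]
  ring

theorem sq_rt {a b : Fin n × Bool} (hab : a.1 ≠ b.1) :
    Sq cs (isCartan n) 1 (_root_.Cfsg.Agent.Nodes.KindBC.rt a (ng b)) (_root_.Cfsg.Agent.Nodes.KindBC.rt a b) (_root_.Cfsg.Agent.Nodes.KindBC.rt a a) (_root_.Cfsg.Agent.Nodes.KindBC.rt b b) := by
  have hab' : a.1 ≠ (ng b).1 := hab
  have e1 : _root_.Cfsg.Agent.Nodes.KindBC.rt a b = _root_.Cfsg.Agent.Nodes.KindBC.rt a (ng b) + _root_.Cfsg.Agent.Nodes.KindBC.rt b b := by
    apply ee_injective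
    rw [ee_add, ee_rt, ee_rt, ee_rt, wt_ng]; abel
  have hbb : IsRoot cs (isCartan n) (_root_.Cfsg.Agent.Nodes.KindBC.rt b b) := _root_.Cfsg.Agent.Nodes.KindBC.isRoot_rt cs (Or.inr rfl)
  have h1 : cpr cs (isCartan n) (_root_.Cfsg.Agent.Nodes.KindBC.rt a (ng b)) (_root_.Cfsg.Agent.Nodes.KindBC.rt b b) = -1 := by
    rw [cpr_rt_self, ee_rt, Pi.add_apply, wt_apply, if_neg hab.symm, wt_ng, Pi.neg_apply, wt_apply, if_pos rfl]
    have := sn_mul_self b
    unfold sn at this ⊢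
    linarith
  have h2 := two_form_cpr cs (isCartan n) (_root_.Cfsg.Agent.Nodes.KindBC.rt a (ng b)) hbb
  refine ⟨one_pos, _root_.Cfsg.Agent.Nodes.KindBC.isRoot_rt cs (Or.inl hab'), _root_.Cfsg.Agent.Nodes.KindBC.isRoot_rt cs (Or.inl hab), _root_.Cfsg.Agent.Nodes.KindBC.isRoot_rt cs (Or.inr rfl), hbb, ?_, ?_, ?_, ?_⟩
  · rw [form_eq_zero_iff cs (_root_.Cfsg.Agent.Nodes.KindBC.isRoot_rt cs (Or.inl hab)), ee_rt, ee_rt, ip_add_wt, Pi.add_apply, Pi.add_apply,
      wt_ng, Pi.neg_apply, Pi.neg_apply, wt_apply, wt_apply, wt_apply, wt_apply, if_pos rfl, if_pos rfl, if_neg hab,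
      if_neg hab.symm]
    have ha := sn_mul_self a
    have hb := sn_mul_self b
    unfold sn at ha hb ⊢
    linarith
  · rw [e1, form_add_left, form_add_right, form_add_right, form_comm cs _ (_root_.Cfsg.Agent.Nodes.KindBC.rt b b) (_root_.Cfsg.Agent.Nodes.KindBC.rt a (ng b))]
    rw [h1] at h2
    linarith
  · apply ee_injective
    rw [one_smul, ee_add, ee_rt, ee_rt, ee_rt, wt_ng]; abel
  · apply ee_injective
    rw [one_smul, sub_eq_add_neg, ee_add, ee_neg, ee_rt, ee_rt, ee_rt, wt_ng]; abel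

include C in
theorem sep_rt (hp : p.Prime) (hodd : p ≠ 2) (hn : 3 ≤ n) {a b : Fin n × Bool} (hab : a.1 ≠ b.1) :
    Sep Z z (_root_.Cfsg.Agent.Nodes.KindBC.rt a a) (_root_.Cfsg.Agent.Nodes.KindBC.rt b b) := by
  obtain ⟨k, hka, hkb⟩ : ∃ k : Fin n, k ≠ a.1 ∧ k ≠ b.1 := by
    by_contra hcon
    push Not at hcon
    have h1 : (Finset.univ : Finset (Fin n)) ⊆ {a.1, b.1} := fun k _ => by
      rw [Finset.mem_insert, Finset.mem_singleton]
      by_cases hk : k = a.1
      · exact Or.inl hk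
      · exact Or.inr (hcon k hk)
    have h2 := Finset.card_le_card h1
    rw [Finset.card_univ, Fintype.card_fin] at h2
    have h3 := (Finset.card_le_two : ({a.1, b.1} : Finset (Fin n)).card ≤ 2)
    omega
  have hk : (a : Fin n × Bool).1 ≠ ((k, true) : Fin n × Bool).1 := hka.symm
  refine sep_of_root C hp hodd (rt_LR a) (rt_LR b) (y := _root_.Cfsg.Agent.Nodes.KindBC.rt a (k, true)) (_root_.Cfsg.Agent.Nodes.KindBC.isRoot_rt cs (Or.inl hk)) ?_ ?_ ?_ ?_
  · rw [form_eq_zero_iff cs (_root_.Cfsg.Agent.Nodes.KindBC.isRoot_rt cs (Or.inr rfl)), ee_rt, ee_rt, ip_add_wt, Pi.add_apply, wt_apply, wt_apply,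
      if_neg hab.symm, if_neg (show b.1 ≠ k from hkb.symm)]
    ring
  · rw [Ne, form_eq_zero_iff cs (_root_.Cfsg.Agent.Nodes.KindBC.isRoot_rt cs (Or.inr rfl)), ee_rt, ee_rt, ip_add_wt, Pi.add_apply, wt_apply,
      wt_apply, if_pos rfl, if_neg hk]
    unfold sn
    cases a.2 <;> simp
  · intro e
    have h1 := congrArg (fun x => ee x k) e
    simp only [ee_rt, Pi.add_apply, wt_apply] at h1
    rw [if_neg hka] at h1
    simp at h1
  · intro e
    have h1 := congrArg (fun x => ee x k) e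
    simp only [ee_neg, ee_rt, Pi.add_apply, Pi.neg_apply, wt_apply] at h1
    rw [if_neg hka] at h1
    simp at h1

section Rows

variable (H : NX cs (isCartan n) p T nn X x φ σ J)
  (hZ : ∀ r ∈ LR n, ∀ v ∈ X r, (∀ u ∈ X r, u * v = v * u) → v ∈ Z r)

include C H hZ

/-- a node of `J` with a simple bond -/
theorem obs_node [Finite K] (hp : p.Prime) (hσ : ∀ i, σ i = i) {j : Fin n} (hj : j ∈ J) (hj1 : (j : ℕ) + 1 < n)
    (hS : Sep Z z (_root_.Cfsg.Agent.Nodes.KindBC.rt (j, true) (j, true)) (_root_.Cfsg.Agent.Nodes.KindBC.rt (⟨j + 1, hj1⟩, true) (⟨j + 1, hj1⟩, true))) : Obs p x := by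
  have hC : ∀ s : Bool, ∀ k ∈ J, k ≠ j → Cf k (wt (j, s) + wt (j, s)) = 0 := by
    intro s k hk hkj
    have h1 : (k : ℕ) + 1 ≠ j := fun e => J_sep H hk e hj
    have h2 : (k : ℕ) ≠ j := fun e => hkj (Fin.ext e)
    unfold Cf
    split_ifs with h3
    · rw [Pi.add_apply, Pi.add_apply, wt_apply, wt_apply, if_neg hkj, if_neg]
      · ring
      · intro e; exact h1 (congrArg Fin.val e)
    · rw [Pi.add_apply, wt_apply, if_neg hkj]; ring
  have key : ∀ s : Bool, (X (_root_.Cfsg.Agent.Nodes.KindBC.rt (j, s) (j, s))).map x.toMonoidHom =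
      X (_root_.Cfsg.Agent.Nodes.KindBC.rt (⟨j + 1, hj1⟩, s) (⟨j + 1, hj1⟩, s)) := by
    intro s
    rw [map_root H hσ (_root_.Cfsg.Agent.Nodes.KindBC.isRoot_rt cs (Or.inr rfl)), wJ_rt_one H hj (hC s), sg_up hj1]
  have hneg : ∀ k : Fin n, -_root_.Cfsg.Agent.Nodes.KindBC.rt (k, true) (k, true) = _root_.Cfsg.Agent.Nodes.KindBC.rt (k, false) (k, false) := fun k => by
    rw [← rt_ng]; rfl
  refine obs_swapZ C H.xx hp (rt_LR _) (rt_LR _) (orth_long ?_) (map_Z C hZ (rt_LR _) (rt_LR _) (key true)) ?_ hS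
  · intro e
    have := congrArg Fin.val e
    simp only at this
    omega
  · rw [hneg, hneg]
    exact map_Z C hZ (rt_LR _) (rt_LR _) (key false)

/-- two fixed indices -/
theorem obs_fixed [Finite K] (hp : p.Prime) (hodd : p ≠ 2) (hσ : ∀ i, σ i = i) {i0 i1 : Fin n} (h01 : i0 ≠ i1)
    (h0 : ∀ k ∈ J, ∀ s, Cf k (wt (i0, s)) = 0) (h1 : ∀ k ∈ J, ∀ s, Cf k (wt (i1, s)) = 0)
    (hz : z (_root_.Cfsg.Agent.Nodes.KindBC.rt (i0, true) (i0, true)) ≠ z (_root_.Cfsg.Agent.Nodes.KindBC.rt (i1, true) (i1, true))) : Obs p x := by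
  have hP : ∀ a : Fin n × Bool, (a.1 = i0 ∨ a.1 = i1) → ∀ k ∈ J, Cf k (wt a) = 0 := by
    rintro ⟨a, s⟩ ha k hk
    simp only at ha
    rcases ha with rfl | rfl
    · exact h0 k hk s
    · exact h1 k hk s
  have fix : ∀ a b : Fin n × Bool, (a.1 = i0 ∨ a.1 = i1) → (b.1 = i0 ∨ b.1 = i1) → Ok a b →
      (X (_root_.Cfsg.Agent.Nodes.KindBC.rt a b)).map x.toMonoidHom = X (_root_.Cfsg.Agent.Nodes.KindBC.rt a b) := by
    intro a b ha hb hab
    rw [map_root H hσ (_root_.Cfsg.Agent.Nodes.KindBC.isRoot_rt cs hab), wJ_rt_fix H fun k hk => by rw [Cf_add, hP a ha k hk, hP b hb k hk, add_zero]]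
  obtain ⟨a, ha⟩ : ∃ a : Fin n × Bool, a = (i0, true) := ⟨_, rfl⟩
  obtain ⟨b, hb⟩ : ∃ b : Fin n × Bool, b = (i1, true) := ⟨_, rfl⟩
  rw [← ha, ← hb] at hz
  have a0 : a.1 = i0 := by rw [ha]
  have b0 : b.1 = i1 := by rw [hb]
  have hab : a.1 ≠ b.1 := by rw [a0, b0]; exact h01
  have na : (ng a).1 = i0 := a0
  have nb : (ng b).1 = i1 := b0
  refine obs_sq C (sq_rt hab) (rt_LR a) (rt_LR b) hp hodd H.xx ?_ ?_ ?_ ?_ ?_ ?_ ?_ ?_ ?_ ?_ hz
  · exact fix _ _ (Or.inl a0) (Or.inr nb) (Or.inl hab)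
  · rw [← rt_ng]; exact fix _ _ (Or.inl na) (Or.inr (by rw [ng_fst]; exact nb)) (Or.inl hab)
  · exact fix _ _ (Or.inl a0) (Or.inr b0) (Or.inl hab)
  · rw [← rt_ng]; exact fix _ _ (Or.inl na) (Or.inr nb) (Or.inl hab)
  · exact fix _ _ (Or.inl a0) (Or.inl a0) (Or.inr rfl)
  · rw [← rt_ng]; exact fix _ _ (Or.inl na) (Or.inl na) (Or.inr rfl)
  · exact fix _ _ (Or.inr b0) (Or.inr b0) (Or.inr rfl)
  · rw [← rt_ng]; exact fix _ _ (Or.inr nb) (Or.inr nb) (Or.inr rfl)
  · exact map_Z C hZ (rt_LR _) (rt_LR _) (fix _ _ (Or.inl a0) (Or.inl a0) (Or.inr rfl))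
  · exact map_Z C hZ (rt_LR _) (rt_LR _) (fix _ _ (Or.inr b0) (Or.inr b0) (Or.inr rfl))

/-- **Type I, rank at least three.** -/
theorem typeI [Finite K] (hp : p.Prime) (hodd : p ≠ 2) (hn : 3 ≤ n) : Obs p x := by
  have hσ := sigma_id_nx H hn
  by_cases h1 : ∃ j ∈ J, (j : ℕ) + 1 < n
  · obtain ⟨j, hj, hj1⟩ := h1
    refine obs_node C H hZ hp hσ hj hj1 (sep_rt C hp hodd hn ?_)
    intro e
    have := congrArg Fin.val e
    simp only at this
    omega
  · push Not at h1
    obtain ⟨i0, hi0⟩ : ∃ i : Fin n, (i : ℕ) = 0 := ⟨⟨0, by omega⟩, rfl⟩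
    obtain ⟨i1, hi1⟩ : ∃ i : Fin n, (i : ℕ) = 1 := ⟨⟨1, by omega⟩, rfl⟩
    have hne : i0 ≠ i1 := fun e => by rw [e] at hi0; omega
    refine obs_fixed C H hZ hp hodd hσ hne ?_ ?_ (z_ne_of_sep C (rt_LR _) (sep_rt C hp hodd hn hne))
    · intro k hk s
      have := h1 k hk
      unfold Cf
      rw [dif_neg (by omega), wt_apply, if_neg]
      intro e
      rw [e] at this
      simp only at this
      omega
    · intro k hk s
      have := h1 k hk
      unfold Cf
      rw [dif_neg (by omega), wt_apply, if_neg]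
      intro e
      rw [e] at this
      simp only at this
      omega

end Rows

end B

section Two

open Cfsg.Agent.Nodes.TypeC Cfsg.Agent.Nodes.TypeCForm Cfsg.Agent.Nodes.KindBC Cfsg.Agent.Nodes.ClsWitt

variable {W K : Type*} [Group W] [Fintype W] [Group K] {cs : CoxeterSystem (CoxeterMatrix.B 2) W} {p : ℕ}
  {T : Subgroup K} {nn : Fin 2 → K} {X : (Fin 2 → ℤ) → Subgroup K} {Z : (Fin 2 → ℤ) → Subgroup K}
  {z : (Fin 2 → ℤ) → K} (C : Cls cs (isCartan 2) p T nn X (LR 2) Z z) {x : MulAut K} {φ : W ≃* W}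
  {σ : Fin 2 → Fin 2} {J : Set (Fin 2)} (H : NX cs (isCartan 2) p T nn X x φ σ J)
  (hZ : ∀ r ∈ LR 2, ∀ v ∈ X r, (∀ u ∈ X r, u * v = v * u) → v ∈ Z r)

include C H hZ

theorem sigma_id_two (hnc : ∀ r ∈ LR 2, ∃ v ∈ X r, v ∉ Z r) : ∀ i, σ i = i := by
  by_contra hcon
  push Not at hcon
  have h0 : σ 0 = 1 := by
    obtain ⟨i, hi⟩ := hcon
    fin_cases i
    · have : σ 0 ≠ 0 := hi
      omega
    · have h1 : σ 1 ≠ 1 := hi
      have h2 : σ 1 = 0 := by omega
      rw [← h2, H.σσ]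
  have hx := map_sr H 0
  rw [h0] at hx
  have e1 : (sr 1 : Fin 2 → ℤ) = KindBC.rt ((1 : Fin 2), true) (1, true) := by
    rw [sr_eq_rt]; rfl
  have e0 : (sr 0 : Fin 2 → ℤ) = KindBC.rt ((0 : Fin 2), true) (1, false) := by
    rw [sr_eq_rt]; rfl
  have hr : rep cs (isCartan 2) (wJ cs J) (sr 1) ∈ LR 2 := C.act _ (by rw [e1]; exact rt_LR _) _
  obtain ⟨v, hv, hv'⟩ := hnc _ hr
  apply hv'
  have hab : ∀ a ∈ X (sr 0), ∀ b ∈ X (sr 0), a * b = b * a := by
    have hne : (((0 : Fin 2), true) : Fin 2 × Bool).1 ≠ (((1 : Fin 2), false) : Fin 2 × Bool).1 := by decide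
    refine comm_of_z C (rt_LR (1, true)) (isRoot_sr cs _ 0) ?_ ?_ ?_
    · rw [e0]
      intro e
      have h1 := congrArg (fun x => ee x 0) e
      simp only [ee_rt, Pi.add_apply, wt_apply] at h1
      simp at h1
    · rw [e0]
      intro e
      have h1 := congrArg (fun x => ee x 0) e
      simp only [ee_neg, ee_rt, Pi.add_apply, Pi.neg_apply, wt_apply] at h1
      simp at h1
    · rw [e0, Ne, form_eq_zero_iff cs (_root_.Cfsg.Agent.Nodes.KindBC.isRoot_rt cs (Or.inr rfl)), ee_rt, ee_rt, ip_add_wt, Pi.add_apply, wt_apply,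
        wt_apply]
      simp [sn]
  refine hZ _ hr v hv fun u hu => ?_
  rw [← hx] at hu hv
  obtain ⟨u, hu, rfl⟩ := hu
  obtain ⟨v, hv, rfl⟩ := hv
  have h1 := hab u hu v hv
  change x u * x v = x v * x u
  rw [← map_mul, h1, map_mul]

/-- **Type I, rank two, non-abelian long root groups.** -/
theorem typeI_two [Finite K] (hp : p.Prime) (hodd : p ≠ 2) (hnc : ∀ r ∈ LR 2, ∃ v ∈ X r, v ∉ Z r) (hJ : 1 ∉ J) :
    Obs p x := by
  have hσ := sigma_id_two C H hZ hnc
  have hsep : ∀ a b : Fin 2 × Bool, a.1 ≠ b.1 → Sep Z z (_root_.Cfsg.Agent.Nodes.KindBC.rt a a) (_root_.Cfsg.Agent.Nodes.KindBC.rt b b) := by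
    intro a b hab
    obtain ⟨v, hv, hv'⟩ := hnc _ (rt_LR a)
    exact sep_of_self C hp hodd (rt_LR a) (rt_LR b) (orth_long hab) hv hv'
  by_cases h0 : (0 : Fin 2) ∈ J
  · exact obs_node C H hZ hp hσ h0 (by norm_num) (hsep _ _ (by decide))
  · have hJ' : ∀ k ∈ J, False := by
      intro k hk
      fin_cases k
      · exact h0 hk
      · exact hJ hk
    exact obs_fixed C H hZ hp hodd hσ (i0 := 0) (i1 := 1) (by decide) (fun k hk => (hJ' k hk).elim)
      (fun k hk => (hJ' k hk).elim) (z_ne_of_sep C (rt_LR _) (hsep _ _ (by decide)))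

end Two

end Cfsg.Agent.H286.TypeI
end
end

-- part: H286/Row
section
set_option linter.all false
open scoped Cfsg.Agent.FastGrp

/-!
# The row lemma: definitions

* `PCase p x` : a Sylow `p`-subgroup of `C_K(x)` is elementary abelian of order `a ^ 2`, `a ≡ ± 1 mod 8`, and the normal
  subgroups of odd order of `C_K(x)` have no `p`-elements;
* `Row p K` : for every involutory automorphism `x`: `Obs p x`, `SectionalPRankLE 2 4 K` or `PCase p x`.
-/

set_option autoImplicit false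
set_option linter.dupNamespace false

namespace Cfsg.Agent.H286.Row

open Cfsg Cfsg.Agent.H286.Obs

variable {K L : Type*} [Group K] [Group L]

/-- every `p`-subgroup of fixed points is conjugate into `V` under a fixed point -/
def Syl (p : ℕ) (x : MulAut K) (V : Subgroup K) : Prop :=
  ∀ Q : Subgroup K, IsPGroup p Q → (∀ u ∈ Q, x u = u) → ∃ k, x k = k ∧ ∀ u ∈ Q, k * u * k⁻¹ ∈ V

/-- no `p`-elements in the normal subgroups of odd order of the centralizer -/
def NoO (p : ℕ) (x : MulAut K) : Prop :=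
  ∀ R : Subgroup K, (∀ u ∈ R, x u = u) → (∀ u ∈ R, ∀ k, x k = k → k * u * k⁻¹ ∈ R) → Odd (Nat.card R) →
    ∀ u ∈ R, (∃ m : ℕ, u ^ p ^ m = 1) → u = 1

/-- The case of an elementary abelian Sylow `p`-subgroup. -/
def PCase (p : ℕ) (x : MulAut K) : Prop :=
  ∃ P : Subgroup K, (∀ u ∈ P, x u = u) ∧ IsPGroup p P ∧ Syl p x P ∧ NoO p x ∧ (∀ u ∈ P, ∀ v ∈ P, u * v = v * u) ∧
    (∀ u ∈ P, u ^ p = 1) ∧ ∃ a : ℕ, Nat.card P = a ^ 2 ∧ (a % 8 = 1 ∨ a % 8 = 7) ∧ 1 < a

/-- The row lemma for `K`. -/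
def Row (p : ℕ) (K : Type*) [Group K] : Prop :=
  ∀ x : MulAut K, (∀ g, x (x g) = g) → x ≠ 1 → Obs p x ∨ SectionalPRankLE 2 4 K ∨ PCase p x

variable {p : ℕ}

section Congr

variable (e : K ≃* L) {x : MulAut K}

theorem congr_apply (g : K) : (MulAut.congr e x) (e g) = e (x g) := by
  change e (x (e.symm (e g))) = e (x g)
  rw [e.symm_apply_apply]

theorem congr_fix {g : L} (h : (MulAut.congr e x) g = g) : x (e.symm g) = e.symm g := by
  apply e.injective
  rw [← congr_apply e, e.apply_symm_apply, h]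

theorem pe_iff {g : K} : PE p (e g) ↔ PE p g := by
  constructor
  · intro h
    have := h.map e.symm.toMonoidHom
    rwa [show e.symm.toMonoidHom (e g) = g from e.symm_apply_apply g] at this
  · exact fun h => h.map e.toMonoidHom

theorem obs_congr (h : Obs p x) : Obs p (MulAut.congr e x) := by
  obtain ⟨z, w, hz, h1, h2, h3, h4, hw⟩ := h
  have hFP : ∀ g ∈ FP p x, e g ∈ FP p (MulAut.congr e x) := by
    rintro g ⟨hg, hgp⟩
    exact ⟨by rw [congr_apply, hg], (pe_iff e).2 hgp⟩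
  have key : ∀ (S : Set K) (T : Set L) (y : K), (∀ g ∈ S, e g ∈ T) → y ∈ Subgroup.closure S →
      e y ∈ Subgroup.closure T := by
    intro S T y hST hy
    have h5 : (Subgroup.closure S).map e.toMonoidHom ≤ Subgroup.closure T := by
      rw [MonoidHom.map_closure, Subgroup.closure_le]
      rintro _ ⟨g, hg, rfl⟩
      exact Subgroup.subset_closure (hST g hg)
    exact h5 ⟨y, hy, rfl⟩
  refine ⟨e z, e w, key _ _ _ hFP hz, by rw [← map_mul, h1, map_one], ?_,
    by rw [← map_mul, h3, map_one], ?_, key _ _ _ ?_ hw⟩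
  · intro h; exact h2 (e.injective (by rw [h, map_one]))
  · intro h; exact h4 (e.injective (by rw [h, map_one]))
  · rintro g ⟨hg, hgz⟩
    exact ⟨hFP g hg, by rw [← map_mul, hgz, map_mul]⟩

theorem pcase_congr (h : PCase p x) : PCase p (MulAut.congr e x) := by
  obtain ⟨P, h1, h2, h3, h4, h5, h6, a, h7, h8, h9⟩ := h
  refine ⟨P.map e.toMonoidHom, ?_, h2.map _, ?_, ?_, ?_, ?_, a, ?_, h8, h9⟩
  · rintro _ ⟨u, hu, rfl⟩
    change (MulAut.congr e x) (e u) = e u
    rw [congr_apply, h1 u hu]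
  · intro Q hQ hfix
    obtain ⟨k, hk, hk'⟩ := h3 (Q.map e.symm.toMonoidHom) (hQ.map _) (by
      rintro _ ⟨u, hu, rfl⟩
      exact congr_fix e (hfix u hu))
    refine ⟨e k, by rw [congr_apply, hk], fun u hu => ?_⟩
    refine ⟨k * e.symm u * k⁻¹, hk' _ ⟨u, hu, rfl⟩, ?_⟩
    change e (k * e.symm u * k⁻¹) = _
    rw [map_mul, map_mul, map_inv, e.apply_symm_apply]
  · intro R hfix hn hodd u hu ⟨m, hm⟩
    have h10 := h4 (R.map e.symm.toMonoidHom) (by
      rintro _ ⟨u, hu, rfl⟩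
      exact congr_fix e (hfix u hu)) (by
      rintro _ ⟨u, hu, rfl⟩ k hk
      refine ⟨e k * u * (e k)⁻¹, hn u hu (e k) (by rw [congr_apply, hk]), ?_⟩
      change e.symm (e k * u * (e k)⁻¹) = k * e.symm u * k⁻¹
      rw [map_mul, map_mul, map_inv, e.symm_apply_apply]) (by
      rwa [Nat.card_congr (R.equivMapOfInjective e.symm.toMonoidHom e.symm.injective).toEquiv.symm])
      (e.symm u) ⟨u, hu, rfl⟩ ⟨m, by rw [← map_pow, hm, map_one]⟩
    have := congrArg e h10
    rwa [e.apply_symm_apply, map_one] at this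
  · rintro _ ⟨u, hu, rfl⟩ _ ⟨v, hv, rfl⟩
    rw [← map_mul, h5 u hu v hv, map_mul]
  · rintro _ ⟨u, hu, rfl⟩
    rw [← map_pow, h6 u hu, map_one]
  · rw [← h7]
    exact Nat.card_congr (P.equivMapOfInjective e.toMonoidHom e.injective).toEquiv.symm

theorem Row.of_equiv [Finite K] (e : K ≃* L) (h : Row p K) : Row p L := by
  intro x hxx hx1
  obtain ⟨y, hy⟩ : ∃ y : MulAut K, y = MulAut.congr e.symm x := ⟨_, rfl⟩
  have hxy : x = MulAut.congr e y := by
    rw [hy]
    ext g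
    change x g = e (e.symm (x (e.symm.symm (e.symm g))))
    rw [e.apply_symm_apply, MulEquiv.symm_symm, e.apply_symm_apply]
  have h1 := h y (fun g => by
    rw [hy]
    change e.symm (x (e (e.symm (x (e g))))) = g
    rw [e.apply_symm_apply, hxx, e.symm_apply_apply]) (by
    intro h0
    apply hx1
    rw [hxy, h0, map_one])
  rw [hxy]
  rcases h1 with h1 | h1 | h1
  · exact Or.inl (obs_congr e h1)
  · exact Or.inr (Or.inl (Cfsg.Agent.GH.Rank.of_equiv h1 e))
  · exact Or.inr (Or.inr (pcase_congr e h1))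

end Congr

theorem Row.of_rank (h : SectionalPRankLE 2 4 K) : Row p K := fun _ _ _ => Or.inr (Or.inl h)

end Cfsg.Agent.H286.Row
end

-- part: H815/RankL3
section
prune_inst 0x300005040c0002000018000002003c606600019200688800c800084404c1274020040121b4a0101088de2a4460380068130001c0420000000a000000011c04810008000000000000220008000004400000000000000000000000000000000000200000000
set_option linter.all false
open scoped Cfsg.Agent.FastGrp

/-!
# Sectional 2-rank of `L₂(q)`, `L₃(q)`, `U₃(q)`, `q` odd  (helper815)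

* `rank_psl_three`, `rank_psl_two`, `rank_psu_three` : `SectionalPRankLE 2 4`, from `H284.RankFix.rank_fix` for the
  inverse transpose automorphism of `SL₃(q)`, `SU₃(q)` and the four-group of diagonal matrices with entries `±1`.
-/

set_option autoImplicit false

namespace Cfsg.Agent.H815.RankL3

open Matrix Cfsg Cfsg.Agent Subgroup

universe u

variable {F : Type u} [Field F]

/-- `SL₃` -/
abbrev SL3 (F : Type*) [Field F] := _root_.Matrix.SpecialLinearGroup (Fin 3) F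

/-- transpose -/
def tr (g : SL3 F) : SL3 F := ⟨g.1ᵀ, by rw [det_transpose]; exact g.2⟩

theorem tr_mul (a b : SL3 F) : tr (a * b) = tr b * tr a := by
  apply Subtype.ext
  exact transpose_mul a.1 b.1

theorem tr_tr (a : SL3 F) : tr (tr a) = a := rfl

theorem tr_one : tr (1 : SL3 F) = 1 := Subtype.ext transpose_one

theorem tr_inv (a : SL3 F) : tr a⁻¹ = (tr a)⁻¹ := by
  apply eq_inv_of_mul_eq_one_left
  rw [← tr_mul, mul_inv_cancel, tr_one]

/-- inverse transpose -/
def iT (F : Type u) [Field F] : SL3 F ≃* SL3 F where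
  toFun g := tr g⁻¹
  invFun g := tr g⁻¹
  left_inv g := by
    change tr (tr g⁻¹)⁻¹ = g
    rw [tr_inv, tr_tr, inv_inv]
  right_inv g := by
    change tr (tr g⁻¹)⁻¹ = g
    rw [tr_inv, tr_tr, inv_inv]
  map_mul' a b := by
    rw [_root_.mul_inv_rev, tr_mul]

theorem iT_iT (g : SL3 F) : iT F (iT F g) = g := (iT F).left_inv g

theorem iT_fix {g : SL3 F} (h : iT F g = g) : g.1 * g.1ᵀ = 1 := by
  have h1 : tr g⁻¹ = g := h
  rw [tr_inv, inv_eq_iff_mul_eq_one] at h1
  have h2 := congrArg Subtype.val h1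
  have h3 : g.1ᵀ * g.1 = 1 := h2
  exact mul_eq_one_comm.1 h3

/-- diagonal matrices with entries `±1` -/
def dsg (F : Type u) [Field F] : ℤˣ × ℤˣ →* SL3 F where
  toFun u := ⟨diagonal ![((u.1 : ℤ) : F), ((u.2 : ℤ) : F), (((u.1 * u.2 : ℤˣ) : ℤ) : F)], by
    rw [det_diagonal, Fin.prod_univ_three]
    change ((u.1 : ℤ) : F) * ((u.2 : ℤ) : F) * (((u.1 * u.2 : ℤˣ) : ℤ) : F) = 1
    rw [← Int.cast_mul, ← Int.cast_mul, ← Units.val_mul, ← Units.val_mul, Int.units_mul_self]
    simp⟩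
  map_one' := by
    apply Subtype.ext
    change diagonal _ = _
    ext i j
    (revert i j; simp only [diagonal, _root_.Fin.forall_fin_succ, _root_.Prod.fst_one, _root_.Units.val_one, _root_.Int.cast_one, _root_.Prod.snd_one, _root_.mul_one, _root_.Matrix.of_apply, _root_.Matrix.SpecialLinearGroup.coe_one, Fin.isValue, _root_.Fin.succ_zero_eq_one, _root_.Fin.succ_one_eq_two, _root_.IsEmpty.forall_iff, _root_.and_true, ↓reduceIte, _root_.Matrix.cons_val_zero, _root_.Matrix.one_apply_eq, _root_.zero_ne_one, Nat.reduceAdd, _root_.ne_eq, _root_.not_false_eq_true, _root_.Matrix.one_apply_ne, Fin.reduceEq, _root_.and_self, _root_.Fin.succ_ne_zero, _root_.Matrix.cons_val_succ, _root_.true_and, _root_.Matrix.cons_val_fin_one])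
  map_mul' u v := by
    apply Subtype.ext
    change diagonal _ = diagonal _ * diagonal _
    rw [diagonal_mul_diagonal]
    congr 1
    ext i
    (revert i; simp only [mul_mul_mul_comm, _root_.Fin.forall_fin_succ, _root_.Nat.succ_eq_add_one, Nat.reduceAdd, _root_.Prod.fst_mul, _root_.Units.val_mul, _root_.Int.cast_mul, _root_.Prod.snd_mul, Fin.isValue, _root_.Matrix.cons_val_zero, _root_.Matrix.cons_val_succ, _root_.Matrix.cons_val_fin_one, _root_.implies_true, _root_.and_self])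

theorem dsg_val (u : ℤˣ × ℤˣ) : (dsg F u).1 =
    diagonal ![((u.1 : ℤ) : F), ((u.2 : ℤ) : F), (((u.1 * u.2 : ℤˣ) : ℤ) : F)] := rfl

theorem sg_inj (h2 : (2 : F) ≠ 0) {a b : ℤˣ} (h : ((a : ℤ) : F) = ((b : ℤ) : F)) : a = b := by
  rcases Int.units_eq_one_or a with rfl | rfl <;> rcases Int.units_eq_one_or b with rfl | rfl
  · rfl
  · exfalso; apply h2
    simp only [Units.val_one, Int.cast_one, Units.val_neg, Int.cast_neg] at h
    linear_combination h
  · exfalso; apply h2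
    simp only [Units.val_one, Int.cast_one, Units.val_neg, Int.cast_neg] at h
    linear_combination -h
  · rfl

theorem dsg_injective (h2 : (2 : F) ≠ 0) : Function.Injective (dsg F) := by
  intro u v h
  have h1 := congrArg Subtype.val h
  rw [dsg_val, dsg_val] at h1
  have h3 := diagonal_injective h1
  exact Prod.ext (sg_inj h2 (congrFun h3 0)) (sg_inj h2 (congrFun h3 1))

theorem iT_dsg (u : ℤˣ × ℤˣ) : iT F (dsg F u) = dsg F u := by
  change tr (dsg F u)⁻¹ = _
  have h1 : (dsg F u)⁻¹ = dsg F u := by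
    rw [← map_inv]
    congr 1
    exact Prod.ext (Int.units_inv_eq_self _) (Int.units_inv_eq_self _)
  rw [h1]
  apply Subtype.ext
  exact diagonal_transpose _

/-- a matrix commuting with the four-group is diagonal -/
theorem offdiag (h2 : (2 : F) ≠ 0) {g : SL3 F} (h : ∀ u, g * dsg F u = dsg F u * g) (i j : Fin 3) (hij : i ≠ j) :
    g.1 i j = 0 := by
  have h1 : ∀ u : ℤˣ × ℤˣ, g.1 i j * (![((u.1 : ℤ) : F), ((u.2 : ℤ) : F), (((u.1 * u.2 : ℤˣ) : ℤ) : F)] j) =
      (![((u.1 : ℤ) : F), ((u.2 : ℤ) : F), (((u.1 * u.2 : ℤˣ) : ℤ) : F)] i) * g.1 i j := by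
    intro u
    have h3 : g.1 * (dsg F u).1 = (dsg F u).1 * g.1 := congrArg Subtype.val (h u)
    rw [dsg_val] at h3
    have h4 := congrFun (congrFun h3 i) j
    rwa [mul_diagonal, diagonal_mul] at h4
  have ha := h1 (-1, 1)
  have hb := h1 (1, -1)
  have hc := h1 (-1, -1)
  have key : ∀ x : F, x * 1 = (-1) * x → x = 0 := by
    intro x hx
    have : 2 * x = 0 := by linear_combination hx
    exact (mul_eq_zero.1 this).resolve_left h2
  have key' : ∀ x : F, x * (-1) = 1 * x → x = 0 := by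
    intro x hx
    have : 2 * x = 0 := by linear_combination -hx
    exact (mul_eq_zero.1 this).resolve_left h2
  fin_cases i <;> fin_cases j
  · exact absurd rfl hij
  · apply key; simpa only [_root_.Fin.zero_eta, _root_.Fin.isValue, _root_.Fin.mk_one, _root_.mul_one, _root_.neg_mul, _root_.one_mul, _root_.Nat.succ_eq_add_one, _root_.Nat.reduceAdd, _root_.Units.val_neg, _root_.Units.val_one, _root_.Int.reduceNeg, _root_.Int.cast_neg, _root_.Int.cast_one, _root_.Matrix.cons_val_one, _root_.Matrix.cons_val_zero] using ha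
  · apply key'; simpa only [_root_.Fin.zero_eta, _root_.Fin.isValue, _root_.Fin.reduceFinMk, _root_.mul_neg, _root_.mul_one, _root_.one_mul, _root_.Nat.succ_eq_add_one, _root_.Nat.reduceAdd, _root_.Units.val_one, _root_.Int.cast_one, _root_.Units.val_neg, _root_.Int.reduceNeg, _root_.Int.cast_neg, _root_.Matrix.cons_val, _root_.Matrix.cons_val_zero] using hb
  · apply key'; simpa only [_root_.Fin.mk_one, _root_.Fin.isValue, _root_.Fin.zero_eta, _root_.mul_neg, _root_.mul_one, _root_.one_mul, _root_.Nat.succ_eq_add_one, _root_.Nat.reduceAdd, _root_.Units.val_neg, _root_.Units.val_one, _root_.Int.reduceNeg, _root_.Int.cast_neg, _root_.Int.cast_one, _root_.Matrix.cons_val_zero, _root_.Matrix.cons_val_one] using ha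
  · exact absurd rfl hij
  · apply key'; simpa using ha
  · apply key; simpa only [_root_.Fin.reduceFinMk, _root_.Fin.zero_eta, _root_.Fin.isValue, _root_.mul_one, _root_.neg_mul, _root_.one_mul, _root_.Nat.succ_eq_add_one, _root_.Nat.reduceAdd, _root_.Units.val_one, _root_.Int.cast_one, _root_.Units.val_neg, _root_.Int.reduceNeg, _root_.Int.cast_neg, _root_.mul_neg, _root_.Matrix.cons_val_zero, _root_.Matrix.cons_val] using hb
  · apply key; simpa using ha
  · exact absurd rfl hij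

theorem rank_sub [Finite F] (h2 : (2 : F) ≠ 0) (G : Subgroup (SL3 F)) (hG : ∀ g ∈ G, iT F g ∈ G)
    (hd : ∀ u, dsg F u ∈ G) (h1 : ∃ g ∈ G, iT F g ≠ g) : SectionalPRankLE 2 4 ↥G := by
  have : Finite (SL3 F) := inferInstance
  let x : MulAut ↥G :=
    { toFun := fun g => ⟨iT F g.1, hG _ g.2⟩
      invFun := fun g => ⟨iT F g.1, hG _ g.2⟩
      left_inv := fun g => Subtype.ext (iT_iT _)
      right_inv := fun g => Subtype.ext (iT_iT _)
      map_mul' := fun a b => Subtype.ext (map_mul (iT F) _ _) }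
  let φ : ℤˣ × ℤˣ →* ↥G := (dsg F).codRestrict G hd
  have hφ : Function.Injective φ := fun a b h => dsg_injective h2 (congrArg Subtype.val h)
  refine H284.RankFix.rank_fix (x := x) ?_ ?_ φ.range ?_ ?_ ?_ ?_ ?_
  · ext g : 1
    exact Subtype.ext (iT_iT _)
  · intro hx
    obtain ⟨g, hg, hne⟩ := h1
    apply hne
    have := congrArg (fun y : MulAut ↥G => y ⟨g, hg⟩) hx
    exact congrArg Subtype.val this
  · rintro _ ⟨u, rfl⟩
    exact Subtype.ext (iT_dsg u)
  · rintro _ ⟨u, rfl⟩ _ ⟨v, rfl⟩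
    rw [← map_mul, ← map_mul, mul_comm]
  · rintro _ ⟨u, rfl⟩
    rw [← map_mul, show u * u = 1 from Prod.ext (Int.units_mul_self _) (Int.units_mul_self _), map_one]
  · rw [← Nat.card_congr (MonoidHom.ofInjective hφ).toEquiv, Nat.card_prod, Nat.card_eq_fintype_card]
    rfl
  · intro g hg hc
    have hfix : iT F g.1 = g.1 := congrArg Subtype.val (show x g = g from hg)
    have hgg := iT_fix hfix
    have hoff : ∀ i j, i ≠ j → g.1.1 i j = 0 := offdiag h2 (fun u => congrArg Subtype.val (hc (φ u) ⟨u, rfl⟩))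
    have hdiag : ∀ i, g.1.1 i i = 1 ∨ g.1.1 i i = -1 := by
      intro i
      have h3 := congrFun (congrFun hgg i) i
      rw [mul_apply, Finset.sum_eq_single i, transpose_apply, one_apply_eq] at h3
      · exact mul_self_eq_one_iff.1 h3
      · intro j _ hj
        rw [hoff i j (Ne.symm hj), zero_mul]
      · intro h; exact absurd (Finset.mem_univ _) h
    have hu : ∀ i, ∃ a : ℤˣ, g.1.1 i i = ((a : ℤ) : F) := by
      intro i
      rcases hdiag i with h | h
      · exact ⟨1, by simpa using h⟩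
      · exact ⟨-1, by simpa using h⟩
    obtain ⟨a, ha⟩ := hu 0
    obtain ⟨b, hb⟩ := hu 1
    refine ⟨(a, b), ?_⟩
    apply Subtype.ext
    apply Subtype.ext
    change (dsg F (a, b)).1 = g.1.1
    rw [dsg_val]
    have hmat : g.1.1 = diagonal ![((a : ℤ) : F), ((b : ℤ) : F), g.1.1 2 2] := by
      ext i j
      by_cases hij : i = j
      · subst hij
        rw [diagonal_apply_eq]
        fin_cases i
        · exact ha
        · exact hb
        · rfl
      · rw [diagonal_apply_ne _ hij]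
        exact hoff i j hij
    have hdet := g.1.2
    rw [hmat, det_diagonal, Fin.prod_univ_three] at hdet
    change ((a : ℤ) : F) * ((b : ℤ) : F) * g.1.1 2 2 = 1 at hdet
    rw [hmat]
    congr 1
    ext i
    fin_cases i
    · rfl
    · rfl
    · change (((a * b : ℤˣ) : ℤ) : F) = g.1.1 2 2
      rcases Int.units_eq_one_or a with rfl | rfl <;> rcases Int.units_eq_one_or b with rfl | rfl <;>
        simp only [_root_.Units.val_one, _root_.Int.cast_one, _root_.mul_one, _root_.Fin.isValue, _root_.one_mul, _root_.Units.val_neg, _root_.Int.reduceNeg, _root_.Int.cast_neg, _root_.mul_neg, _root_.neg_mul, _root_.neg_neg] at hdet ⊢ <;> first | exact hdet.symm | linear_combination -hdet | linear_combination hdet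

/-- **`SL₃(q)`, `q` odd.** -/
theorem rank_sl_three [Finite F] (h2 : (2 : F) ≠ 0) : SectionalPRankLE 2 4 (SL3 F) := by
  refine GH.Rank.of_equiv (rank_sub h2 ⊤ (fun _ _ => mem_top _) (fun _ => mem_top _) ?_) topEquiv
  refine ⟨⟨!![1, 1, 0; 0, 1, 0; 0, 0, 1], by simp [det_fin_three]⟩, mem_top _, ?_⟩
  intro h
  have h1 := congrFun (congrFun (iT_fix h) 0) 0
  rw [mul_apply, Fin.sum_univ_three, one_apply_eq] at h1
  simp at h1

/-- **`PSL₃(q)`, `q` odd.** -/
theorem rank_psl_three [Finite F] (h2 : (2 : F) ≠ 0) :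
    SectionalPRankLE 2 4 (ProjectiveSpecialLinearGroup (Fin 3) F) :=
  GH.Rank.of_quotient (rank_sl_three h2) _

/-- `SL₂ → SL₃` -/
def blk (F : Type u) [Field F] : _root_.Matrix.SpecialLinearGroup (Fin 2) F →* SL3 F where
  toFun g := ⟨!![g.1 0 0, g.1 0 1, 0; g.1 1 0, g.1 1 1, 0; 0, 0, 1], by
    have h := g.2
    rw [det_fin_two] at h
    simp [det_fin_three, h]⟩
  map_one' := by
    apply Subtype.ext
    ext i j
    (revert i j; simp only [_root_.Fin.forall_fin_succ, Fin.isValue, _root_.Matrix.SpecialLinearGroup.coe_one, _root_.Matrix.one_apply_eq, _root_.ne_eq, _root_.zero_ne_one, _root_.not_false_eq_true, _root_.Matrix.one_apply_ne, _root_.one_ne_zero, _root_.Matrix.of_apply, _root_.Matrix.cons_val', _root_.Matrix.cons_val_fin_one, _root_.Matrix.cons_val_zero, _root_.Matrix.cons_val_succ, _root_.IsEmpty.forall_iff, _root_.and_true, Nat.reduceAdd, _root_.Fin.succ_zero_eq_one, _root_.Fin.succ_one_eq_two, Fin.reduceEq, _root_.and_self,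 _root_.Fin.succ_ne_zero, _root_.true_and])
  map_mul' a b := by
    apply Subtype.ext
    change _ = _ * _
    ext i j
    (revert i j; simp only [mul_apply, Fin.sum_univ_two, Fin.sum_univ_three, _root_.Fin.forall_fin_succ, Fin.isValue, _root_.Matrix.SpecialLinearGroup.coe_mul, _root_.Matrix.of_apply, _root_.Matrix.cons_val', _root_.Matrix.cons_val_fin_one, _root_.Matrix.cons_val_zero, _root_.Matrix.cons_val_one, _root_.Matrix.cons_val, _root_.MulZeroClass.mul_zero, _root_.add_zero, _root_.Matrix.cons_val_succ, _root_.mul_one, _root_.zero_add, _root_.implies_true, _root_.and_true, _root_.and_self, _root_.MulZeroClass.zero_mul])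

theorem blk_injective (F : Type u) [Field F] : Function.Injective (blk F) := by
  intro a b h
  have h1 := congrArg Subtype.val h
  have h2 : !![a.1 0 0, a.1 0 1, 0; a.1 1 0, a.1 1 1, 0; 0, 0, 1] =
    !![b.1 0 0, b.1 0 1, 0; b.1 1 0, b.1 1 1, 0; 0, 0, 1] := h1
  apply Subtype.ext
  ext i j
  fin_cases i <;> fin_cases j
  · exact congrFun (congrFun h2 0) 0
  · exact congrFun (congrFun h2 0) 1
  · exact congrFun (congrFun h2 1) 0
  · exact congrFun (congrFun h2 1) 1

/-- **`SL₂(q)`, `q` odd.** -/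
theorem rank_sl_two [Finite F] (h2 : (2 : F) ≠ 0) : SectionalPRankLE 2 4 (_root_.Matrix.SpecialLinearGroup (Fin 2) F) :=
  GH.Rank.of_injective (rank_sl_three h2) (blk F) (blk_injective F)

/-- **`PSL₂(q)`, `q` odd.** -/
theorem rank_psl_two [Finite F] (h2 : (2 : F) ≠ 0) :
    SectionalPRankLE 2 4 (ProjectiveSpecialLinearGroup (Fin 2) F) :=
  GH.Rank.of_quotient (rank_sl_two h2) _

/-! ### The unitary groups -/

section Unitary

variable [Fintype F] {q : ℕ}

theorem two_ne_zero_of_odd (hF : Fintype.card F = q ^ 2) (hq : Odd q) : (2 : F) ≠ 0 :=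
  GH.LowRankLie.two_ne_zero_of_odd (by rw [hF]; exact hq.pow)

theorem iT_mem_SU (hF : Fintype.card F = q ^ 2) {g : SL3 F} (hg : g ∈ SU 3 F q) : iT F g ∈ SU 3 F q := by
  obtain ⟨σ, hσ⟩ := ClassicalGeometry.GUBasic.exists_powHom hF
  have hσσ : ∀ x, σ (σ x) = x := by
    intro x
    rw [hσ, hσ, ← pow_mul, ← pow_two, ← hF, FiniteField.pow_card]
  have h1 := (LieRecognition.PSUThreeSylow.mem_SU_iff hσ g).1 hg
  rw [LieRecognition.PSUThreeSylow.mem_SU_iff hσ]
  -- `gᵀ σ(g) = 1`, hence `σ(g) = (g⁻¹)ᵀ`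
  have h3 : g.1.map σ = (iT F g).1 := by
    have h4 : (tr g) * (iT F g) = 1 := by
      change tr g * tr g⁻¹ = 1
      rw [tr_inv, mul_inv_cancel]
    have h5 : g.1ᵀ * (iT F g).1 = 1 := congrArg Subtype.val h4
    have h6 : (iT F g).1 * g.1ᵀ = 1 := mul_eq_one_comm.1 h5
    calc g.1.map σ = (iT F g).1 * g.1ᵀ * g.1.map σ := by rw [h6, one_mul]
      _ = (iT F g).1 := by rw [mul_assoc, h1, mul_one]
  change (iT F g).1ᵀ * (iT F g).1.map σ = 1
  rw [← h3, map_map]
  have h7 : g.1.map (σ ∘ σ) = g.1 := by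
    ext i j
    exact hσσ _
  rw [h7, h3]
  change (tr g⁻¹).1ᵀ * g.1 = 1
  exact congrArg Subtype.val (inv_mul_cancel g)

theorem dsg_mem_SU (hF : Fintype.card F = q ^ 2) (u : ℤˣ × ℤˣ) : dsg F u ∈ SU 3 F q := by
  obtain ⟨σ, hσ⟩ := ClassicalGeometry.GUBasic.exists_powHom hF
  rw [LieRecognition.PSUThreeSylow.mem_SU_iff hσ]
  have h1 : (dsg F u).1.map σ = (dsg F u).1 := by
    rw [dsg_val, diagonal_map (map_zero σ)]
    congr 1
    ext i
    (revert i; simp only [_root_.Fin.forall_fin_succ, _root_.Nat.succ_eq_add_one, Nat.reduceAdd, _root_.Units.val_mul, _root_.Int.cast_mul, Fin.isValue, _root_.Matrix.cons_val_zero, _root_.map_intCast, _root_.Matrix.cons_val_succ, _root_.Matrix.cons_val_fin_one, _root_.map_mul, _root_.implies_true, _root_.and_self])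
  rw [h1, dsg_val, diagonal_transpose, ← dsg_val]
  have h2 : dsg F u * dsg F u = 1 := by
    rw [← map_mul, show u * u = 1 from Prod.ext (Int.units_mul_self _) (Int.units_mul_self _), map_one]
  exact congrArg Subtype.val h2

/-- a norm one element that is not `±1` -/
theorem exists_norm_one (hF : Fintype.card F = q ^ 2) (hodd : Odd q) :
    ∃ a : F, a * a ^ q = 1 ∧ a * a ≠ 1 := by
  classical
  by_contra hcon
  push Not at hcon
  have h1 := LieClassical.HermBasic.card_norm_eq_one hF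
  have h2 := LieClassical.HermBasic.two_le hF
  have h3 : Nat.card {x : F // x * x ^ q = 1} ≤ Nat.card ℤˣ := by
    refine Nat.card_le_card_of_injective (fun x => if x.1 = 1 then (1 : ℤˣ) else -1) ?_
    intro x y h
    have hx := mul_self_eq_one_iff.1 (hcon x.1 x.2)
    have hy := mul_self_eq_one_iff.1 (hcon y.1 y.2)
    apply Subtype.ext
    simp only at h
    by_cases hx1 : x.1 = 1 <;> by_cases hy1 : y.1 = 1
    · rw [hx1, hy1]
    · rw [if_pos hx1, if_neg hy1] at h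
      exact absurd h (by decide)
    · rw [if_neg hx1, if_pos hy1] at h
      exact absurd h (by decide)
    · rw [hx.resolve_left hx1, hy.resolve_left hy1]
  rw [h1, Nat.card_eq_fintype_card, show Fintype.card ℤˣ = 2 from rfl] at h3
  obtain ⟨k, hk⟩ := hodd
  omega

theorem rank_su_three (hF : Fintype.card F = q ^ 2) (hq : Odd q) : SectionalPRankLE 2 4 ↥(SU 3 F q) := by
  have h2 := two_ne_zero_of_odd hF hq
  refine rank_sub h2 (SU 3 F q) (fun g hg => iT_mem_SU hF hg) (dsg_mem_SU hF) ?_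
  obtain ⟨a, ha, ha2⟩ := exists_norm_one hF hq
  obtain ⟨σ, hσ⟩ := ClassicalGeometry.GUBasic.exists_powHom hF
  have ha' : a * σ a = 1 := by rw [hσ]; exact ha
  have ha0 : a ≠ 0 := left_ne_zero_of_mul_eq_one ha
  have hdet : (diagonal ![a, a⁻¹, 1]).det = 1 := by
    rw [det_diagonal, Fin.prod_univ_three]
    change a * a⁻¹ * 1 = 1
    rw [mul_inv_cancel₀ ha0, one_mul]
  let g₀ : SL3 F := ⟨diagonal ![a, a⁻¹, 1], hdet⟩
  refine ⟨g₀, ?_, ?_⟩
  · refine (LieRecognition.PSUThreeSylow.mem_SU_iff hσ g₀).2 ?_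
    change (diagonal ![a, a⁻¹, 1])ᵀ * (diagonal ![a, a⁻¹, 1]).map σ = 1
    rw [diagonal_transpose, diagonal_map (map_zero σ), diagonal_mul_diagonal, ← diagonal_one]
    congr 1
    ext i
    fin_cases i
    · exact ha'
    · change a⁻¹ * σ a⁻¹ = 1
      rw [map_inv₀, ← mul_inv, ha', inv_one]
    · change (1 : F) * σ 1 = 1
      rw [map_one, one_mul]
  · intro h
    have h3 := iT_fix h
    apply ha2
    change diagonal ![a, a⁻¹, 1] * (diagonal ![a, a⁻¹, 1])ᵀ = 1 at h3
    rw [diagonal_transpose, diagonal_mul_diagonal, ← diagonal_one] at h3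
    exact congrFun (diagonal_injective h3) 0

theorem rank_psu_three (hF : Fintype.card F = q ^ 2) (hq : Odd q) : SectionalPRankLE 2 4 (PSU 3 F q) :=
  GH.Rank.of_quotient (rank_su_three hF hq) _

end Unitary

end Cfsg.Agent.H815.RankL3
end

-- part: H783/RowSpU
section
prune_inst 0x400004020010000000000000200001c00040000900008880080000b4606c024020902002138001000000088000038004002000000000000000000040000040401008002002000a000000006000000400000000000000000000000000000000000200000000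
set_option linter.all false
open scoped Cfsg.Agent.FastGrp

-- part: H286/RowOf
section
/-!
# `Row` from the normal forms of the involutory automorphisms
-/

set_option autoImplicit false
set_option linter.unusedSectionVars false

namespace Cfsg.Agent.H286.RowOf

open CoxeterSystem Cfsg.Agent.ChevalleyStructure.CoxeterGeom Cfsg.Agent.Tits.Roots Cfsg.Agent.Tits.Core
  Cfsg.Agent.Tits.RootComb Cfsg.Agent.Nodes.Comb Cfsg.Agent.Nodes.Reps Cfsg.Agent.Nodes.BNOf Cfsg.Agent.Nodes.BNOf.RGD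
  Cfsg.Agent.Nodes.RGDLib Cfsg.Agent.UGT.U2.FOne Cfsg.Agent.H286.Obs Cfsg.Agent.H286.Row Cfsg.Agent.Nodes.LeviDec

variable {I W K : Type*} [Fintype I] [DecidableEq I] [Group W] [Group K] {M : CoxeterMatrix I}
  {cs : CoxeterSystem M W} {A : I → I → ℤ} {h : IsCartan M A} {p : ℕ} {T : Subgroup K} {n : I → K}
  {X : (I → ℤ) → Subgroup K} [Finite W] [Finite K]

/-- **`Row` from the normal forms.** -/
theorem row_of_nf [IsSimpleGroup K] [hp : Fact p.Prime] (hp2 : p ≠ 2) (R : RGD cs h p T n X) (hG : G1 cs h X = ⊤)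
    (hrow : ∀ (x : MulAut K) (φ : W ≃* W) (σ : I → I) (J : Set I) (g : K), NF cs h p T n X x 1 φ σ J g →
      Syl p x (VJ cs h X J) → NoO p x → Obs p x ∨ SectionalPRankLE 2 4 K ∨ PCase p x) : Row p K := by
  intro x hxx hx1
  obtain ⟨k, x', φ, σ, J, g, hx', N, h1, h2⟩ := Cfsg.Agent.H31.OddNFP.exists_nf hp2 R hG x hxx hx1
  rcases hrow x' φ σ J g N h1 h2 with h3 | h3 | h3
  · rw [← hx']; exact Or.inl (obs_congr _ h3)
  · exact Or.inr (Or.inl h3)
  · rw [← hx']; exact Or.inr (Or.inr (pcase_congr _ h3))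

/-- **`Row` from the normal forms**, if always `Obs`. -/
theorem row_of_obs [IsSimpleGroup K] [hp : Fact p.Prime] (hp2 : p ≠ 2) (R : RGD cs h p T n X) (hG : G1 cs h X = ⊤)
    (hrow : ∀ (x : MulAut K) (φ : W ≃* W) (σ : I → I) (J : Set I) (g : K), NF cs h p T n X x 1 φ σ J g → Obs p x) :
    Row p K :=
  row_of_nf hp2 R hG fun x φ σ J g N _ _ => Or.inl (hrow x φ σ J g N)

end Cfsg.Agent.H286.RowOf
end

-- part: H829/UNodeEll
section
/-!
# No elliptic automorphism on a unitary panel (task 786, ODD-1)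

`false_of_unode` : an involutory automorphism `x` exchanging `X α_i` and `X (-α_i)`, the node `i` of a root group datum
being parametrised by the group `Pt σ` of a unitary plane, fixes one of the conjugates of `X α_i` under
`⟨X α_i, X (-α_i)⟩`.
-/

set_option autoImplicit false
set_option linter.unusedSectionVars false

namespace Cfsg.Agent.H829.UNodeEll

open CoxeterSystem Cfsg.Agent.ChevalleyStructure.CoxeterGeom Cfsg.Agent.Tits.Roots Cfsg.Agent.Tits.Core
  Cfsg.Agent.Tits.RootComb Cfsg.Agent.Nodes.Comb Cfsg.Agent.Nodes.Reps Cfsg.Agent.Nodes.BNOf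
  Cfsg.Agent.Nodes.StabComb Cfsg.Agent.Nodes.Bruhat Cfsg.Agent.Nodes.RGDLib
  Cfsg.Agent.FixBN Cfsg.Agent.FixBN.U3Model Cfsg.Agent.FixBN.U3Core Cfsg.Agent.FixBN.RankOneU3
  Cfsg.Agent.UGT.U2.FOne

variable {I W Y : Type*} [Fintype I] [DecidableEq I] [Group W] [Finite W] [Group Y] {M : CoxeterMatrix I}
  {cs : CoxeterSystem M W} {A : I → I → ℤ} {h : IsCartan M A} {p : ℕ} {T : Subgroup Y} {n : I → Y}
  {X : (I → ℤ) → Subgroup Y}

omit [Finite W] in
theorem cj_of_mem_BJ [Finite W] (R : RGD cs h p T n X) (i : I) {b : Y} (hb : b ∈ BJ cs h T X {i}) :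
    cj b (X (sr i)) = X (sr i) := by
  have h1 : BJ cs h T X {i} ≤ Subgroup.normalizer (X (sr i) : Set Y) := by
    refine sup_le ?_ (RGD.Sup_le ?_)
    · intro t ht
      rw [mem_normalizer_iff_cj]
      exact R.tor _ (isRoot_sr cs h i) t ht
    · rintro x ⟨hx, h0, hs⟩
      have h2 : x = sr i := by
        rcases root_of_supp_comm cs h (i := i) (j := i) rfl hx (fun k h1 h2 => hs k h1) with h3 | h3 | h3 | h3
        · exact h3
        · exfalso
          rw [h3] at h0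
          exact (isRoot_sr cs h i).not_pos_neg (sr_nonneg i) (by simpa using h0)
        · exact h3
        · exfalso
          rw [h3] at h0
          exact (isRoot_sr cs h i).not_pos_neg (sr_nonneg i) (by simpa using h0)
      rw [h2]
      exact Subgroup.le_normalizer
  exact mem_normalizer_iff_cj.1 (h1 hb)

theorem ne_neg (R : RGD cs h p T n X) (i : I) : X (sr i) ≠ X (-sr i) := fun e =>
  R.not_neg_le_B i (by rw [← e]; exact RGD.X_le_B (isRoot_sr cs h i) (sr_nonneg i))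

theorem cj_n (R : RGD cs h p T n X) (i : I) : cj (n i) (X (sr i)) = X (-sr i) := by
  rw [R.conj i _ (isRoot_sr cs h i), rep_simple_sr]

/-- the two root groups are conjugate in the rank one group -/
theorem exists_k (R : RGD cs h p T n X) (i : I) : ∃ k ∈ RA X (sr i), cj k (X (sr i)) = X (-sr i) := by
  obtain ⟨u, hu, hu1⟩ : ∃ u ∈ X (-sr i), u ≠ 1 := by
    by_contra hno
    push Not at hno
    apply R.not_neg_le_B i
    intro u hu
    rw [hno u hu]
    exact one_mem _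
  obtain ⟨a, ha, t, ht, b, hb, e⟩ := R.rk1 i u hu hu1
  refine ⟨a⁻¹ * u, mul_mem (inv_mem (Subgroup.mem_sup_left ha)) (Subgroup.mem_sup_right hu), ?_⟩
  have h1 : a⁻¹ * u = t * n i * b := by rw [e]; group
  rw [h1, cj_mul, cj_eq_of_mem hb, cj_mul, cj_n R, R.tor _ (isRoot_sr cs h i).neg t ht]

/-- an element of `X α_i` normalising `X (-α_i)` is trivial -/
theorem eq_one_of_cj (R : RGD cs h p T n X) (i : I) {u : Y} (hu : u ∈ X (-sr i)) (h1 : cj u (X (sr i)) = X (sr i)) :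
    u = 1 := by
  by_contra hu1
  obtain ⟨a, ha, t, ht, b, hb, e⟩ := R.rk1 i u hu hu1
  rw [e, cj_mul, cj_eq_of_mem hb, cj_mul, cj_n R, cj_mul, R.tor _ (isRoot_sr cs h i).neg t ht] at h1
  have h2 := congrArg (cj a⁻¹) h1
  rw [cj_inv_cj, cj_eq_of_mem (inv_mem ha)] at h2
  exact ne_neg R i h2.symm

variable {F : Type*} [Field F] {σ : F →+* F} [Inv2 σ]

/-- the points of the panel -/
def PP (xx : Pt σ → Y) (n : I → Y) (X : (I → ℤ) → Subgroup Y) (i : I) : Om σ → Subgroup Y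
  | none => X (sr i)
  | some t => cj (xx t * n i) (X (sr i))

/-- the data -/
structure Dat (R : RGD cs h p T n X) (i : I) (xx : Pt σ → Y) : Prop where
  mul : ∀ a b, xx (a * b) = xx a * xx b
  mem : ∀ a, xx a ∈ X (sr i)
  onto : ∀ u ∈ X (sr i), ∃ a, u = xx a
  inj : ∀ a, xx a = 1 → a = 1
  inv : ∀ a, a ≠ 1 → (xx (J a) * n i)⁻¹ * (n i * xx a * n i) ∈ RGD.B cs h T X

namespace Dat

variable {R : RGD cs h p T n X} {i : I} {xx : Pt σ → Y}

theorem one (D : Dat R i xx) : xx 1 = 1 := by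
  have h1 := D.mul 1 1
  rw [mul_one] at h1
  exact left_eq_mul.1 h1

theorem xinv (D : Dat R i xx) (a : Pt σ) : xx a⁻¹ = (xx a)⁻¹ := by
  have h1 := D.mul a a⁻¹
  rw [mul_inv_cancel, D.one] at h1
  exact (inv_eq_of_mul_eq_one_right h1.symm).symm

theorem cj_xx (D : Dat R i xx) (a : Pt σ) (z : Om σ) : cj (xx a) (PP xx n X i z) = PP xx n X i (tr a z) := by
  rcases z with _ | t
  · exact cj_eq_of_mem (D.mem a)
  · show cj (xx a) (cj (xx t * n i) (X (sr i))) = cj (xx (a * t) * n i) (X (sr i))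
    rw [← cj_mul, D.mul, mul_assoc]

theorem cj_nn (D : Dat R i xx) (z : Om σ) : cj (n i) (PP xx n X i z) = PP xx n X i (jj z) := by
  rcases z with _ | t
  · rw [jj_none]
    show cj (n i) (X (sr i)) = cj (xx 1 * n i) (X (sr i))
    rw [D.one, one_mul]
  · by_cases ht : t = 1
    · subst ht
      rw [jj_one]
      show cj (n i) (cj (xx 1 * n i) (X (sr i))) = X (sr i)
      rw [D.one, one_mul, ← cj_mul]
      exact R.tor _ (isRoot_sr cs h i) _ (R.sq_mem_T i)
    · rw [jj_some ht]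
      show cj (n i) (cj (xx t * n i) (X (sr i))) = cj (xx (J t) * n i) (X (sr i))
      have hL : ∀ a, xx a ∈ LJ cs h T X {i} := fun a =>
        X_le_LJ (PosJ_subset _ (sr_mem_PosJ (Set.mem_singleton i))) (D.mem a)
      have hn : n i ∈ LJ cs h T X {i} := n_mem_LJ R (Set.mem_singleton i)
      have hb : (xx (J t) * n i)⁻¹ * (n i * xx t * n i) ∈ BJ cs h T X {i} := by
        rw [← B_inf_LJ R]
        have h7 : (xx (J t) * n i)⁻¹ * (n i * xx t * n i) ∈ LJ cs h T X {i} :=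
          mul_mem (inv_mem (mul_mem (hL _) hn)) (mul_mem (mul_mem hn (hL _)) hn)
        exact Subgroup.mem_inf.2 ⟨D.inv t ht, h7⟩
      have h1 := cj_of_mem_BJ R i hb
      have h2 := congrArg (cj (xx (J t) * n i)) h1
      rw [← cj_mul, mul_inv_cancel_left] at h2
      rw [← cj_mul, ← mul_assoc, h2]

theorem injective (D : Dat R i xx) : Function.Injective (PP xx n X i) := by
  have h0 : ∀ t : Pt σ, X (sr i) ≠ cj (xx t * n i) (X (sr i)) := by
    intro t e
    have h1 := congrArg (cj (xx t)⁻¹) e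
    rw [cj_eq_of_mem (inv_mem (D.mem t)), cj_mul, cj_inv_cj, cj_n R] at h1
    exact ne_neg R i h1
  rintro (_ | s) (_ | t) e
  · rfl
  · exact absurd e (h0 t)
  · exact absurd e.symm (h0 s)
  · have e' : cj (xx s * n i) (X (sr i)) = cj (xx t * n i) (X (sr i)) := e
    have h1 := congrArg (cj (xx s * n i)⁻¹) e'
    rw [cj_inv_cj, ← cj_mul] at h1
    have h2 : (xx s * n i)⁻¹ * (xx t * n i) = (n i)⁻¹ * xx (s⁻¹ * t) * n i := by
      rw [D.mul, D.xinv]; group
    rw [h2] at h1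
    have h3 : (n i)⁻¹ * xx (s⁻¹ * t) * n i ∈ X (-sr i) := by
      have := R.conj_mem' (rp_simple cs R.nsys i) (isRoot_sr cs h i) (D.mem (s⁻¹ * t))
      rwa [inv_simple, rep_simple_sr] at this
    have h4 := eq_one_of_cj R i h3 h1.symm
    have h5 : xx (s⁻¹ * t) = 1 := by
      have h6 : xx (s⁻¹ * t) = n i * ((n i)⁻¹ * xx (s⁻¹ * t) * n i) * (n i)⁻¹ := by group
      rw [h6, h4]; group
    congr 1
    exact inv_mul_eq_one.1 (D.inj _ h5)

/-- the elements permuting the points -/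
def Stab (xx : Pt σ → Y) (n : I → Y) (X : (I → ℤ) → Subgroup Y) (i : I) : Subgroup Y where
  carrier := {g | ∃ π : Equiv.Perm (Om σ), ∀ z, cj g (PP xx n X i z) = PP xx n X i (π z)}
  one_mem' := ⟨1, fun z => by rw [cj_one]; rfl⟩
  mul_mem' := by
    rintro a b ⟨π, hπ⟩ ⟨ρ, hρ⟩
    exact ⟨π * ρ, fun z => by rw [cj_mul, hρ, hπ]; rfl⟩
  inv_mem' := by
    rintro a ⟨π, hπ⟩
    refine ⟨π⁻¹, fun z => ?_⟩
    have h1 := hπ (π⁻¹ z)
    rw [show π (π⁻¹ z) = z from π.apply_symm_apply z] at h1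
    rw [← h1, cj_inv_cj]

theorem RA_le (D : Dat R i xx) : RA X (sr i) ≤ Stab xx n X i := by
  have hX : X (sr i) ≤ Stab xx n X i := by
    intro u hu
    obtain ⟨a, rfl⟩ := D.onto u hu
    exact ⟨tr a, D.cj_xx a⟩
  refine sup_le hX ?_
  rw [← cj_n R]
  have hn : n i ∈ Stab xx n X i := ⟨jj, D.cj_nn⟩
  intro u hu
  have h1 := mem_cj.1 hu
  have h2 : u = n i * ((n i)⁻¹ * u * n i) * (n i)⁻¹ := by group
  rw [h2]
  exact mul_mem (mul_mem hn (hX h1)) (inv_mem hn)

theorem eq_cj (D : Dat R i xx) (z : Om σ) : ∃ k ∈ RA X (sr i), PP xx n X i z = cj k (X (sr i)) := by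
  rcases z with _ | t
  · exact ⟨1, one_mem _, by rw [cj_one]; rfl⟩
  · obtain ⟨k, hk, e⟩ := exists_k R i
    refine ⟨xx t * k, mul_mem (Subgroup.mem_sup_left (D.mem t)) hk, ?_⟩
    show cj (xx t * n i) (X (sr i)) = _
    rw [cj_mul, cj_mul, e, cj_n R]

theorem exists_of_cj (D : Dat R i xx) {k : Y} (hk : k ∈ RA X (sr i)) : ∃ z, cj k (X (sr i)) = PP xx n X i z := by
  obtain ⟨π, hπ⟩ := D.RA_le hk
  exact ⟨π none, hπ none⟩

/-- the element inducing `toPt y` -/
theorem exists_toPt (D : Dat R i xx) (y : Om σ) : ∃ k : Y, (∀ z, cj k (PP xx n X i z) = PP xx n X i (toPt y z)) ∧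
    PP xx n X i y = cj k (X (sr i)) := by
  rcases y with _ | t
  · exact ⟨1, fun z => by rw [cj_one]; rfl, by rw [cj_one]; rfl⟩
  · refine ⟨xx t * n i, fun z => ?_, rfl⟩
    rw [cj_mul, D.cj_nn, D.cj_xx]
    rfl

theorem mem_fam (D : Dat R i xx) {g : Equiv.Perm (Om σ)} {y : Om σ} :
    g ∈ u3Fam σ y ↔ ∃ u ∈ PP xx n X i y, ∀ z, cj u (PP xx n X i z) = PP xx n X i (g z) := by
  obtain ⟨k, hk, hy⟩ := D.exists_toPt y
  have hk' : ∀ z, cj k⁻¹ (PP xx n X i z) = PP xx n X i ((toPt y)⁻¹ z) := by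
    intro z
    have h1 := hk ((toPt y)⁻¹ z)
    rw [show toPt y ((toPt y)⁻¹ z) = z from (toPt y).apply_symm_apply z] at h1
    rw [← h1, cj_inv_cj]
  have key : ∀ a z, cj (k * xx a * k⁻¹) (PP xx n X i z) =
      PP xx n X i ((toPt y * tr a * (toPt y)⁻¹) z) := by
    intro a z
    rw [cj_mul, hk', cj_mul, D.cj_xx, hk]
    rfl
  constructor
  · rintro ⟨a, rfl⟩
    refine ⟨k * xx a * k⁻¹, ?_, key a⟩
    rw [hy]
    exact conj_mem_cj.2 (D.mem a)
  · rintro ⟨u, hu, h1⟩
    rw [hy] at hu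
    obtain ⟨a, ha⟩ := D.onto _ (mem_cj.1 hu)
    refine ⟨a, ?_⟩
    have h2 : u = k * xx a * k⁻¹ := by rw [← ha]; group
    apply Equiv.ext
    intro z
    apply D.injective
    rw [← h1, h2, key]

end Dat

/-- **No involutory automorphism acts without fixed points on a unitary panel.** -/
theorem exists_fixed (R : RGD cs h p T n X) (i : I) (hσ : UF σ) (xx : Pt σ → Y) (D : Dat R i xx) (x : MulAut Y)
    (hxx : ∀ g, x (x g) = g) (h1 : (X (sr i)).map x.toMonoidHom = X (-sr i)) :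
    ∃ k ∈ RA X (sr i), (cj k (X (sr i))).map x.toMonoidHom = cj k (X (sr i)) := by
  have hmm : ∀ S : Subgroup Y, (S.map x.toMonoidHom).map x.toMonoidHom = S := by
    intro S
    rw [Subgroup.map_map]
    have h2 : x.toMonoidHom.comp x.toMonoidHom = MonoidHom.id Y := MonoidHom.ext hxx
    rw [h2, Subgroup.map_id]
  have h2 : (X (-sr i)).map x.toMonoidHom = X (sr i) := by rw [← h1, hmm]
  have hRA : (RA X (sr i)).map x.toMonoidHom = RA X (sr i) := by
    rw [map_RA, h1, h2, sup_comm]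
    rfl
  have hcj : ∀ (g : Y) (S : Subgroup Y), (cj g S).map x.toMonoidHom = cj (x g) (S.map x.toMonoidHom) :=
    fun g S => (cj_map x.toMonoidHom g S).symm
  obtain ⟨k₀, hk₀, hk₀'⟩ := exists_k R i
  have hex : ∀ z, ∃ z', (PP xx n X i z).map x.toMonoidHom = PP xx n X i z' := by
    intro z
    obtain ⟨k, hk, e⟩ := D.eq_cj z
    rw [e, hcj, h1, ← hk₀', ← cj_mul]
    refine D.exists_of_cj (mul_mem ?_ hk₀)
    rw [← hRA]
    exact ⟨k, hk, rfl⟩
  choose f hf using hex
  have hff : ∀ z, f (f z) = z := by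
    intro z
    apply D.injective
    rw [← hf, ← hf, hmm]
  set th : Equiv.Perm (Om σ) := ⟨f, f, hff, hff⟩ with hth
  have hthf : ∀ z, th z = f z := fun z => rfl
  have h22 : th * th = 1 := Equiv.ext hff
  have hthi : th⁻¹ = th := rfl
  have hstep : ∀ y g, g ∈ u3Fam σ y → th * g * th⁻¹ ∈ u3Fam σ (th y) := by
    intro y g hg
    obtain ⟨u, hu, h3⟩ := D.mem_fam.1 hg
    refine D.mem_fam.2 ⟨x u, ?_, fun z => ?_⟩
    · rw [hthf, ← hf]
      exact ⟨u, hu, rfl⟩
    · rw [hthi]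
      show cj (x u) (PP xx n X i z) = PP xx n X i (f (g (f z)))
      rw [← hf, ← h3, hcj, hf (f z), hff]
  have hfam : th ∈ famStab (u3Fam σ) := by
    intro y g
    refine ⟨hstep y g, fun h3 => ?_⟩
    have h4 := hstep _ _ h3
    have h5 : th * (th * g * th⁻¹) * th⁻¹ = g := by
      rw [hthi]
      have h6 : th * (th * g * th) * th = (th * th) * g * (th * th) := by group
      rw [h6, h22, one_mul, mul_one]
    have h6 : th (th y) = y := hff y
    rwa [h5, h6] at h4
  obtain ⟨z, hz⟩ := RankOneU3.exists_fixed hσ th hfam h22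
  obtain ⟨k, hk, e⟩ := D.eq_cj z
  refine ⟨k, hk, ?_⟩
  rw [← e, hf]
  exact congrArg _ hz

/-- **(a)** -/
theorem false_of_unode (R : RGD cs h p T n X) (i : I) (hσ : UF σ) (xx : Pt σ → Y)
    (mul : ∀ a b, xx (a * b) = xx a * xx b) (mem : ∀ a, xx a ∈ X (sr i)) (onto : ∀ u ∈ X (sr i), ∃ a, u = xx a)
    (inj : ∀ a, xx a = 1 → a = 1) (inv : ∀ a, a ≠ 1 → (xx (J a) * n i)⁻¹ * (n i * xx a * n i) ∈ RGD.B cs h T X)
    (x : MulAut Y) (hxx : ∀ g, x (x g) = g) (h1 : (X (sr i)).map x.toMonoidHom = X (-sr i))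
    (ell : ∀ k ∈ RA X (sr i), (cj k (X (sr i))).map x.toMonoidHom ≠ cj k (X (sr i))) : False := by
  obtain ⟨k, hk, e⟩ := exists_fixed R i hσ xx ⟨mul, mem, onto, inj, inv⟩ x hxx h1
  exact ell k hk e

end Cfsg.Agent.H829.UNodeEll
end

-- part: H829/UNodeLast
section
/-!
# The last node of `PSU_N(q)`, `N` odd, is of unitary type (task 786, ODD-1 (b))

`UAt R i` : the data of `UNodeEll.Dat` exist at the node `i`;
`uAt_odd` : the last node of `PSU_{2m+1}(q)`, `q` odd; `last_not_mem` : this node is not in `J` for every normal form.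
-/

set_option autoImplicit false
set_option linter.unusedSectionVars false

namespace Cfsg.Agent.H829.UNodeLast

open Cfsg Cfsg.Agent.LieClassical.HermBasic Cfsg.Agent.LieClassical.HermGen
open Cfsg.Agent.ChevalleyStructure.CoxeterGeom Cfsg.Agent.Tits.Roots Cfsg.Agent.Nodes.TypeC
open Cfsg.Agent.Nodes.Comb Cfsg.Agent.Nodes.Reps Cfsg.Agent.Nodes.WittRoot Cfsg.Agent.Nodes.BNOf
open Cfsg.Agent.Nodes.WittRGD Cfsg.Agent.Nodes.RGDLib Cfsg.Agent.Nodes.WittModel Cfsg.Agent.Nodes.WittU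
open Cfsg.Agent.TitsThree Cfsg.Agent.TitsThree.Siegel Cfsg.Agent.TitsThree.SiegelGen
  Cfsg.Agent.TitsThree.WittFrame Cfsg.Agent.TitsThree.WBridge Cfsg.Agent.TitsThree.WittWeyl
  Cfsg.Agent.TitsThree.FrameCN Cfsg.Agent.TitsThree.KSideU Cfsg.Agent.TitsThree.KSideUDesc
open Cfsg.Agent.FixBN Cfsg.Agent.FixBN.WittNodeA Cfsg.Agent.FixBN.WittNodeB Cfsg.Agent.FixBN.WittNodeC
open Cfsg.Agent.FixBN.U3Model Cfsg.Agent.UGT.U2.FOne

section UAt

variable {I W Y : Type*} [Fintype I] [DecidableEq I] [Group W] [Group Y] {M : CoxeterMatrix I}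
  {cs : CoxeterSystem M W} {A : I → I → ℤ} {h : IsCartan M A} {p : ℕ} {T : Subgroup Y} {n : I → Y}
  {X : (I → ℤ) → Subgroup Y}

/-- The node `i` is of unitary type (the second alternative of `GoodAt`). -/
def UAt (_R : RGD cs h p T n X) (i : I) : Prop :=
  ∃ (F : Type) (_ : Field F) (σ : F →+* F) (_ : Inv2 σ) (x : Pt σ → Y), UF σ ∧ (∀ a b, x (a * b) = x a * x b) ∧
    (∀ a, x a ∈ X (sr i)) ∧ (∀ u ∈ X (sr i), ∃ a, u = x a) ∧ (∀ a, x a = 1 → a = 1) ∧
    ∀ a, a ≠ 1 → (x (J a) * n i)⁻¹ * (n i * x a * n i) ∈ RGD.B cs h T X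

/-- **A node of unitary type is not in `J`.** -/
theorem UAt.not_mem [Finite W] {R : RGD cs h p T n X} {i : I} (hR : UAt R i) {n' : I → Y} {x d : MulAut Y}
    {φ : W ≃* W} {s : I → I} {J' : Set I} {g : Y} (H : NF cs h p T n' X x d φ s J' g) : i ∉ J' := by
  obtain ⟨F, _, σ, _, xx, h1, h2, h3, h4, h5, h6⟩ := hR
  intro hi
  exact UNodeEll.false_of_unode R i h1 xx h2 h3 h4 h5 h6 x H.xx (H.x_sr hi) (H.ell i hi)

end UAt

section Good

variable {F : Type} [Field F] {V : Type*} [AddCommGroup V] [Module F V] {H : HForm F V} {n : ℕ}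
  {Fr : Frame H (Fin n)} {K : Type*} [Group K] {M : Model Fr K} (hA : Amb Fr M.I)
  {p0 : Fr.Adm} (hp0 : p0.c ≠ 0) {W : Type*} [Group W]
  {cs : CoxeterSystem (CoxeterMatrix.B n) W} {p : ℕ} (R : RGD cs (isCartan n) p (T M) (nw M hA p0) (X M))

include hp0 in
/-- The last node: a unitary parametrisation of the admissible pairs. -/
theorem uAt_U {i : Fin n} (hi : ¬ (i : ℕ) + 1 < n) {E : Type} [Field E] {σ : E →+* E} [Inv2 σ] (hσ : UF σ)
    (f : Pt σ → Fr.Adm) (hf : ∀ a b, f (a * b) = f a * f b) (hs : Function.Surjective f)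
    (hc : ∀ a, (f a).c = 0 → a = 1)
    (hJw : ∀ a, a ≠ 1 → (H.ε⁻¹ * H.σ p0.c * (f a).c⁻¹) • (refl Fr p0 hp0 (f a)).w = (f (J a)).w)
    (hJc : ∀ a, a ≠ 1 → H.ε⁻¹ * (p0.c * H.σ p0.c) * (f a).c⁻¹ = (f (J a)).c) : UAt R i := by
  refine ⟨E, inferInstance, σ, inferInstance, fun a => M.Z (i, true) (f a), hσ, fun a b => ?_,
    fun a => (mem_X_last hi).2 ⟨_, rfl⟩, fun u hu => ?_, fun a ha => ?_, fun a ha => ?_⟩
  · show M.Z (i, true) (f (a * b)) = M.Z (i, true) (f a) * M.Z (i, true) (f b)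
    rw [hf, Z_mul']
  · obtain ⟨q, rfl⟩ := (mem_X_last hi).1 hu
    obtain ⟨a, rfl⟩ := hs q
    exact ⟨a, rfl⟩
  · have h1 := Z_eq_one M ha
    exact hc a (by rw [h1]; rfl)
  · have hca : (f a).c ≠ 0 := fun h => ha (hc a h)
    have h1 := inv_Z hA hp0 R hi hca
    have h3 : Jm Fr p0 hp0 (f a) = f (J a) := by
      apply Frame.Adm.ext
      · rw [Jm_w, hJw a ha]
      · rw [Jm_c Fr p0 hp0 _ hca, hJc a ha]
    rw [h3] at h1
    exact h1

end Good

section Unitary

variable {F : Type} [Field F] [Fintype F] {q N : ℕ} (hF : Fintype.card F = q ^ 2) {m : ℕ} {p : ℕ} [Fact p.Prime]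
  [CharP F p]

/-- **The last node of `PSU_N(q)`, `N = 2m + 1`, `q` odd, is of unitary type.** -/
theorem uAt_odd (hN : 3 ≤ N) (hp2 : Odd p) (W : WFrame (PU hF N) m) (d : Fin N → F)
    (hd : hermForm N F q d d = 1) (hW : W.V0 = Submodule.span F {d}) :
    ∃ (p0 : (toFrame W).Adm) (_ : p0.c ≠ 0),
      ∀ (R : RGD (CoxeterMatrix.B m).toCoxeterSystem (isCartan m) p (T (KInstU.model hF hN W))
        (nw (KInstU.model hF hN W) (amb_U hF W) p0) (X (KInstU.model hF hN W))) (i : Fin m),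
        ¬ (i : ℕ) + 1 < m → UAt R i := by
  have h2 := two_ne_zero_of_odd (F := F) hp2
  obtain ⟨a0, ha0, hn⟩ := exists_norm_eq_ne hF (c := (-2 : F)) (by
    rw [neg_pow_q hF, show (2 : F) = 1 + 1 by norm_num, add_pow_q hF, one_pow]) (neg_ne_zero.2 h2)
  let σ : F →+* F := ((conj hF : F ≃+* F) : F →+* F)
  have hσ : ∀ x, σ x = x ^ q := fun x => rfl
  have hI : U3Model.Inv2 σ := ⟨fun x => pow_q_pow_q hF x⟩
  have hd0 : d ∈ W.V0 := by rw [hW]; exact Submodule.mem_span_singleton_self d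
  let p0 : (toFrame W).Adm := ⟨a0 • d, 1, W.V0.smul_mem _ hd0, by
    rw [ok_iff, herm_smul_left, herm_smul_right, hd, mul_one, hn, one_pow]; ring⟩
  have hp0 : p0.c ≠ 0 := one_ne_zero
  refine ⟨p0, hp0, ?_⟩
  intro R i hi
  refine uAt_U (amb_U hF W) hp0 R hi (σ := σ) (UNode.uf_of_card hF (odd_q hF hp2) σ hσ)
    (fun x => ⟨x.a • d, x.b, W.V0.smul_mem _ hd0, ?_⟩) ?_ ?_ ?_ ?_ ?_
  · rw [ok_iff, herm_smul_left, herm_smul_right, hd, mul_one]
    have := x.h
    rw [hσ, hσ] at this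
    linear_combination this
  · intro x y
    apply Frame.Adm.ext
    · show (x.a + y.a) • d = x.a • d + y.a • d
      rw [add_smul]
    · show x.b + y.b - σ x.a * y.a = x.b + y.b - (1 : F)⁻¹ * hermForm N F q (y.a • d) (x.a • d)
      rw [herm_smul_left, herm_smul_right, hd, hσ, inv_one]
      ring
  · rintro ⟨w, c, hw, hok'⟩
    obtain ⟨a, rfl⟩ : ∃ a : F, a • d = w := by
      rw [hW] at hw
      exact Submodule.mem_span_singleton.1 hw
    rw [ok_iff, herm_smul_left, herm_smul_right, hd, mul_one] at hok'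
    exact ⟨⟨a, c, by rw [hσ, hσ]; linear_combination hok'⟩, rfl⟩
  · intro x hx
    by_contra hne
    exact U3Model.b_ne_zero hne hx
  · intro x hx
    have hb := U3Model.b_ne_zero hx
    show ((1 : F)⁻¹ * (1 : F) ^ q * x.b⁻¹) • (x.a • d + ((1 : F)⁻¹ * (1 : F)⁻¹ *
      hermForm N F q (x.a • d) (a0 • d)) • (a0 • d)) = (U3Model.J x).a • d
    rw [U3Model.J_a hx, herm_smul_left, herm_smul_right, hd, smul_smul, ← add_smul, smul_smul, one_pow]
    congr 1
    have h3 : x.a * (a0 ^ q * 1) * a0 = -2 * x.a := by linear_combination x.a * hn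
    field_simp
    linear_combination h3
  · intro x hx
    have hb := U3Model.b_ne_zero hx
    show (1 : F)⁻¹ * (1 * (1 : F) ^ q) * x.b⁻¹ = (U3Model.J x).b
    rw [U3Model.J_b hx, one_pow]
    field_simp

/-- **(b)** : in a normal form for `PSU_N(q)`, `N = 2m + 1`, `q` odd, the last node is not in `J`. -/
theorem last_not_mem (hN : 3 ≤ N) (hp2 : Odd p) (W : WFrame (PU hF N) m) (d : Fin N → F)
    (hd : hermForm N F q d d = 1) (hW : W.V0 = Submodule.span F {d}) {n' : Fin m → PSU N F q}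
    {x e : MulAut (PSU N F q)} {φ : (CoxeterMatrix.B m).Group ≃* (CoxeterMatrix.B m).Group} {s : Fin m → Fin m}
    {J' : Set (Fin m)} {g : PSU N F q}
    (H : NF (CoxeterMatrix.B m).toCoxeterSystem (isCartan m) p (T (KInstU.model hF hN W)) n'
      (X (KInstU.model hF hN W)) x e φ s J' g) (i : Fin m) (hi : ¬ (i : ℕ) + 1 < m) : i ∉ J' := by
  have hfin : Finite (CoxeterMatrix.B m).Group := finite_W (CoxeterMatrix.B m).toCoxeterSystem
  have hfin' : Finite (PSU N F q) := Quotient.finite _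
  obtain ⟨p0, hp0, h1⟩ := uAt_odd hF hN hp2 W d hd hW
  have R := Nodes.WittModel.rgd (KInstU.model hF hN W) (amb_U hF W) hp2 hp0 (CoxeterMatrix.B m).toCoxeterSystem
  exact (h1 R i hi).not_mem H

end Unitary

end Cfsg.Agent.H829.UNodeLast
end

-- part: H858/UFour
section
/-!
# `U₄(q)`, `q` odd: the short node is not in `J`

`zero_notMem` : for an involutory automorphism of `PSU₄(q)` in the normal form `NF` of the root group datum of the Witt
frame, with trivial action on the diagram, the short node `0` is not in `J`.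
-/

set_option autoImplicit false

namespace Cfsg.Agent.H858.UFour

open Cfsg Matrix
open Cfsg.Agent.LieClassical.HermBasic Cfsg.Agent.LieClassical.HermSiegel
open Cfsg.Agent.ChevalleyStructure.CoxeterGeom Cfsg.Agent.Tits.Roots Cfsg.Agent.Nodes.TypeC
open Cfsg.Agent.Nodes.Comb Cfsg.Agent.Nodes.Reps Cfsg.Agent.Nodes.WittRoot Cfsg.Agent.Nodes.BNOf
open Cfsg.Agent.Nodes.WittRGD Cfsg.Agent.Nodes.RGDLib Cfsg.Agent.Nodes.WittModel Cfsg.Agent.Nodes.KindBC
open Cfsg.Agent.TitsThree Cfsg.Agent.TitsThree.Siegel Cfsg.Agent.TitsThree.SiegelGen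
  Cfsg.Agent.TitsThree.WittFrame Cfsg.Agent.TitsThree.WBridge Cfsg.Agent.TitsThree.WittWeyl
  Cfsg.Agent.TitsThree.FrameCN Cfsg.Agent.TitsThree.KSideU Cfsg.Agent.TitsThree.KSideUDesc
open Cfsg.Agent.ClassicalGeometry.PSUAutCount (gm semiConj toAut eq_of_toAut_eq act_semiConj herm_semi gm_one)
open Cfsg.Agent.ClassicalGeometry.PSUAutBasic (transv)
open Cfsg.Agent.ClassicalGeometry.PSUAutSylow (RR mem_RR RR_eq_iff)
open Cfsg.Agent.ClassicalGeometry.PSUAutMain (toAut_pr' toAut_RR exists_toAut)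
open Cfsg.Agent.ClassicalGeometry.PSUAutExt (isSiegel_semi semiConj_siegel)
open Cfsg.Agent.Schreier.PSU (f₁ mapGU)
open Cfsg.Agent.UGT.U2.FOne Cfsg.Agent.UGT.U2.FOne.PSUSemi
open Cfsg.Agent.H286.TypeI

variable {F : Type*} [Field F] [Fintype F] {q N : ℕ}

/-! ### The equation `t ρ(t) = α / β` -/

omit [Field F] in
theorem odd_q' (hF : Fintype.card F = q ^ 2) (ho : Odd (Fintype.card F)) : Odd q := by
  rw [hF] at ho
  exact Nat.Odd.of_mul_left (by rwa [sq] at ho)

/-- an element of norm one is a square -/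
theorem isSquare_of_norm (hF : Fintype.card F = q ^ 2) (ho : Odd (Fintype.card F)) {c : F} (h : c * c ^ q = 1) :
    IsSquare c := by
  have hc0 : c ≠ 0 := by
    rintro rfl
    rw [zero_mul] at h
    exact zero_ne_one h
  have hch : ringChar F ≠ 2 := by
    intro h2
    have h3 := (FiniteField.even_card_iff_char_two (F := F)).1 h2
    rw [Nat.odd_iff] at ho
    omega
  rw [FiniteField.isSquare_iff hch hc0]
  obtain ⟨k, hk⟩ := odd_q' hF ho
  have h1 : Fintype.card F / 2 = (q + 1) * k := by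
    rw [hF, hk]
    have : (2 * k + 1) ^ 2 = 2 * ((2 * k + 1 + 1) * k) + 1 := by ring
    omega
  rw [h1, pow_mul, pow_succ, mul_comm (c ^ q) c, h, one_pow]

/-- **`t ρ(t) = α / β` is solvable** if `A ρ` interchanges the lines of `u` and `v` and has order two in `Aut PSU`. -/
theorem exists_t (hF : Fintype.card F = q ^ 2) (hn : 3 ≤ N) (ho : Odd (Fintype.card F)) {A : GU N F q} {ρ : F ≃+* F}
    (hx : toAut A ρ * toAut A ρ = 1) {u v : Fin N → F} {α β : F} (hα : α ≠ 0) (hβ : β ≠ 0) (hu : u ≠ 0)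
    (h1 : S A ρ u = α • v) (h2 : S A ρ v = β • u) : ∃ t : F, t ≠ 0 ∧ t * ρ t * β = α := by
  by_cases hρ : ρ = 1
  · subst hρ
    have e1 : toAut (1 : GU N F q) 1 = toAut (A * mapGU 1 A) (1 * 1) := by
      rw [← toAut_mul, hx]
      exact map_one f₁
    obtain ⟨-, c, hcq, hc⟩ := eq_of_toAut_eq hF hn e1
    have h3 : S A 1 (S A 1 u) = c • u := by
      rw [S_S, S_def, hc, gm_one, smul_mulVec, one_mulVec]
      rfl
    rw [h1, S_smul, h2, smul_smul, ← sub_eq_zero, ← sub_smul] at h3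
    have h4 : α * β = c := sub_eq_zero.1 ((smul_eq_zero.1 h3).resolve_right hu)
    obtain ⟨s, hs⟩ := isSquare_of_norm hF ho hcq
    have hs0 : s ≠ 0 := by
      rintro rfl
      rw [mul_zero] at hs
      rw [hs] at h4
      exact (mul_ne_zero hα hβ) h4
    refine ⟨s / β, div_ne_zero hs0 hβ, ?_⟩
    show s / β * (s / β) * β = α
    field_simp
    rw [sq, ← hs, ← h4, mul_comm]
  · obtain ⟨hρ', c, hS⟩ := data hF hn hρ hx
    have hc := hS.sq u
    rw [h1, hS.smul, h2, smul_smul, ← sub_eq_zero, ← sub_smul] at hc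
    have h4 : α ^ q * β = c := sub_eq_zero.1 ((smul_eq_zero.1 hc).resolve_right hu)
    have h5 : c ^ q = c := hS.c_pow hF hu
    have h6 : α * β ^ q = c := by
      rw [← h5, ← h4, mul_pow, pow_q_pow_q hF]
    have hc0 := hS.c_ne
    have hβq : β ^ q ≠ 0 := pow_ne_zero _ hβ
    obtain ⟨t, ht0, ht⟩ := exists_norm_eq_ne hF (c := c / (β * β ^ q)) (by
      rw [div_pow, h5, mul_pow, pow_q_pow_q hF, mul_comm (β ^ q)]) (div_ne_zero hc0 (mul_ne_zero hβ hβq))
    refine ⟨t, ht0, ?_⟩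
    have e : ρ t = t ^ q := by rw [hρ']; rfl
    rw [e, ht, ← h6]
    field_simp

/-! ### The root groups -/

theorem toPSU_sie (hF : Fintype.card F = q ^ 2) {u w : Fin N → F} {c : F} (huu : (HU hF N).h u u = 0)
    (huw : (HU hF N).h u w = 0) (hok : (PU hF N).ok w c) (hm : (HU hF N).sie u w c huu huw ∈ IU F q N) :
    toPSU F q N ⟨_, hm⟩ = ClassicalGeometry.PSUAutBasic.pr N F q (siegel hF u w c (isSiegel_of hF huu huw hok)) := by
  have h1 : ofRange F q N ⟨_, hm⟩ = siegel hF u w c (isSiegel_of hF huu huw hok) := by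
    apply toLin_injective
    rw [toLin_ofRange, toLin_siegel hF _ huu huw]
  show ClassicalGeometry.PSUAutBasic.pr N F q (ofRange F q N ⟨_, hm⟩) = _
  rw [h1]

variable {hF : Fintype.card F = q ^ 2} {hN : 3 ≤ N} {m : ℕ} {W : WFrame (PU hF N) m}

theorem b_iso (a : Fin m × Bool) : hermForm N F q ((toFrame W).b a) ((toFrame W).b a) = 0 := (toFrame W).hb_self a

theorem X_rt_self (hW : W.V0 = ⊥) (a : Fin m × Bool) :
    X (KInstU.model hF hN W) (rt a a) = RR hF ((toFrame W).b a) (b_iso a) := by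
  ext k
  rw [mem_X, mem_RR]
  constructor
  · rintro ⟨g, hg, hgr, rfl⟩
    rw [rg_eq (toFrame W) (Or.inr rfl) (ee_rt a a), PG_self] at hgr
    obtain ⟨⟨w, c, hw, hok⟩, rfl⟩ := hgr
    have hw0 : w = 0 := by
      rw [hW] at hw
      exact (Submodule.mem_bot F).1 hw
    subst hw0
    have hμ : c + c ^ q = 0 := by
      rw [ok_iff, herm_zero_left, neg_zero] at hok
      exact hok
    exact ⟨c, hμ, toPSU_sie hF _ _ hok hg⟩
  · rintro ⟨μ, hμ, rfl⟩
    have hok : (PU hF N).ok 0 μ := by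
      rw [ok_iff, herm_zero_left, neg_zero]
      exact hμ
    refine ⟨(toFrame W).Z a ⟨0, μ, W.V0.zero_mem, hok⟩, Z_mem hF W a _, ?_, ?_⟩
    · rw [rg_eq (toFrame W) (Or.inr rfl) (ee_rt a a), PG_self]
      exact ⟨_, rfl⟩
    · exact (toPSU_sie hF _ _ hok _).symm

theorem mem_X_rt {a b : Fin m × Bool} (hab : a.1 ≠ b.1) {k : PSU N F q} :
    k ∈ X (KInstU.model hF hN W) (rt a b) ↔ ∃ t : F, k = Xb hF W a b t := by
  rw [mem_X]
  constructor
  · rintro ⟨g, hg, hgr, rfl⟩
    rw [rg_eq (toFrame W) (Or.inl hab) (ee_rt a b), PG_ne _ hab] at hgr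
    obtain ⟨t, rfl⟩ := hgr
    exact ⟨t, rfl⟩
  · rintro ⟨t, rfl⟩
    refine ⟨(toFrame W).X a b t, X_mem hF W a b t, ?_, rfl⟩
    rw [rg_eq (toFrame W) (Or.inl hab) (ee_rt a b), PG_ne _ hab]
    exact ⟨t, rfl⟩

theorem Xb_mul (a b : Fin m × Bool) (s t : F) : Xb hF W a b (s + t) = Xb hF W a b s * Xb hF W a b t := by
  unfold Xb
  rw [← map_mul]
  congr 1
  exact Subtype.ext ((toFrame W).X_add a b s t)

theorem Xb_neg (a b : Fin m × Bool) (t : F) : Xb hF W a b (-t) = (Xb hF W a b t)⁻¹ := by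
  unfold Xb
  rw [← map_inv]
  congr 1
  exact Subtype.ext ((toFrame W).X_neg a b t)

theorem nX_rel {a b : Fin m × Bool} (hab : a.1 ≠ b.1) {t : F} (ht : t ≠ 0) (s : F) :
    (Xb hF W a b t * Xb hF W (WittFrame.neg b) (WittFrame.neg a) (-t⁻¹) * Xb hF W a b t) * Xb hF W a b s *
      (Xb hF W a b t * Xb hF W (WittFrame.neg b) (WittFrame.neg a) (-t⁻¹) * Xb hF W a b t)⁻¹ =
      Xb hF W (WittFrame.neg b) (WittFrame.neg a) (-(t⁻¹ ^ 2 * s)) := by
  unfold Xb
  simp only [← map_mul, ← map_inv]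
  congr 1
  exact Subtype.ext (nX_conj_X (toFrame W) hab ht s)

/-- **The relation in `SL₂`.** -/
theorem cj_rel {a b : Fin m × Bool} (hab : a.1 ≠ b.1) {t : F} (ht : t ≠ 0) :
    cj (Xb hF W a b t) (X (KInstU.model hF hN W) (rt (WittFrame.neg b) (WittFrame.neg a))) =
      cj (Xb hF W (WittFrame.neg b) (WittFrame.neg a) t⁻¹) (X (KInstU.model hF hN W) (rt a b)) := by
  have hba : (WittFrame.neg b).1 ≠ (WittFrame.neg a).1 := hab.symm
  set k := Xb hF W a b t with hk
  set v := Xb hF W (WittFrame.neg b) (WittFrame.neg a) t⁻¹ with hv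
  have e1 : Xb hF W a b (-t) = k⁻¹ := Xb_neg a b t
  have e2 : Xb hF W (WittFrame.neg b) (WittFrame.neg a) (-(-t)⁻¹) = v := by
    rw [hv]
    congr 1
    rw [inv_neg, _root_.neg_neg]
  have key : ∀ s, (k⁻¹ * v * k⁻¹) * Xb hF W a b s * (k⁻¹ * v * k⁻¹)⁻¹ =
      Xb hF W (WittFrame.neg b) (WittFrame.neg a) (-((-t)⁻¹ ^ 2 * s)) := by
    intro s
    have h1 := nX_rel (hF := hF) (W := W) hab (neg_ne_zero.2 ht) s
    rwa [e1, e2] at h1
  have h1 : cj (k⁻¹ * v * k⁻¹) (X (KInstU.model hF hN W) (rt a b)) =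
      X (KInstU.model hF hN W) (rt (WittFrame.neg b) (WittFrame.neg a)) := by
    ext y
    rw [mem_cj, mem_X_rt hab, mem_X_rt hba]
    constructor
    · rintro ⟨s, hs⟩
      refine ⟨-((-t)⁻¹ ^ 2 * s), ?_⟩
      rw [← key s, ← hs]
      group
    · rintro ⟨s, rfl⟩
      refine ⟨-((-t) ^ 2 * s), ?_⟩
      have h2 := key (-((-t) ^ 2 * s))
      have h3 : -((-t)⁻¹ ^ 2 * -((-t) ^ 2 * s)) = s := by
        field_simp
      rw [h3] at h2
      rw [← h2]
      group
  have h2 : cj k⁻¹ (X (KInstU.model hF hN W) (rt a b)) = X (KInstU.model hF hN W) (rt a b) := by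
    apply cj_eq_of_mem
    exact Subgroup.inv_mem _ ((mem_X_rt hab).2 ⟨t, rfl⟩)
  rw [cj_mul, h2, cj_mul] at h1
  rw [← h1, ← cj_mul, mul_inv_cancel, cj_one]

/-! ### The automorphism -/

theorem mem_RR_iff_map {A : GU N F q} {ρ : F ≃+* F} {u v : Fin N → F} (hu : hermForm N F q u u = 0)
    (hv : hermForm N F q v v = 0) (hu0 : u ≠ 0) (hv0 : v ≠ 0)
    (h : (RR hF u hu).map (toAut A ρ).toMonoidHom = RR hF v hv) (hN : 3 ≤ N) :
    ∃ c : F, c ≠ 0 ∧ S A ρ u = c • v := by
  have hSu : hermForm N F q (S A ρ u) (S A ρ u) = 0 := by rw [S_herm, hu, map_zero]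
  have h1 : RR hF v hv = RR hF (S A ρ u) hSu := by
    rw [← h]
    ext y
    constructor
    · rintro ⟨z, hz, rfl⟩
      exact (toAut_RR hF A ρ hu hSu rfl z).1 hz
    · intro hy
      obtain ⟨z, rfl⟩ := (toAut A ρ).surjective y
      exact ⟨z, (toAut_RR hF A ρ hu hSu rfl z).2 hy, rfl⟩
  exact (RR_eq_iff hF hN hv0 (S_ne_zero A ρ hu0) hv hSu).1 h1

theorem siegel_of_Xb {a b : Fin m × Bool} (hab : a.1 ≠ b.1) (t : F)
    (hs : IsSiegel q ((toFrame W).b a) ((toFrame W).sc b t • (toFrame W).b b) 0) :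
    Xb hF W a b t = ClassicalGeometry.PSUAutBasic.pr N F q (siegel hF _ _ 0 hs) := by
  have hm := X_mem hF W a b t
  have e : (toFrame W).X a b t = (HU hF N).sie ((toFrame W).b a) ((toFrame W).sc b t • (toFrame W).b b) 0
    ((toFrame W).hb_self a) ((toFrame W).h_smul_b hab _) := (toFrame W).X_eq hab t
  have h1 : Xb hF W a b t = toPSU F q N ⟨_, e ▸ hm⟩ := by
    unfold Xb
    congr 1
    exact Subtype.ext e
  rw [h1]
  exact toPSU_sie hF _ _ ((PU hF N).sing_smul (b_sing W b) _) _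

theorem b_ne (a : Fin m × Bool) : (toFrame W).b a ≠ 0 := by
  intro h
  have h1 := (toFrame W).hb_self_neg a
  rw [h, (HU hF N).zero_left] at h1
  exact (toFrame W).η_ne _ h1.symm

theorem eta (a : Fin m × Bool) : (toFrame W).η a = 1 := by
  unfold Frame.η
  split_ifs
  · rfl
  · rfl

theorem sc_eq (b : Fin m × Bool) (t : F) : (toFrame W).sc b t = -(t ^ q) := by
  unfold Frame.sc
  rw [eta, HU_ε, inv_one, one_mul, one_mul]
  rfl

/-- the image of a root element -/
theorem map_Xb {A : GU N F q} {ρ : F ≃+* F} {a b a' b' : Fin m × Bool} (hab : a.1 ≠ b.1) (hab' : a'.1 ≠ b'.1)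
    {α β : F} (h1 : S A ρ ((toFrame W).b a) = α • (toFrame W).b a') (h2 : S A ρ ((toFrame W).b b) = β • (toFrame W).b b')
    (t : F) : toAut A ρ (Xb hF W a b t) = Xb hF W a' b' (ρ t * α * β ^ q) := by
  have hs : IsSiegel q ((toFrame W).b a) ((toFrame W).sc b t • (toFrame W).b b) 0 :=
    isSiegel_of hF ((toFrame W).hb_self a) ((toFrame W).h_smul_b hab _) ((PU hF N).sing_smul (b_sing W b) _)
  have hs' : IsSiegel q ((toFrame W).b a') ((toFrame W).sc b' (ρ t * α * β ^ q) • (toFrame W).b b') 0 :=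
    isSiegel_of hF ((toFrame W).hb_self a') ((toFrame W).h_smul_b hab' _) ((PU hF N).sing_smul (b_sing W b') _)
  rw [siegel_of_Xb hab t hs, siegel_of_Xb hab' _ hs', toAut_pr', semiConj_siegel]
  congr 1
  apply ext_act
  intro v
  rw [act_siegel, act_siegel]
  have e1 : (gm A *ᵥ fun i => ρ ((toFrame W).b a i)) = α • (toFrame W).b a' := h1
  have e2 : (gm A *ᵥ fun i => ρ (((toFrame W).sc b t • (toFrame W).b b) i)) =
      (ρ (-(t ^ q)) * β) • (toFrame W).b b' := by
    have := S_smul A ρ ((toFrame W).sc b t) ((toFrame W).b b)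
    rw [h2, sc_eq, smul_smul, ← sc_eq (W := W) b t] at this
    rw [← sc_eq (W := W) b t]
    exact this
  rw [e1, e2, sc_eq]
  simp only [herm_smul_right, map_zero, zero_mul, zero_sub, map_neg, map_pow]
  have e3 : (ρ t * α * β ^ q) ^ q = ρ t ^ q * α ^ q * β := by
    rw [mul_pow, mul_pow, pow_q_pow_q hF]
  rw [e3]
  have e4 : (-(ρ t ^ q) * β) ^ q = -(ρ t * β ^ q) := by
    rw [neg_mul, neg_pow_q hF, mul_pow, pow_q_pow_q hF]
  have e5 : (-(ρ t ^ q * α ^ q * β)) ^ q = -(ρ t * α * β ^ q) := by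
    rw [neg_pow_q hF, mul_pow, mul_pow, pow_q_pow_q hF, pow_q_pow_q hF]
  rw [e4, e5]
  funext i
  simp only [Pi.add_apply, Pi.smul_apply, smul_eq_mul]
  ring

theorem map_cj' {G : Type*} [Group G] (x : MulAut G) (g : G) (B : Subgroup G) :
    (cj g B).map x.toMonoidHom = cj (x g) (B.map x.toMonoidHom) := by
  ext y
  rw [mem_cj]
  constructor
  · rintro ⟨z, hz, rfl⟩
    have hz' : g⁻¹ * z * g ∈ B := mem_cj.1 hz
    refine ⟨g⁻¹ * z * g, hz', ?_⟩
    show x (g⁻¹ * z * g) = (x g)⁻¹ * x z * x g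
    rw [map_mul, map_mul, map_inv]
  · rintro ⟨z, hz, hzy⟩
    refine ⟨g * z * g⁻¹, ?_, ?_⟩
    · show _ ∈ cj g B
      rw [mem_cj]
      have : g⁻¹ * (g * z * g⁻¹) * g = z := by group
      rw [this]
      exact hz
    · show x (g * z * g⁻¹) = y
      have hzy' : x z = (x g)⁻¹ * y * x g := hzy
      rw [map_mul, map_mul, map_inv, hzy']
      group

section Main

variable {W : WFrame (PU hF N) 2} {W' : Type*} [Group W'] [Finite W'] {cs : CoxeterSystem (CoxeterMatrix.B 2) W'}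

/-- **The short node of `U₄(q)` is not in `J`.** -/
theorem zero_notMem (ho : Odd (Fintype.card F)) (hW : W.V0 = ⊥) {p : ℕ} {Tt : Subgroup (PSU N F q)}
    {nn : Fin 2 → PSU N F q} {x d : MulAut (PSU N F q)} {φ : W' ≃* W'} {σ : Fin 2 → Fin 2} {J : Set (Fin 2)}
    {g : PSU N F q} (Nf : NF cs (isCartan 2) p Tt nn (X (KInstU.model hF hN W)) x d φ σ J g)
    (hσ : ∀ i, σ i = i) : (0 : Fin 2) ∉ J := by
  intro h0
  have : Fintype W' := Fintype.ofFinite W'
  have H := Nf.nx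
  have h1 : (1 : Fin 2) ∉ J := J_sep H h0 rfl
  have hJ : ∀ k ∈ J, k = 0 := by
    intro k hk
    fin_cases k
    · rfl
    · exact absurd hk h1
  have hmap : ∀ a b : Fin 2 × Bool, Ok a b → (X (KInstU.model hF hN W) (rt a b)).map x.toMonoidHom =
      X (KInstU.model hF hN W) (rt (sg 0 a) (sg 0 b)) := by
    intro a b hab
    rw [map_root H hσ (isRoot_rt cs hab), wJ_rt_one H h0 fun k hk hk0 => absurd (hJ k hk) hk0]
  have s0 : ∀ s, sg (0 : Fin 2) (0, s) = (1, s) := fun s => sg_up (i := (0 : Fin 2)) (by norm_num) s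
  have s1 : ∀ s, sg (0 : Fin 2) (1, s) = (0, s) := fun s => sg_down (i := (0 : Fin 2)) (by norm_num) s
  have hq : Odd q := odd_q' hF ho
  obtain ⟨A, ρ, rfl⟩ := exists_toAut hF hN (fun h => by rw [h.2] at hq; exact absurd hq (by decide)) x
  have hxx : toAut A ρ * toAut A ρ = 1 := by
    ext k
    exact Nf.xx k
  have hS : ∀ a, ∃ c : F, c ≠ 0 ∧ S A ρ ((toFrame W).b a) = c • (toFrame W).b (sg 0 a) := by
    intro a
    refine mem_RR_iff_map (hF := hF) (b_iso a) (b_iso _) (b_ne a) (b_ne _) ?_ hN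
    have := hmap a a (Or.inr rfl)
    rw [X_rt_self hW, X_rt_self hW] at this
    exact this
  obtain ⟨α, hα, e0⟩ := hS (0, true)
  obtain ⟨β, hβ, e1⟩ := hS (1, true)
  obtain ⟨α', hα', f0⟩ := hS (0, false)
  rw [s0] at e0 f0
  rw [s1] at e1
  -- the form
  have hn : α * α' ^ q = 1 := by
    have h2 := S_herm A ρ ((toFrame W).b (0, true)) ((toFrame W).b (0, false))
    have h3 : hermForm N F q ((toFrame W).b (0, true)) ((toFrame W).b (0, false)) = 1 := (toFrame W).hb _ _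
    have h4 : hermForm N F q ((toFrame W).b (1, true)) ((toFrame W).b (1, false)) = 1 := (toFrame W).hb _ _
    rw [e0, f0, herm_smul_left, herm_smul_right, h3, h4, map_one, mul_one] at h2
    exact h2
  obtain ⟨t, ht0, ht⟩ := exists_t hF hN ho hxx hα hβ (b_ne (W := W) (0, true)) e0 e1
  have hne : ((1, true) : Fin 2 × Bool).1 ≠ ((0, false) : Fin 2 × Bool).1 := by decide
  have hne' : ((0, true) : Fin 2 × Bool).1 ≠ ((1, false) : Fin 2 × Bool).1 := by decide
  have hk : toAut A ρ (Xb hF W (1, true) (0, false) t) = Xb hF W (0, true) (1, false) t⁻¹ := by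
    rw [map_Xb hne hne' e1 f0]
    congr 1
    refine eq_inv_of_mul_eq_one_left ?_
    calc ρ t * β * α' ^ q * t = (t * ρ t * β) * α' ^ q := by ring
      _ = 1 := by rw [ht, hn]
  -- the simple roots
  have hnx : nx (0 : Fin 2) = (1, false) := by
    unfold nx
    rw [dif_pos (by norm_num)]
    rfl
  have r0 : sr (0 : Fin 2) = rt (0, true) (1, false) := by rw [sr_eq_rt, hnx]
  have r1 : -sr (0 : Fin 2) = rt (1, true) (0, false) := by
    rw [r0, ← rt_ng, rt_comm]
    rfl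
  have hmem : Xb hF W (1, true) (0, false) t ∈ X (KInstU.model hF hN W) (-sr 0) := by
    rw [r1]
    exact (mem_X_rt hne).2 ⟨t, rfl⟩
  refine Nf.ell 0 h0 (Xb hF W (1, true) (0, false) t) ((le_sup_right : _ ≤ RA _ _) hmem) ?_
  have h5 := hmap (0, true) (1, false) (Or.inl hne')
  rw [s0, s1] at h5
  rw [map_cj', hk, r0, h5]
  have h6 := cj_rel (hF := hF) (hN := hN) (W := W) hne ht0
  exact h6.symm

end Main

end Cfsg.Agent.H858.UFour
end

-- part: H783/RowSpU
section
/-!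
# `Row` for `PSp_2m(q)`, `m ≥ 2`, and `PSU_n(q)`, `n = 3`, `n ≥ 5`, `q` odd (task 1417)
-/

set_option autoImplicit false
set_option linter.unusedSectionVars false

namespace Cfsg.Agent.H783.RowSpU

open Cfsg Cfsg.Agent.LieClassical.HermBasic Cfsg.Agent.LieClassical.HermGen
open Cfsg.Agent.ChevalleyStructure.CoxeterGeom Cfsg.Agent.Tits.Roots Cfsg.Agent.Nodes.TypeC
open Cfsg.Agent.Nodes.Comb Cfsg.Agent.Nodes.Reps Cfsg.Agent.Nodes.WittRoot Cfsg.Agent.Nodes.BNOf
open Cfsg.Agent.Nodes.WittRGD Cfsg.Agent.Nodes.RGDLib Cfsg.Agent.Nodes.WittModel Cfsg.Agent.Nodes.WittU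
open Cfsg.Agent.TitsThree Cfsg.Agent.TitsThree.Siegel Cfsg.Agent.TitsThree.SiegelGen
  Cfsg.Agent.TitsThree.WittFrame Cfsg.Agent.TitsThree.WBridge Cfsg.Agent.TitsThree.WittWeyl
  Cfsg.Agent.TitsThree.FrameCN Cfsg.Agent.TitsThree.KSideU Cfsg.Agent.TitsThree.KSideUDesc
open Cfsg.Agent.FixBN.WittNodeA Cfsg.Agent.FixBN.WittNodeB
open Cfsg.Agent.Nodes.ClsWitt Cfsg.Agent.Nodes.Chart
open Cfsg.Agent.UGT.U2.FOne Cfsg.Agent.H286.Obs Cfsg.Agent.H286.Row Cfsg.Agent.H286.RowOf Cfsg.Agent.H286.TypeI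

section Model

variable {F : Type*} [Field F] {V : Type*} [AddCommGroup V] [Module F V] {H : HForm F V} {n : ℕ}
  {Fr : Frame H (Fin n)} {K : Type*} [Group K] (M : Model Fr K)

theorem mem_X_long {x : Fin n → ℤ} {a : Fin n × Bool} (e : ee x = wt a + wt a) {k : K} :
    k ∈ X M x ↔ ∃ s : Fr.Adm, k = M.Z a s := by
  rw [mem_X]
  constructor
  · rintro ⟨g, hg, hgr, rfl⟩
    rw [rg_eq Fr (Or.inr rfl) e, PG_self] at hgr
    obtain ⟨s, rfl⟩ := hgr
    exact ⟨s, rfl⟩
  · rintro ⟨s, rfl⟩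
    refine ⟨Fr.Z a s, M.hZ a s, ?_, rfl⟩
    rw [rg_eq Fr (Or.inr rfl) e, PG_self]
    exact ⟨s, rfl⟩

theorem mem_ZM {x : Fin n → ℤ} {a : Fin n × Bool} (e : ee x = wt a + wt a) {k : K} :
    k ∈ ZM M x ↔ ∃ s : Fr.Adm, s.w = 0 ∧ k = M.Z a s := by
  unfold ZM
  rw [ZV_eq Fr e]
  constructor
  · rintro ⟨⟨g, hg⟩, h, rfl⟩
    obtain ⟨s, hs, h'⟩ := Subgroup.mem_subgroupOf.1 h
    have h'' : g = Fr.Z a s := h'
    subst h''
    exact ⟨s, hs, rfl⟩
  · rintro ⟨s, hs, rfl⟩
    exact Subgroup.mem_map_of_mem _ (Subgroup.mem_subgroupOf.2 ⟨s, hs, rfl⟩)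

theorem Z_inj {a : Fin n × Bool} {s t : Fr.Adm} (h : M.Z a s = M.Z a t) : s = t := by
  have h1 : M.Z a (s⁻¹ * t) = 1 := by
    have h2 : M.Z a s * M.Z a (s⁻¹ * t) = M.Z a s * 1 := by
      rw [← Z_mul', mul_inv_cancel_left, mul_one, h]
    exact mul_left_cancel h2
  have h3 := Z_eq_one M h1
  rwa [inv_mul_eq_one] at h3

/-- the long root groups of a model with `w = 0` always -/
theorem hZ_of_zero (h0 : ∀ s : Fr.Adm, s.w = 0) : ∀ r ∈ LR n, ∀ v ∈ X M r, (∀ u ∈ X M r, u * v = v * u) → v ∈ ZM M r := by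
  rintro r ⟨a, e⟩ v hv -
  obtain ⟨s, rfl⟩ := (mem_X_long M e).1 hv
  exact (mem_ZM M e).2 ⟨s, h0 s, rfl⟩

/-- the centres of the long root groups of a unitary model -/
theorem hZ_of_sigma {l : F} (hl : H.σ l ≠ l) (h0 : ∀ s : Fr.Adm, H.h s.w s.w = 0 → s.w = 0) :
    ∀ r ∈ LR n, ∀ v ∈ X M r, (∀ u ∈ X M r, u * v = v * u) → v ∈ ZM M r := by
  rintro r ⟨a, e⟩ v hv hc
  obtain ⟨s, rfl⟩ := (mem_X_long M e).1 hv
  refine (mem_ZM M e).2 ⟨s, h0 s ?_, rfl⟩
  have h1 := hc _ ((mem_X_long M e).2 ⟨Frame.Adm.smul l s, rfl⟩)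
  rw [← Z_mul', ← Z_mul'] at h1
  have h2 := congrArg Frame.Adm.c (Z_inj M h1)
  rw [Frame.Adm.mul_c, Frame.Adm.mul_c, Frame.Adm.smul_w, Frame.Adm.smul_c, H.smul_left, H.smul_right] at h2
  have hε := inv_ne_zero H.ε_ne
  have h3 : (H.σ l - l) * H.h s.w s.w = 0 := by
    apply mul_left_cancel₀ hε
    linear_combination -h2
  exact (mul_eq_zero.1 h3).resolve_left (sub_ne_zero.2 hl)

end Model

/-- `q` odd -/
theorem ne_two {F : Type*} [Field F] [Fintype F] {p : ℕ} [Fact p.Prime] [CharP F p] (ho : Odd (Fintype.card F)) : p ≠ 2 := by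
  rintro rfl
  obtain ⟨k, -, hk⟩ := FiniteField.card F 2
  rw [hk] at ho
  exact absurd ho (Nat.not_odd_iff_even.2 ((Nat.even_pow.2 ⟨even_two, k.ne_zero⟩)))

/-- **`PSp_2m(q)`**, `m ≥ 3`. -/
theorem psp_three {F : Type} [Field F] [Fintype F] {p : ℕ} [Fact p.Prime] [CharP F p] (ho : Odd (Fintype.card F)) {m : ℕ}
    (hm : 3 ≤ m) : Row p (PSp m F) := by
  have hp2 : p ≠ 2 := ne_two ho
  have hpo : Odd p := (Fact.out : p.Prime).odd_of_ne_two hp2
  have hfin : Finite (CoxeterMatrix.B m).Group := finite_W (CoxeterMatrix.B m).toCoxeterSystem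
  have : Fintype (CoxeterMatrix.B m).Group := Fintype.ofFinite _
  have hs : IsSimpleGroup (PSp m F) := S0270.result m (by omega) (by omega)
  have : Finite (PSp m F) := Quotient.finite _
  have C := cls_model (KInstSp.model m F) amb_Sp (p0 := SpIdent.adm 1) one_ne_zero rfl hpo
    (CoxeterMatrix.B m).toCoxeterSystem
  refine row_of_obs hp2 C.rgd (Nodes.WittModel.G1_eq_top (KInstSp.model m F) (by omega) _) fun x φ σ J g Nf => ?_
  refine typeI C Nf.nx (hZ_of_zero (KInstSp.model m F) fun s => ?_) (Fact.out) hp2 hm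
  rw [SpIdent.eq_adm s]
  rfl

/-- **Row of `PSp_2m(q)`**, `q` odd, `m ≥ 2`. -/
theorem row_psp (F : Type) [Field F] [Fintype F] (p : ℕ) [Fact p.Prime] [CharP F p] (ho : Odd (Fintype.card F)) {m : ℕ}
    (hm : 2 ≤ m) : Row p (PSp m F) := by
  rcases Nat.lt_or_ge 2 m with h | h
  · exact psp_three ho h
  · obtain rfl : m = 2 := by omega
    exact Row.of_rank (Cfsg.Agent.H300.RankSp4.rank_psp ho)

section Unitary

variable {F : Type} [Field F] [Fintype F] {q N : ℕ} (hF : Fintype.card F = q ^ 2) (hN : 3 ≤ N) {m : ℕ}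

include hF in
theorem hZ_U (W : WFrame (PU hF N) m) : ∀ r ∈ LR m, ∀ v ∈ X (KInstU.model hF hN W) r,
    (∀ u ∈ X (KInstU.model hF hN W) r, u * v = v * u) → v ∈ ZM (KInstU.model hF hN W) r := by
  obtain ⟨l, hl⟩ := exists_not_fixed hF
  refine hZ_of_sigma (KInstU.model hF hN W) (l := l) hl fun s hs => ?_
  exact W.aniso s.w s.ok.1 ((sing_iff hF).2 hs)

include hF in
theorem odd_card (hq : Odd q) : Odd (Fintype.card F) := by
  rw [hF]
  exact hq.pow

include hF in
theorem simple_U (hN : 3 ≤ N) (hq : Odd q) : IsSimpleGroup (PSU N F q) := by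
  have h32 : ¬ (N = 3 ∧ q = 2) := by
    rintro ⟨-, rfl⟩
    exact absurd hq (by decide)
  exact LieClassical.HermSimple.isSimpleGroup_of_perfect hF hN (LieClassical.HermPerfect.commutator_SU_eq_top hF hN h32)

include hF in
/-- **`PSU_n(q)`**, `n ≥ 6`. -/
theorem psu_six {p : ℕ} [Fact p.Prime] [CharP F p] (hq : Odd q) (hN : 6 ≤ N) : Row p (PSU N F q) := by
  have ho := odd_card hF hq
  have hp2 : p ≠ 2 := ne_two ho
  have hpo : Odd p := (Fact.out : p.Prime).odd_of_ne_two hp2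
  have hN3 : 3 ≤ N := by omega
  obtain ⟨m, hm⟩ : ∃ m, N = 2 * m ∨ N = 2 * m + 1 := ⟨N / 2, by omega⟩
  have hm3 : 3 ≤ m := by omega
  have hfin : Finite (CoxeterMatrix.B m).Group := finite_W (CoxeterMatrix.B m).toCoxeterSystem
  have : Fintype (CoxeterMatrix.B m).Group := Fintype.ofFinite _
  have hs := simple_U hF hN3 hq
  have : Finite (PSU N F q) := Quotient.finite _
  obtain ⟨W, -⟩ := exists_wframe hF hm
  obtain ⟨p0, hp0, hw0⟩ := exists_adm hF W
  have C := cls_model (KInstU.model hF hN3 W) (amb_U hF W) hp0 hw0 hpo (CoxeterMatrix.B m).toCoxeterSystem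
  refine row_of_obs hp2 C.rgd (Nodes.WittModel.G1_eq_top (KInstU.model hF hN3 W) (by omega) _) fun x φ σ J g Nf => ?_
  exact typeI C Nf.nx (hZ_U hF hN3 W) (Fact.out) hp2 hm3

include hF in
/-- **`PSU_5(q)`**. -/
theorem psu_five {p : ℕ} [Fact p.Prime] [CharP F p] (hq : Odd q) : Row p (PSU 5 F q) := by
  have ho := odd_card hF hq
  have hp2 : p ≠ 2 := ne_two ho
  have hpo : Odd p := (Fact.out : p.Prime).odd_of_ne_two hp2
  have hN3 : 3 ≤ 5 := by omega
  have hfin : Finite (CoxeterMatrix.B 2).Group := finite_W (CoxeterMatrix.B 2).toCoxeterSystem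
  have : Fintype (CoxeterMatrix.B 2).Group := Fintype.ofFinite _
  have hs := simple_U hF hN3 hq
  have : Finite (PSU 5 F q) := Quotient.finite _
  obtain ⟨W, d, hd, hW⟩ := exists_wframe_odd (N := 5) (m := 2) hF rfl
  obtain ⟨p0, hp0, hw0⟩ := exists_adm hF W
  have C := cls_model (KInstU.model hF hN3 W) (amb_U hF W) hp0 hw0 hpo (CoxeterMatrix.B 2).toCoxeterSystem
  refine row_of_obs hp2 C.rgd (Nodes.WittModel.G1_eq_top (KInstU.model hF hN3 W) (by omega) _) fun x φ σ J g Nf => ?_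
  refine typeI_two C Nf.nx (hZ_U hF hN3 W) (Fact.out) hp2 ?_ ?_
  · -- non-abelian root groups
    rintro r ⟨a, e⟩
    have hd0 : d ∈ W.V0 := by rw [hW]; exact Submodule.mem_span_singleton_self d
    obtain ⟨c, hc⟩ := exists_trace_eq hF (c := (-1 : F)) (by rw [neg_pow_q hF, one_pow])
    let s : (toFrame W).Adm := ⟨d, c, hd0, by rw [ok_iff, hd]; exact hc⟩
    refine ⟨_, (mem_X_long (KInstU.model hF hN3 W) e).2 ⟨s, rfl⟩, fun h => ?_⟩
    obtain ⟨t, ht, h'⟩ := (mem_ZM (KInstU.model hF hN3 W) e).1 h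
    have hst := Z_inj _ h'
    have hd1 : d = 0 := by
      rw [← hst] at ht
      exact ht
    rw [hd1, herm_zero_left] at hd
    exact zero_ne_one hd
  · exact H829.UNodeLast.last_not_mem hF hN3 hpo W d hd hW Nf 1 (by norm_num)

include hF in
/-- **Row of `PSU_n(q)`**, `q` odd, `n = 3` or `n ≥ 5`. -/
theorem row_psu (p : ℕ) [Fact p.Prime] [CharP F p] (hq : Odd q) (hn : N = 3 ∨ 5 ≤ N) : Row p (PSU N F q) := by
  rcases hn with rfl | hn
  · exact Row.of_rank (Cfsg.Agent.H815.RankL3.rank_psu_three hF hq)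
  · rcases Nat.lt_or_ge 5 N with h | h
    · exact psu_six hF hq h
    · obtain rfl : N = 5 := by omega
      exact psu_five hF hq

end Unitary

end Cfsg.Agent.H783.RowSpU
end

private theorem dce_a8f073f3b632 : _root_.True := by
  try have : _root_.True := by simp only [_root_.Cfsg.Agent.TitsThree.KSideU.HU.congr_simp]
  exact _root_.True.intro
end
end
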