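import Cfsg.Agent.H396.CommTab4
import Cfsg.Agent.H732.StInv
import Cfsg.Agent.H934.RowTwD4
import Cfsg.Agent.FixBN.WittNodeD_m3
import Cfsg.Agent.H568.OwnCharChev
import Cfsg.Agent.FastGrp
import Cfsg.Agent.Prune
set_option linter.all false
prune_inst 0x7f00000000000000000000000000000000000000000000000000000000000000000000000000000000000000000000000000000000000000000000000000000000000000000000000000000000000000003fffffffffffffffffffffffffffbeffbdffffffff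
open scoped Cfsg.Agent.FastGrp

/-!
# The table of the groups with `HasCG'` (task 1840, S4898)
-/

set_option autoImplicit false
set_option linter.unusedSectionVars false

namespace Cfsg.Agent.H783.CGTable

open CoxeterSystem Cfsg.Agent.ChevalleyStructure.CoxeterGeom Cfsg.Agent.Tits.Roots Cfsg.Agent.Tits.Core
open Cfsg Cfsg.Agent.Nodes.Reps Cfsg.Agent.Nodes.BNOf Cfsg.Agent.Nodes.RGDLib Cfsg.Agent.Omega.EH3.Kf.Lev
open Cfsg.Agent.H396 Cfsg.Agent.H396.CommTab Cfsg.Agent.H638.FD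

/-! ### Transport -/

theorem of_equiv {p : ℕ} {G H : Type*} [Group G] [Group H] (e : G ≃* H) (hG : HasCG' p G) : HasCG' p H := by
  obtain ⟨l, M, A, h, T, n, X, hl, hW, R, hX, hC, hM, h2⟩ := hG
  refine ⟨l, M, A, h, T.map e.toMonoidHom, fun i => e (n i), fun x => (X x).map e.toMonoidHom, hl, hW,
    Nodes.RGDLib.rgd_map_of_injective R e.toMonoidHom e.injective, ?_, ?_, hM, fun h3 => ⟨(h2 h3).1, ?_⟩⟩
  · have h1 : (Nodes.RGDLib.G1 M.toCoxeterSystem h X).map e.toMonoidHom =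
        Nodes.RGDLib.G1 M.toCoxeterSystem h (fun x => (X x).map e.toMonoidHom) := by
      unfold Nodes.RGDLib.G1 RGD.Sup
      rw [Subgroup.map_iSup]
    rw [← h1, hX, Subgroup.map_top_of_surjective _ e.surjective]
  · intro r hr h0 hs
    have h1 : (RGD.Sup X (RGD.Pos M.toCoxeterSystem h)).map e.toMonoidHom =
        RGD.Sup (fun x => (X x).map e.toMonoidHom) (RGD.Pos M.toCoxeterSystem h) := by
      unfold RGD.Sup
      rw [Subgroup.map_iSup]
    rw [← h1, ← Subgroup.map_commutator]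
    exact Subgroup.map_mono (hC r hr h0 hs)
  · obtain ⟨i, hi⟩ := (h2 h3).2
    refine ⟨i, ?_⟩
    rwa [Nat.card_congr ((X (sr i)).equivMapOfInjective e.toMonoidHom e.injective).toEquiv] at hi

/-- rank at least three -/
theorem of_three {p : ℕ} {G : Type*} [Group G] {l : ℕ} {M : CoxeterMatrix (Fin l)} {A : Fin l → Fin l → ℤ}
    {h : IsCartan M A} {T : Subgroup G} {n : Fin l → G} {X : (Fin l → ℤ) → Subgroup G} (hl : 3 ≤ l)
    (hW : Finite M.Group) (R : RGD M.toCoxeterSystem h p T n X) (hX : G1 M.toCoxeterSystem h X = ⊤)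
    (hC : CommGen M.toCoxeterSystem h X) (hc : Conn M) : HasCG' p G :=
  ⟨l, M, A, h, T, n, X, by omega, hW, R, hX, hC, hc, fun h2 => by omega⟩

/-! ### Witt frames -/

section Model

open Cfsg.Agent.Nodes Cfsg.Agent.Nodes.TypeC
open Cfsg.Agent.Nodes.Comb Cfsg.Agent.Nodes.WittRoot
open Cfsg.Agent.Nodes.WittAll Cfsg.Agent.Nodes.WittU Cfsg.Agent.Nodes.WittRGD
open Cfsg.Agent.TitsThree Cfsg.Agent.TitsThree.Siegel Cfsg.Agent.TitsThree.SiegelGen
  Cfsg.Agent.TitsThree.WittFrame Cfsg.Agent.TitsThree.WBridge Cfsg.Agent.TitsThree.WittWeyl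
  Cfsg.Agent.TitsThree.FrameCN Cfsg.Agent.TitsThree.KSideU Cfsg.Agent.TitsThree.KSideUDesc
open Cfsg.Agent.LieClassical.HermBasic
open Cfsg.Agent.Omega.EH3.Kf
open Cfsg.Agent.FixBN.WittNodeB

variable {F : Type*} [Field F] {V : Type*} [AddCommGroup V] [Module F V] {H : HForm F V} {n : ℕ}
  {Fr : Frame H (Fin n)} {K : Type*} [Group K] {p : ℕ}

/-- the first root group -/
theorem card_first (M : Model Fr K) [Finite F] {i : Fin n} (hi : (i : ℕ) + 1 < n) :
    Nat.card (Nodes.WittModel.X M (sr i)) = Nat.card F := by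
  obtain ⟨b, hb⟩ : ∃ b, nx i = b := ⟨_, rfl⟩
  have hb' : nx i = (⟨i + 1, hi⟩, false) := by unfold nx; rw [dif_pos hi]
  have hne : ((i, true) : Fin n × Bool).1 ≠ b.1 := by
    rw [← hb, hb']
    simp [Fin.ext_iff]
  have hmem : ∀ k : K, k ∈ Nodes.WittModel.X M (sr i) ↔ ∃ t : F, k = M.X (i, true) b t := by
    intro k
    rw [Nodes.WittModel.mem_X]
    constructor
    · rintro ⟨g, hg, hgr, rfl⟩
      rw [rg_sr, hb, PG_ne Fr hne] at hgr
      obtain ⟨t, rfl⟩ := hgr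
      exact ⟨t, rfl⟩
    · rintro ⟨t, rfl⟩
      refine ⟨Fr.X (i, true) b t, M.hX _ _ _, ?_, rfl⟩
      rw [rg_sr, hb, PG_ne Fr hne]
      exact ⟨t, rfl⟩
  symm
  refine Nat.card_congr (Equiv.ofBijective (fun t : F => (⟨M.X (i, true) b t, (hmem _).2 ⟨t, rfl⟩⟩ :
    ↥(Nodes.WittModel.X M (sr i)))) ⟨?_, ?_⟩)
  · intro s t hst
    have h1 : M.X (i, true) b s = M.X (i, true) b t := congrArg Subtype.val hst
    have h2 : M.X (i, true) b (s - t) = 1 := by
      have h3 := X_add' M (i, true) b (s - t) t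
      rw [sub_add_cancel, h1] at h3
      exact mul_right_cancel (b := M.X (i, true) b t) (by rw [← h3, one_mul])
    exact sub_eq_zero.1 (X_eq_one M hne h2)
  · rintro ⟨k, hk⟩
    obtain ⟨t, rfl⟩ := (hmem k).1 hk
    exact ⟨t, rfl⟩

theorem B_two (i j : Fin 2) : CoxeterMatrix.B 2 i j ≠ 3 := by
  fin_cases i <;> fin_cases j <;> decide

theorem hasCG'_C [Finite F] (M : Model Fr K) (hA : AmbT Fr p M.I) [Finite V] [Fact p.Prime] [CharP F p] {p0 : Fr.Adm}
    (hp0 : p0.c ≠ 0) (hn : 2 ≤ n) (hG : TwC.Gd (Nodes.WittModel.X M)) (hF : n = 2 → 2 < Nat.card F) : HasCG' p K := by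
  refine ⟨n, CoxeterMatrix.B n, A n, isCartan n, _, _, _, hn, finite_W (CoxeterMatrix.B n).toCoxeterSystem,
    rgdC_model M hA hp0 _, WittModel.G1_eq_top _ (by omega) _,
    fun _ hr h0 hs => hG.gen _ hr h0 hs, Nodes.KindBC.irr n, ?_⟩
  rintro rfl
  refine ⟨B_two, 0, ?_⟩
  rw [card_first M (by norm_num)]
  exact hF rfl

end Model

section Classical

open Cfsg.Agent.Nodes Cfsg.Agent.Nodes.TypeC
open Cfsg.Agent.Nodes.Comb Cfsg.Agent.Nodes.WittRoot
open Cfsg.Agent.Nodes.WittAll Cfsg.Agent.Nodes.WittU Cfsg.Agent.Nodes.WittRGD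
open Cfsg.Agent.TitsThree Cfsg.Agent.TitsThree.Siegel Cfsg.Agent.TitsThree.SiegelGen
  Cfsg.Agent.TitsThree.WittFrame Cfsg.Agent.TitsThree.WBridge Cfsg.Agent.TitsThree.WittWeyl
  Cfsg.Agent.TitsThree.FrameCN Cfsg.Agent.TitsThree.KSideU Cfsg.Agent.TitsThree.KSideUDesc
open Cfsg.Agent.LieClassical.HermBasic
open Cfsg.Agent.Omega.EH3.Kf

theorem psu {F : Type*} [Field F] [Fintype F] {q N : ℕ} (hF : Fintype.card F = q ^ 2) {p : ℕ} [Fact p.Prime] [CharP F p]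
    (hN : 4 ≤ N) : HasCG' p (PSU N F q) := by
  have hq : 2 ≤ q := two_le hF
  have hF2 : 2 < Nat.card F := by
    rw [Nat.card_eq_fintype_card, hF]
    nlinarith only [hq]
  obtain ⟨m, hm⟩ : ∃ m, N = 2 * m ∨ N = 2 * m + 1 := ⟨N / 2, by omega⟩
  rcases hm with hm | hm
  · subst hm
    obtain ⟨W, hW⟩ := exists_wframe_even (N := 2 * m) hF rfl
    obtain ⟨p0, hp0, -⟩ := exists_adm hF W
    exact hasCG'_C (KInstU.model hF (by omega) W) (AmbT.of_amb (amb_U hF W) p) hp0 (by omega)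
      (TwWitt.gd_of_tr _ (htr_even hF W hW) hp0) fun _ => hF2
  · subst hm
    obtain ⟨W, d, hd, hW⟩ := exists_wframe_odd (N := 2 * m + 1) hF rfl
    obtain ⟨p0, hp0, -⟩ := exists_adm hF W
    refine hasCG'_C (KInstU.model hF (by omega) W) (AmbT.of_amb (amb_U hF W) p) hp0 (by omega)
      (UOdd.gd _ ⟨d, ?_, exists_ok hF W hW⟩) fun _ => hF2
    have h1 : (HU hF (2 * m + 1)).h d d = 1 := hd
    rw [h1]
    exact one_ne_zero

theorem psp {F : Type*} [Field F] [Fintype F] {m : ℕ} (hm : 2 ≤ m) (hF : 2 < Fintype.card F) {p : ℕ}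
    [Fact p.Prime] [CharP F p] : HasCG' p (PSp m F) := by
  obtain ⟨t, ht0, ht1⟩ := exists_ne hF
  have hw : ∀ p : (SpIdent.frame m F).Adm, p.w = 0 := fun p =>
    (Submodule.mem_bot F).1 ((SpIdent.frame m F).ok_mem p.ok)
  exact hasCG'_C (KInstSp.model m F) (AmbT.of_amb amb_Sp p) (p0 := SpIdent.adm 1) one_ne_zero hm
    (TwWitt.gd_of_sp _ hw (fun _ => rfl) (fun c => ⟨SpIdent.adm c, rfl⟩) ht0 ht1)
    fun _ => by rwa [Nat.card_eq_fintype_card]

open QuadraticMap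
open Cfsg.Agent.LieClassical Cfsg.Agent.LieClassical.OrthCore Cfsg.Agent.LieClassical.OrthTrans
open Cfsg.Agent.LieClassical.OrthSimple Cfsg.Agent.LieClassical.OrthFinite
open Cfsg.Agent.LieClassical.OrthForms
open Cfsg.Agent.TitsThree.KSideO Cfsg.Agent.TitsThree.StdData Cfsg.Agent.Nodes.WittInst

variable {F : Type*} [Field F] {m : ℕ}

theorem po_odd [Finite F] (h2 : (2 : F) ≠ 0) (hm : 3 ≤ m) {p : ℕ} [Fact p.Prime] [CharP F p] :
    HasCG' p (Cfsg.POmega F (Cfsg.quadFormOdd m F)) := by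
  rw [← coe_oddForm]
  have hG : _root_.Cfsg.Agent.LieClassical.OrthTrans.Good (oddForm m F) := by
    apply good_of_finite (nondeg_oddForm m F h2)
    rw [Module.finrank_fintype_fun_eq_card, Fintype.card_sum, Fintype.card_sum, Fintype.card_fin,
      Fintype.card_unit]
    omega
  have hp : ((embOdd m F).ngt ⟨1, -1 ^ 2, rfl⟩).c ≠ 0 := by
    change (1 : F)⁻¹ * (-1 ^ 2) ≠ 0
    simp
  refine hasCG'_C (model (wodd m F) hG ⟨_, hp⟩) (AmbT.of_amb (amb_O_of_two _ h2) p) hp (by omega) ?_ (fun h => by omega)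
  refine UOdd.gd _ ?_
  have hw := ((embOdd m F).ngt ⟨1, -1 ^ 2, rfl⟩)
  refine exists_d (wodd m F) h2 (d := ((embOdd m F).ngt ⟨1, -1 ^ 2, rfl⟩).w)
    ((embOdd m F).ngt ⟨1, -1 ^ 2, rfl⟩).ok.1 ?_
  intro h0
  apply hp
  have h3 : ((embOdd m F).ngt ⟨1, -1 ^ 2, rfl⟩).c = -(oddForm m F) ((embOdd m F).ngt ⟨1, -1 ^ 2, rfl⟩).w :=
    ((embOdd m F).ngt ⟨1, -1 ^ 2, rfl⟩).ok.2
  rw [h3, h0, _root_.neg_zero]

theorem po_minus [Finite F] (a b : F)
    (hab : ∀ z₁ z₂ : F, z₁ ^ 2 + a * z₁ * z₂ + b * z₂ ^ 2 = 0 → z₁ = 0 ∧ z₂ = 0)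
    (hm : 3 ≤ m) {p : ℕ} [Fact p.Prime] [CharP F p] :
    HasCG' p (Cfsg.POmega F (Cfsg.quadFormMinus m F a b)) := by
  rw [← coe_minusForm]
  have hG : _root_.Cfsg.Agent.LieClassical.OrthTrans.Good (minusForm m F a b) := by
    apply good_of_finite (nondeg_minusForm m F a b hab)
    rw [Module.finrank_fintype_fun_eq_card, Fintype.card_sum, Fintype.card_sum, Fintype.card_fin,
      Fintype.card_fin]
    omega
  have hp : ((embMinus m F a b hab).ngt ⟨(1, 0), -nf a b (1, 0), rfl⟩).c ≠ 0 := by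
    change (1 : F)⁻¹ * (-nf a b (1, 0)) ≠ 0
    simp [nf]
  by_cases h2 : (2 : F) = 0
  · have h3 : CharP F 2 := CharTwo.of_one_ne_zero_of_two_eq_zero one_ne_zero h2
    have hp2 : p = 2 := CharP.eq F ‹CharP F p› h3
    subst hp2
    refine hasCG'_C (model (wminus m F a b hab) hG ⟨_, hp⟩)
      (ambT_O _ fun g hg hg2 hb => fixp_minus a b hab h2 (by omega) hG hg hg2 hb) hp (by omega) ?_ (fun h => by omega)
    exact TwWitt.gd_of_surj (model (wminus m F a b hab) hG ⟨_, hp⟩) (OMinusBd.exists_h_minus a b hab)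
  · refine hasCG'_C (model (wminus m F a b hab) hG ⟨_, hp⟩) (AmbT.of_amb (amb_O_of_two _ h2) p) hp (by omega) ?_
      (fun h => by omega)
    refine UOdd.gd _ (exists_d (wminus m F a b hab) h2
      (d := ((embMinus m F a b hab).ngt ⟨(1, 0), -nf a b (1, 0), rfl⟩).w)
      ((embMinus m F a b hab).ngt ⟨(1, 0), -nf a b (1, 0), rfl⟩).ok.1 ?_)
    intro h0
    apply hp
    have h3 : ((embMinus m F a b hab).ngt ⟨(1, 0), -nf a b (1, 0), rfl⟩).c =
        -(minusForm m F a b) ((embMinus m F a b hab).ngt ⟨(1, 0), -nf a b (1, 0), rfl⟩).w :=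
      ((embMinus m F a b hab).ngt ⟨(1, 0), -nf a b (1, 0), rfl⟩).ok.2
    rw [h3, h0, _root_.neg_zero]

theorem of_sl {p : ℕ} {G : Type*} [Group G] {l : ℕ} {M : CoxeterMatrix (Fin l)} {A : Fin l → Fin l → ℤ}
    {h : IsCartan M A} {T : Subgroup G} {n : Fin l → G} {X : (Fin l → ℤ) → Subgroup G} (hl : 3 ≤ l)
    (hW : Finite M.Group) (R : RGD M.toCoxeterSystem h p T n X) (hX : G1 M.toCoxeterSystem h X = ⊤)
    (h4 : ∀ i j, M i j ≠ 4) (h6 : ∀ i j, M i j ≠ 6) (hc : Conn M) : HasCG' p G :=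
  of_three hl hW R hX (comm_of_sl R (Cfsg.Agent.KFacts.RgdFiltWitt.sl_of_ne h4 h6)) hc

theorem psl {F : Type*} [Field F] [Finite F] (n : ℕ) (hn : 3 ≤ n) {p : ℕ} [Fact p.Prime] [CharP F p] :
    HasCG' p (Matrix.ProjectiveSpecialLinearGroup (Fin (n + 1)) F) := by
  have hc : ∀ i j : Fin n, Cfsg.Agent.LieRecognition.BNCox.cA n i j ≤ 3 := by
    intro i j
    rw [Cfsg.Agent.LieRecognition.BNCox.cA_apply]
    show (if (i : ℕ) = j then 1 else if (i : ℕ) + 1 = j ∨ (j : ℕ) + 1 = i then 3 else 2) ≤ 3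
    split_ifs <;> norm_num
  have hW : Finite (Cfsg.Agent.LieRecognition.BNCox.cA n).Group :=
    Nodes.RootsA.finite_W (Cfsg.Agent.LieRecognition.BNCox.cA n).toCoxeterSystem (Nodes.RootsA.isCartan n)
  exact of_sl (h := Nodes.RootsA.isCartan n) hn hW (Nodes.RGDTypeA.rgd_psl _ _)
    (Nodes.RGDTypeA.G1_psl_eq_top _ _)
    (fun i j h => by have := hc i j; omega) (fun i j h => by have := hc i j; omega)
    (Nodes.Chart.Ty.irrA n (by omega))

theorem po_plus [Finite F] (n : ℕ) {p : ℕ} [Fact p.Prime] [CharP F p] :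
    HasCG' p (Cfsg.POmega F (Cfsg.quadFormPlus (n + 3) F)) := by
  rw [← coe_plusForm]
  have hG : _root_.Cfsg.Agent.LieClassical.OrthTrans.Good (plusForm (n + 3) F) := by
    apply good_of_finite (nondeg_plusForm (n + 3) F)
    rw [Module.finrank_fintype_fun_eq_card, Fintype.card_sum, Fintype.card_fin]
    omega
  have hc : ∀ i j : Fin (n + 1 + 2), Nodes.TypeD.M (n + 1) i j ≤ 3 := by
    intro i j
    show (if i = j then 1 else if Nodes.TypeD.Adj i j ∨ Nodes.TypeD.Adj j i then 3 else 2) ≤ 3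
    split_ifs <;> norm_num
  exact of_sl (by omega) (Nodes.TypeD.finite_W (Nodes.TypeD.M (n + 1)).toCoxeterSystem)
    (rgdD_model (wplus (n + 3) F) hG (amb_plus _) (adm_plus _) _)
    (G1D_eq_top (wplus (n + 3) F) (toPOmega hG) (toPOmega_surjective hG) (adm_plus _) _)
    (fun i j h => by have := hc i j; omega) (fun i j h => by have := hc i j; omega)
    (Nodes.Chart.Ty.irrD (n + 1) (by omega))

end Classical

section Chev

open Cfsg.Lie Cfsg.Agent.Nodes Cfsg.Agent.Nodes.RGDChev Cfsg.Agent.Omega.EH3.Kf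

universe u

theorem group {D : ChevalleyDatum} {l : ℕ} {M : CoxeterMatrix (Fin l)} (hp : IsType D l M) (K : Type u)
    [Field K] [Finite K] (p : ℕ) [CharP K p] (hl : 3 ≤ l) (h4 : ∀ i j, M i j ≠ 4) (h6 : ∀ i j, M i j ≠ 6)
    (hc : Conn M) : HasCG' p ↥(D.group K) := by
  have : Fact p.Prime := ⟨CharP.char_is_prime K p⟩
  exact of_sl hl (finite_W hp M.toCoxeterSystem) (rgd (K := K) hp M.toCoxeterSystem p) (G1_eq_top hp _) h4 h6 hc

theorem e6 (K : Type u) [Field K] [Finite K] (p : ℕ) [CharP K p] : HasCG' p ↥(chevE6.group K) :=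
  group (l := 6) (M := CoxeterMatrix.E₆) (by simp [IsType, typeList]) K p (by norm_num)
    (fun i j => (lab_E6 i j).1) (fun i j => (lab_E6 i j).2) (Nodes.Chart.Ty.irr .E6 trivial)

theorem e7 (K : Type u) [Field K] [Finite K] (p : ℕ) [CharP K p] : HasCG' p ↥(chevE7.group K) :=
  group (l := 7) (M := CoxeterMatrix.E₇) (by simp [IsType, typeList]) K p (by norm_num)
    (fun i j => (lab_E7 i j).1) (fun i j => (lab_E7 i j).2) (Nodes.Chart.Ty.irr .E7 trivial)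

theorem e8 (K : Type u) [Field K] [Finite K] (p : ℕ) [CharP K p] : HasCG' p ↥(chevE8.group K) :=
  group (l := 8) (M := CoxeterMatrix.E₈) (by simp [IsType, typeList]) K p (by norm_num)
    (fun i j => (lab_E8 i j).1) (fun i j => (lab_E8 i j).2) (Nodes.Chart.Ty.irr .E8 trivial)

theorem f4 (K : Type u) [Field K] [Finite K] (p : ℕ) [CharP K p] (hK : ∃ c : K, c ≠ 0 ∧ c ≠ 1) :
    HasCG' p ↥(chevF4.group K) := by
  have : Fact p.Prime := ⟨CharP.char_is_prime K p⟩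
  have hp := Omega.ML.Ex.Lie2.DatF4.isType_F4
  exact of_three (h := hp.isCartan) (by norm_num) (finite_W hp CoxeterMatrix.F₄.toCoxeterSystem)
    (rgd (K := K) hp CoxeterMatrix.F₄.toCoxeterSystem p) (G1_eq_top hp _)
    (Omega.ML.Ex.Lie2.DatF4.commGen_F4 hK) (Nodes.Chart.Ty.irr .F4 trivial)

theorem G2_ne (i j : Fin 2) : CoxeterMatrix.G₂ i j ≠ 3 := by
  fin_cases i <;> fin_cases j <;> decide

theorem g2 (K : Type u) [Field K] [Finite K] (p : ℕ) [CharP K p]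
    (hK : ∃ a a' : K, a ≠ 0 ∧ a ≠ 1 ∧ a' ≠ 0 ∧ a' ≠ 1 ∧ a ≠ a') : HasCG' p ↥(chevG2.group K) := by
  have : Fact p.Prime := ⟨CharP.char_is_prime K p⟩
  have hp := FamG2.isType
  refine ⟨2, CoxeterMatrix.G₂, _, hp.isCartan, _, _, _, le_rfl, finite_W hp CoxeterMatrix.G₂.toCoxeterSystem,
    rgd (K := K) hp CoxeterMatrix.G₂.toCoxeterSystem p, G1_eq_top hp _, commGen_G2 K hK,
    Nodes.Chart.Ty.irr .G2 trivial, fun _ => ⟨G2_ne, 1, ?_⟩⟩
  have e : (sr 1 : Fin 2 → ℤ) = vec chevG2 2 6 := FamG2.vec6.symm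
  rw [e, H568.card_XV hp (by decide)]
  have : Fintype K := Fintype.ofFinite K
  classical
  obtain ⟨a, a', h0, h1, h0', h1', hne⟩ := hK
  rw [Nat.card_eq_fintype_card]
  exact Fintype.two_lt_card_iff.2 ⟨0, 1, a, zero_ne_one, h0.symm, h1.symm⟩

theorem tw_e6 {K : Type u} [Field K] [Fintype K] {q : ℕ} (hq : IsPrimePow q) (hK : Fintype.card K = q ^ 2) (p : ℕ)
    [CharP K p] : HasCG' p ↥(twistedE6 K q) := by
  have : Fact p.Prime := ⟨CharP.char_is_prime K p⟩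
  obtain ⟨φ, hφ, hqq⟩ := ChevalleyStructure.TwE6Basic.exists_frob hq hK
  exact of_three (by norm_num) (Cfsg.Agent.KFacts.TwESix.Comb.finiteW CoxeterMatrix.F₄.toCoxeterSystem)
    (Nodes.RGDTwE6.rgd CoxeterMatrix.F₄.toCoxeterSystem hφ hqq p) (Nodes.RGDTwE6.G1_eq_top _ hφ hqq)
    (commGen_E6 _ hφ hqq (p := p) (TwE6.exists_ne hφ hK hq.one_lt)) (Nodes.Chart.Ty.irr .F4 trivial)

theorem d4 {K : Type u} [Field K] [Fintype K] {q : ℕ} (hq : IsPrimePow q) (hK : Fintype.card K = q ^ 3) (p : ℕ)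
    [CharP K p] : HasCG' p ↥(twistedD4 K q) := by
  have : Fact p.Prime := ⟨CharP.char_is_prime K p⟩
  obtain ⟨φ, hφ⟩ := ChevalleyStructure.D4Fixed.exists_frob hq hK
  refine ⟨2, CoxeterMatrix.G₂, _, RGDTwD4.isCartan, _, _, _, le_rfl,
    Nodes.RGDFold.finite_W (hp := RGDTwD4.hp) CoxeterMatrix.G₂.toCoxeterSystem RGDTwD4.isCartan RGDTwD4.foldData,
    RGDTwD4.rgd CoxeterMatrix.G₂.toCoxeterSystem hK hφ p,
    RGDTwD4.G1_eq_top CoxeterMatrix.G₂.toCoxeterSystem hK hφ, commGen_D4 hK hφ,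
    Nodes.Chart.Ty.irr .G2 trivial, fun _ => ⟨G2_ne, 1, ?_⟩⟩
  rw [H934.RowTwD4.card_X hφ hq.one_lt hK 1, if_neg (by decide)]
  have := hq.one_lt
  calc 2 < 2 ^ 3 := by norm_num
    _ ≤ q ^ 3 := Nat.pow_le_pow_left this 3

end Chev

open Cfsg

/-- **The table.** -/
theorem table' {p : ℕ} {G : Type*} [Group G] (h : IsLieTypeChar p G) : H638.FD.HasCG' p G ∨ H396.CommTab.Exc p G ∨
    ∃ (F : Type) (_ : Field F) (_ : Fintype F) (_ : CharP F p), Nonempty (G ≃* Matrix.ProjectiveSpecialLinearGroup (Fin 3) F) := by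
  rcases h with ⟨F, i1, i2, i3, n, hn, hn2, ⟨e⟩⟩ | ⟨F, i1, i2, i3, m, hm, hm2, ⟨e⟩⟩ |
    ⟨F, i1, i2, i3, n, q, hF, hn, hn2, ⟨e⟩⟩ | ⟨F, i1, i2, i3, m, hm, hodd, ⟨e⟩⟩ |
    ⟨F, i1, i2, i3, m, hm, ⟨e⟩⟩ | ⟨F, i1, i2, i3, m, a, b, hm, hab, ⟨e⟩⟩ |
    ⟨F, i1, i2, i3, h⟩ | ⟨F, i1, i2, i3, q, hq, h⟩ | h | h | h
  · have : Fact p.Prime := ⟨CharP.char_is_prime F p⟩
    rcases (by omega : n = 2 ∨ n = 3 ∨ 4 ≤ n) with rfl | rfl | h3
    · exact Or.inr (Or.inl (Or.inl ⟨F, i1, i2, i3, hn2 rfl, ⟨e⟩⟩))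
    · exact Or.inr (Or.inr ⟨F, i1, i2, i3, ⟨e⟩⟩)
    · obtain ⟨k, rfl⟩ : ∃ k, n = k + 1 := ⟨n - 1, by omega⟩
      exact Or.inl (of_equiv e.symm (psl k (by omega)))
  · have : Fact p.Prime := ⟨CharP.char_is_prime F p⟩
    rcases Nat.lt_or_ge 2 (Fintype.card F) with h3 | h3
    · exact Or.inl (of_equiv e.symm (psp hm h3))
    · have h4 : Fintype.card F = 2 := le_antisymm h3 Fintype.one_lt_card
      exact Or.inr (Or.inl (Or.inr (Or.inr (Or.inr (Or.inr (Or.inr (Or.inl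
        ⟨char_eq_of_card Nat.prime_two h4, F, i1, i2, m, h4, by
          by_contra h5
          have := hm2 (by omega)
          omega, ⟨e⟩⟩)))))))
  · have : Fact p.Prime := ⟨CharP.char_is_prime F p⟩
    rcases Nat.lt_or_ge 3 n with h3 | h3
    · exact Or.inl (of_equiv e.symm (psu hF h3))
    · obtain rfl : n = 3 := by omega
      exact Or.inr (Or.inl (Or.inr (Or.inl ⟨F, i1, i2, i3, q, hF, fun h => hn2 ⟨rfl, h⟩, ⟨e⟩⟩)))
  · have : Fact p.Prime := ⟨CharP.char_is_prime F p⟩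
    have h2 : (2 : F) ≠ 0 := by
      intro h0
      have h4 : CharP F 2 := CharTwo.of_one_ne_zero_of_two_eq_zero one_ne_zero h0
      have h5 : Even (Fintype.card F) := by
        rw [Nat.even_iff]
        exact FiniteField.even_card_of_char_two (ringChar.eq F 2)
      exact (Nat.not_even_iff_odd.2 hodd) h5
    exact Or.inl (of_equiv e.symm (po_odd h2 hm))
  · have : Fact p.Prime := ⟨CharP.char_is_prime F p⟩
    obtain ⟨k, rfl⟩ : ∃ k, m = k + 3 := ⟨m - 3, by omega⟩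
    exact Or.inl (of_equiv e.symm (po_plus k))
  · have : Fact p.Prime := ⟨CharP.char_is_prime F p⟩
    exact Or.inl (of_equiv e.symm (po_minus a b hab (by omega)))
  · rcases h with ⟨h3, ⟨e⟩⟩ | ⟨⟨e⟩⟩ | ⟨⟨e⟩⟩ | ⟨⟨e⟩⟩ | ⟨⟨e⟩⟩
    · rcases Nat.lt_or_ge 3 (Fintype.card F) with h4 | h4
      · refine Or.inl (of_equiv e.symm (g2 F p ?_))
        classical
        have h5 : 2 < Fintype.card Fˣ := by rw [Fintype.card_units]; omega
        obtain ⟨x, y, z, h6, h7, h8⟩ := Fintype.two_lt_card_iff.1 h5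
        by_cases hx : x = 1
        · subst hx
          exact ⟨y, z, y.ne_zero, fun h => h6 (Units.ext h.symm), z.ne_zero, fun h => h7 (Units.ext h.symm),
            fun h => h8 (Units.ext h)⟩
        · by_cases hy : y = 1
          · subst hy
            exact ⟨x, z, x.ne_zero, fun h => hx (Units.ext h), z.ne_zero, fun h => h8 (Units.ext h.symm),
              fun h => h7 (Units.ext h)⟩
          · exact ⟨x, y, x.ne_zero, fun h => hx (Units.ext h), y.ne_zero, fun h => hy (Units.ext h),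
              fun h => h6 (Units.ext h)⟩
      · have h5 : Fintype.card F = 3 := le_antisymm h4 h3
        exact Or.inr (Or.inl (Or.inr (Or.inr (Or.inr (Or.inr (Or.inr (Or.inr (Or.inl
          ⟨char_eq_of_card Nat.prime_three h5, F, i1, i2, h5, ⟨e⟩⟩))))))))
    · rcases Nat.lt_or_ge 2 (Fintype.card F) with h3 | h3
      · exact Or.inl (of_equiv e.symm (f4 F p (exists_ne h3)))
      · have h4 : Fintype.card F = 2 := le_antisymm h3 Fintype.one_lt_card
        exact Or.inr (Or.inl (Or.inr (Or.inr (Or.inr (Or.inr (Or.inr (Or.inr (Or.inr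
          ⟨char_eq_of_card Nat.prime_two h4, F, i1, i2, h4, ⟨e⟩⟩))))))))
    · exact Or.inl (of_equiv e.symm (e6 F p))
    · exact Or.inl (of_equiv e.symm (e7 F p))
    · exact Or.inl (of_equiv e.symm (e8 F p))
  · rcases h with ⟨hK, ⟨e⟩⟩ | ⟨hK, ⟨e⟩⟩
    · exact Or.inl (of_equiv e.symm (tw_e6 hq hK p))
    · exact Or.inl (of_equiv e.symm (d4 hq hK p))
  · exact Or.inr (Or.inl (Or.inr (Or.inr (Or.inl h))))
  · exact Or.inr (Or.inl (Or.inr (Or.inr (Or.inr (Or.inr (Or.inl h))))))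
  · exact Or.inr (Or.inl (Or.inr (Or.inr (Or.inr (Or.inl h)))))

end Cfsg.Agent.H783.CGTable
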